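import Cfsg.Agent.H1.Base8

/-! Base sizes, part 9: the certificates. -/

set_option autoImplicit false
set_option maxRecDepth 100000

namespace CfsgH1.BS.Cert

def m5As : List Mat :=
  [[[2, 0, 0, 0], [0, 2, 0, 0], [0, 0, 2, 0], [0, 0, 0, 2]],
   [[4, 0, 0, 0], [0, 4, 0, 0], [0, 0, 4, 0], [0, 0, 0, 4]],
   [[1, 0, 0, 0], [0, 1, 0, 0], [0, 0, 4, 0], [0, 0, 0, 4]],
   [[1, 0, 0, 0], [0, 4, 0, 0], [0, 0, 1, 0], [0, 0, 0, 4]],
   [[0, 0, 1, 0], [0, 0, 0, 1], [1, 0, 0, 0], [0, 1, 0, 0]],
   [[0, 1, 0, 0], [1, 0, 0, 0], [0, 0, 0, 1], [0, 0, 1, 0]]]

def m5Ps : List (List (ℕ × Wrd)) :=
  [[(4, [false, false, false, false, false, false]), (4, [false, false, false, true, false, false]), (4, [false, false, true, false, false, false]), (4, [false, false, true, true, false, false])],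
   [(4, [false, false, false, false, false, true]), (4, [false, false, false, true, false, true]), (4, [false, false, true, false, false, true]), (4, [false, false, true, true, false, true])],
   [(4, [false, false, false, false, true, false]), (4, [false, false, false, true, true, false]), (4, [false, false, true, false, true, false]), (4, [false, false, true, true, true, false])],
   [(4, [false, false, false, false, true, true]), (4, [false, false, false, true, true, true]), (4, [false, false, true, false, true, true]), (4, [false, false, true, true, true, true])]]

def m5x : Vec := [0, 1, 1, 1]

def m5ay : Vec := [1, 0, 1, 3]

def m5aRs : List BRel :=
  [⟨(0, 1), (0, 1), (1, 0), [false, false, true, false, true, false], [true, true, true, true, false, false],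
    [([false, false, true, false, true, false], [true, true, true, true, false, false]), ([false, false, true, true, true, false], [true, false, false, true, false, false]), ([false, true, true, false, true, false], [true, false, false, true, true, false]), ([false, true, true, true, true, false], [true, false, true, false, true, false]), ([true, false, false, true, false, false], [false, true, false, false, false, true]), ([true, true, false, true, false, false], [true, true, false, true, false, true])]⟩,
   ⟨(0, 1), (0, 1), (1, 0), [true, false, false, true, false, false], [false, true, false, false, false, true],
    [([false, false, true, false, true, false], [true, true, true, true, false, false]), ([false, false, true, true, true, false], [true, false, false, true, false, false]), ([false, true, true, false, true, false], [true, false, false, true, true, false]), ([false, true, true, true, true, false], [true, false, true, false, true, false]), ([true, false, false, true, false, false], [false, true, false, false, false, true]), ([true, true, false, true, false, false], [true, true, false, true, false, true])]⟩]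

def m5afil : List (List (ℕ × List ℕ × Bool)) :=
  [[(1, [0], false), (4, [3], true), (3, [], false), (4, [], true)]]

def m5arec : List (ℕ × List ℕ) := [(2, []), (4, []), (1, [1, 2]), (3, [2]), (4, [0, 1, 2]), (4, [3])]

def m5aO : List (List Wrd) :=
  [[[true, false, false, false, false, false], [false, true, false, false, false, false], [false, false, true, false, false, false], [false, false, false, true, false, false], [false, false, false, false, true, false], [false, false, false, false, false, true]]]

def m3pAs : List Mat :=
  [[[2, 0, 0, 0], [0, 2, 0, 0], [0, 0, 2, 0], [0, 0, 0, 2]],
   [[1, 0, 0, 0], [0, 1, 0, 0], [0, 0, 2, 0], [0, 0, 0, 2]],
   [[1, 0, 0, 0], [0, 2, 0, 0], [0, 0, 1, 0], [0, 0, 0, 2]],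
   [[0, 0, 1, 0], [0, 0, 0, 1], [1, 0, 0, 0], [0, 1, 0, 0]],
   [[0, 1, 0, 0], [1, 0, 0, 0], [0, 0, 0, 1], [0, 0, 1, 0]]]

def m3pPs : List (List (ℕ × Wrd)) :=
  [[(1, [false, false, false, false, false]), (1, [false, false, true, false, false]), (1, [false, true, false, false, false]), (1, [false, true, true, false, false])],
   [(1, [false, false, false, false, true]), (1, [false, false, true, false, true]), (1, [false, true, false, false, true]), (1, [false, true, true, false, true])],
   [(1, [false, false, false, true, false]), (1, [false, false, true, true, false]), (1, [false, true, false, true, false]), (1, [false, true, true, true, false])],
   [(1, [false, false, false, true, true]), (1, [false, false, true, true, true]), (1, [false, true, false, true, true]), (1, [false, true, true, true, true])]]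

def m3px : Vec := [0, 1, 1, 1]

def m3pay : Vec := [0, 0, 0, 1]

def m3paRs : List BRel :=
  [⟨(0, 1), (1, 0), (1, 0), [false, false, true, false, false], [false, true, false, false, false],
    [([false, false, true, false, false], [false, true, false, false, false]), ([false, false, true, false, true], [true, false, false, false, true]), ([false, false, true, true, false], [true, true, true, true, false]), ([false, true, false, false, false], [false, false, true, false, false]), ([false, true, false, false, true], [true, true, true, false, true]), ([false, true, false, true, false], [true, false, false, true, false]), ([true, false, false, false, false], [true, true, true, false, false]), ([true, false, false, false, true], [false, false, true, false, true]), ([true, false, false, true, false], [false, true, false, true, false]), ([true, true, true, false, false], [true, false, false, false, false]), ([true, true, true, false, true], [false, true, false, false, true]), ([true, true, true, true, false], [false, false, true, true, false])]⟩,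
   ⟨(1, 0), (1, 0), (1, 2), [false, false, false, true, true], [true, false, true, false, true],
    [([false, false, false, true, true], [true, false, true, false, true]), ([false, false, false, true, true], [true, false, true, true, false]), ([false, false, false, true, true], [true, true, false, false, true]), ([false, false, false, true, true], [true, true, false, true, false]), ([false, true, true, false, false], [false, true, true, false, false]), ([false, true, true, false, false], [false, true, true, true, true]), ([false, true, true, false, false], [true, false, false, false, false]), ([false, true, true, false, false], [true, false, false, true, true]), ([true, true, true, true, true], [false, false, false, false, true]), ([true, true, true, true, true], [false, false, false, true, false]), ([true, true, true, true, true], [false, true, true, false, true]), ([true, true, true, true, true], [false, true, true, true, false])]⟩]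

def m3pafil : List (List (ℕ × List ℕ × Bool)) :=
  [[(1, [0], false), (2, [3], true), (1, [], false)]]

def m3parec : List (ℕ × List ℕ) := [(2, []), (1, [1]), (1, [0]), (1, [0, 2, 3]), (2, [0, 3])]

def m3paO : List (List Wrd) :=
  [[[true, false, false, false, false], [false, true, false, false, false], [false, false, true, false, false], [false, false, false, true, false], [false, false, false, false, true]],
   [[true, false, false, false, false], [false, true, false, false, false], [false, false, true, false, false], [true, false, true, true, false], [true, true, false, false, true]],
   [[true, false, false, false, false], [false, false, true, false, false], [false, true, false, false, false], [false, false, false, false, true], [false, false, false, true, false]],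
   [[true, false, false, false, false], [false, false, true, false, false], [false, true, false, false, false], [true, true, false, false, true], [true, false, true, true, false]]]

def m3pa : Ct := ⟨m3pay, m3paRs, m3pafil, m3parec, m3paO⟩

def m3pby : Vec := [1, 0, 1, 0]

def m3pbRs : List BRel :=
  [⟨(0, 1), (1, 0), (1, 0), [false, false, false, true, false], [false, false, true, false, false],
    [([false, false, false, false, false], [false, false, true, true, false]), ([false, false, false, true, false], [false, false, true, false, false]), ([false, false, true, false, false], [false, false, false, true, false]), ([false, false, true, true, false], [false, false, false, false, false]), ([false, true, false, true, false], [true, true, false, false, false]), ([false, true, true, true, false], [true, true, true, false, false]), ([true, false, false, false, true], [true, false, true, false, true]), ([true, false, false, true, true], [true, false, true, true, true]), ([true, false, true, false, true], [true, false, false, false, true]), ([true, false, true, true, true], [true, false, false, true, true]), ([true, true, false, false, false], [false, true, false, true, false]), ([true, true, true, false, false], [false, true, true, true, false])]⟩,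
   ⟨(1, 0), (1, 0), (1, 1), [false, true, false, false, true], [false, true, false, true, false],
    [([false, false, true, true, false], [false, false, true, true, false]), ([false, false, true, true, false], [true, false, false, false, false]), ([false, false, true, true, false], [true, true, false, false, true]), ([false, false, true, true, false], [true, true, true, true, true]), ([false, true, false, false, true], [false, true, false, true, false]), ([false, true, false, false, true], [true, false, false, true, true]), ([false, true, false, false, true], [true, false, true, false, true]), ([false, true, false, false, true], [true, true, true, false, false]), ([false, true, true, true, true], [false, true, true, true, false]), ([false, true, true, true, true], [true, false, false, false, true]), ([false, true, true, true, true], [true, false, true, true, true]), ([false, true, true, true, true], [true, true, false, false, false])]⟩]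

def m3pbfil : List (List (ℕ × List ℕ × Bool)) :=
  [[(2, [0], false), (1, [3], true), (1, [], false)]]

def m3pbrec : List (ℕ × List ℕ) := [(2, []), (2, [0, 3]), (1, [1]), (1, [0]), (1, [0, 2, 3])]

def m3pbO : List (List Wrd) :=
  [[[true, false, false, false, false], [false, true, false, false, false], [false, false, true, false, false], [false, false, false, true, false], [false, false, false, false, true]],
   [[true, false, false, false, false], [false, true, true, false, false], [false, false, true, false, false], [false, false, false, true, false], [false, false, false, true, true]],
   [[true, false, false, false, false], [false, false, false, false, true], [false, false, false, true, false], [false, false, true, false, false], [false, true, false, false, false]],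
   [[true, false, false, false, false], [false, false, false, true, true], [false, false, false, true, false], [false, false, true, false, false], [false, true, true, false, false]]]

def m3pb : Ct := ⟨m3pby, m3pbRs, m3pbfil, m3pbrec, m3pbO⟩

def m3pcy : Vec := [1, 1, 2, 2]

def m3pcRs : List BRel :=
  [⟨(0, 1), (1, 0), (1, 0), [false, false, true, false, false], [false, false, true, true, true],
    [([false, false, false, false, false], [false, false, false, false, true]), ([false, false, false, false, true], [false, false, false, false, false]), ([false, false, true, false, false], [false, false, true, true, true]), ([false, false, true, true, true], [false, false, true, false, false]), ([false, true, true, false, false], [false, true, true, true, false]), ([false, true, true, true, false], [false, true, true, false, false]), ([true, false, false, true, false], [true, false, false, true, true]), ([true, false, false, true, true], [true, false, false, true, false]), ([true, false, true, false, true], [true, false, true, true, false]), ([true, false, true, true, false], [true, false, true, false, true]), ([true, true, true, false, true], [true, true, true, true, true]), ([true, true, true, true, true], [true, true, true, false, true])]⟩,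
   ⟨(0, 1), (1, 0), (1, 0), [false, true, true, false, false], [false, true, true, true, false],
    [([false, false, false, false, false], [false, false, false, false, true]), ([false, false, false, false, true], [false, false, false, false, false]), ([false, false, true, false, false], [false, false, true, true, true]), ([false, false, true, true, true], [false, false, true, false, false]), ([false, true, true, false, false], [false, true, true, true, false]), ([false, true, true, true, false], [false, true, true, false, false]), ([true, false, false, true, false], [true, false, false, true, true]), ([true, false, false, true, true], [true, false, false, true, false]), ([true, false, true, false, true], [true, false, true, true, false]), ([true, false, true, true, false], [true, false, true, false, true]), ([true, true, true, false, true], [true, true, true, true, true]), ([true, true, true, true, true], [true, true, true, false, true])]⟩]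

def m3pcfil : List (List (ℕ × List ℕ × Bool)) :=
  [[(1, [1], false), (2, [3], false), (1, [3], true), (1, [], false), (1, [], true)]]

def m3pcrec : List (ℕ × List ℕ) := [(2, []), (1, [0, 2]), (1, [0]), (1, [2, 3]), (1, [0, 1, 2, 3])]

def m3pcO : List (List Wrd) :=
  [[[true, false, false, false, false], [false, true, false, false, false], [false, false, true, false, false], [false, false, false, true, false], [false, false, false, false, true]],
   [[true, false, false, false, false], [false, true, false, false, false], [false, true, true, false, false], [false, false, false, true, true], [false, false, false, false, true]],
   [[true, false, false, false, false], [true, true, false, false, true], [true, false, true, true, false], [false, false, false, true, false], [false, false, false, false, true]],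
   [[true, false, false, false, false], [true, true, false, false, true], [true, true, true, true, true], [false, false, false, true, true], [false, false, false, false, true]]]

def m3pc : Ct := ⟨m3pcy, m3pcRs, m3pcfil, m3pcrec, m3pcO⟩

def m3mAs : List Mat :=
  [[[2, 0, 0, 0, 0, 0, 0, 0], [0, 2, 0, 0, 0, 0, 0, 0], [0, 0, 2, 0, 0, 0, 0, 0], [0, 0, 0, 2, 0, 0, 0, 0], [0, 0, 0, 0, 2, 0, 0, 0], [0, 0, 0, 0, 0, 2, 0, 0], [0, 0, 0, 0, 0, 0, 2, 0], [0, 0, 0, 0, 0, 0, 0, 2]],
   [[1, 0, 0, 0, 0, 0, 0, 0], [0, 1, 0, 0, 0, 0, 0, 0], [0, 0, 1, 0, 0, 0, 0, 0], [0, 0, 0, 1, 0, 0, 0, 0], [0, 0, 0, 0, 2, 0, 0, 0], [0, 0, 0, 0, 0, 2, 0, 0], [0, 0, 0, 0, 0, 0, 2, 0], [0, 0, 0, 0, 0, 0, 0, 2]],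
   [[1, 0, 0, 0, 0, 0, 0, 0], [0, 1, 0, 0, 0, 0, 0, 0], [0, 0, 2, 0, 0, 0, 0, 0], [0, 0, 0, 2, 0, 0, 0, 0], [0, 0, 0, 0, 1, 0, 0, 0], [0, 0, 0, 0, 0, 1, 0, 0], [0, 0, 0, 0, 0, 0, 2, 0], [0, 0, 0, 0, 0, 0, 0, 2]],
   [[0, 0, 0, 0, 1, 0, 0, 0], [0, 0, 0, 0, 0, 1, 0, 0], [0, 0, 0, 0, 0, 0, 1, 0], [0, 0, 0, 0, 0, 0, 0, 1], [1, 0, 0, 0, 0, 0, 0, 0], [0, 1, 0, 0, 0, 0, 0, 0], [0, 0, 1, 0, 0, 0, 0, 0], [0, 0, 0, 1, 0, 0, 0, 0]],
   [[0, 0, 1, 0, 0, 0, 0, 0], [0, 0, 0, 1, 0, 0, 0, 0], [1, 0, 0, 0, 0, 0, 0, 0], [0, 1, 0, 0, 0, 0, 0, 0], [0, 0, 0, 0, 0, 0, 1, 0], [0, 0, 0, 0, 0, 0, 0, 1], [0, 0, 0, 0, 1, 0, 0, 0], [0, 0, 0, 0, 0, 1, 0, 0]],
   [[0, 1, 0, 0, 0, 0, 0, 0], [2, 0, 0, 0, 0, 0, 0, 0], [0, 0, 0, 1, 0, 0, 0, 0], [0, 0, 2, 0, 0, 0, 0, 0], [0, 0, 0, 0, 0, 1, 0, 0], [0, 0, 0, 0, 2, 0, 0, 0], [0, 0, 0, 0, 0, 0, 0, 1], [0, 0, 0, 0, 0, 0, 2, 0]],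
   [[1, 2, 0, 0, 0, 0, 0, 0], [2, 2, 0, 0, 0, 0, 0, 0], [0, 0, 1, 2, 0, 0, 0, 0], [0, 0, 2, 2, 0, 0, 0, 0], [0, 0, 0, 0, 1, 2, 0, 0], [0, 0, 0, 0, 2, 2, 0, 0], [0, 0, 0, 0, 0, 0, 1, 2], [0, 0, 0, 0, 0, 0, 2, 2]]]

def m3mPs : List (List (ℕ × Wrd)) :=
  [[(2, [false, false, false, false, false, false, false]), (1, [false, false, false, false, false, false, true]), (1, [false, false, false, false, false, true, true]), (2, [false, false, true, false, false, false, false]), (1, [false, false, true, false, false, false, true]), (1, [false, false, true, false, false, true, true]), (2, [false, true, false, false, false, false, false]), (1, [false, true, false, false, false, false, true]), (1, [false, true, false, false, false, true, true]), (2, [false, true, true, false, false, false, false]), (1, [false, true, true, false, false, false, true]), (1, [false, true, true, false, false, true, true])],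
   [(2, [false, false, false, false, false, false, true]), (1, [false, false, false, false, false, true, false]), (1, [false, false, false, false, false, true, true]), (2, [false, false, true, false, false, false, true]), (1, [false, false, true, false, false, true, false]), (1, [false, false, true, false, false, true, true]), (2, [false, true, false, false, false, false, true]), (1, [false, true, false, false, false, true, false]), (1, [false, true, false, false, false, true, true]), (2, [false, true, true, false, false, false, true]), (1, [false, true, true, false, false, true, false]), (1, [false, true, true, false, false, true, true])],
   [(2, [false, false, false, false, true, false, false]), (1, [false, false, false, false, true, false, true]), (1, [false, false, false, false, true, true, true]), (2, [false, false, true, false, true, false, false]), (1, [false, false, true, false, true, false, true]), (1, [false, false, true, false, true, true, true]), (2, [false, true, false, false, true, false, false]), (1, [false, true, false, false, true, false, true]), (1, [false, true, false, false, true, true, true]), (2, [false, true, true, false, true, false, false]), (1, [false, true, true, false, true, false, true]), (1, [false, true, true, false, true, true, true])],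
   [(2, [false, false, false, false, true, false, true]), (1, [false, false, false, false, true, true, false]), (1, [false, false, false, false, true, true, true]), (2, [false, false, true, false, true, false, true]), (1, [false, false, true, false, true, true, false]), (1, [false, false, true, false, true, true, true]), (2, [false, true, false, false, true, false, true]), (1, [false, true, false, false, true, true, false]), (1, [false, true, false, false, true, true, true]), (2, [false, true, true, false, true, false, true]), (1, [false, true, true, false, true, true, false]), (1, [false, true, true, false, true, true, true])],
   [(2, [false, false, false, true, false, false, false]), (1, [false, false, false, true, false, false, true]), (1, [false, false, false, true, false, true, true]), (2, [false, false, true, true, false, false, false]), (1, [false, false, true, true, false, false, true]), (1, [false, false, true, true, false, true, true]), (2, [false, true, false, true, false, false, false]), (1, [false, true, false, true, false, false, true]), (1, [false, true, false, true, false, true, true]), (2, [false, true, true, true, false, false, false]), (1, [false, true, true, true, false, false, true]), (1, [false, true, true, true, false, true, true])],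
   [(2, [false, false, false, true, false, false, true]), (1, [false, false, false, true, false, true, false]), (1, [false, false, false, true, false, true, true]), (2, [false, false, true, true, false, false, true]), (1, [false, false, true, true, false, true, false]), (1, [false, false, true, true, false, true, true]), (2, [false, true, false, true, false, false, true]), (1, [false, true, false, true, false, true, false]), (1, [false, true, false, true, false, true, true]), (2, [false, true, true, true, false, false, true]), (1, [false, true, true, true, false, true, false]), (1, [false, true, true, true, false, true, true])],
   [(2, [false, false, false, true, true, false, false]), (1, [false, false, false, true, true, false, true]), (1, [false, false, false, true, true, true, true]), (2, [false, false, true, true, true, false, false]), (1, [false, false, true, true, true, false, true]), (1, [false, false, true, true, true, true, true]), (2, [false, true, false, true, true, false, false]), (1, [false, true, false, true, true, false, true]), (1, [false, true, false, true, true, true, true]), (2, [false, true, true, true, true, false, false]), (1, [false, true, true, true, true, false, true]), (1, [false, true, true, true, true, true, true])],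
   [(2, [false, false, false, true, true, false, true]), (1, [false, false, false, true, true, true, false]), (1, [false, false, false, true, true, true, true]), (2, [false, false, true, true, true, false, true]), (1, [false, false, true, true, true, true, false]), (1, [false, false, true, true, true, true, true]), (2, [false, true, false, true, true, false, true]), (1, [false, true, false, true, true, true, false]), (1, [false, true, false, true, true, true, true]), (2, [false, true, true, true, true, false, true]), (1, [false, true, true, true, true, true, false]), (1, [false, true, true, true, true, true, true])]]

def m3mx : Vec := [0, 0, 0, 1, 0, 1, 0, 1]

def m3may : Vec := [1, 0, 1, 1, 2, 1, 1, 2]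

def m3maRs : List BRel :=
  [⟨(0, 1), (0, 1), (1, 0), [false, true, false, false, true, true, true], [false, false, true, false, true, true, false],
    [([false, true, false, false, true, true, true], [false, false, true, false, true, true, false]), ([true, true, false, false, true, true, true], [true, true, true, false, false, false, true])]⟩,
   ⟨(0, 1), (0, 1), (1, 2), [false, false, false, false, true, false, true], [false, true, true, true, true, true, false],
    [([false, false, false, false, true, false, true], [false, true, true, true, true, true, false]), ([true, false, false, false, true, false, true], [false, true, true, true, false, true, true])]⟩,
   ⟨(0, 1), (1, 0), (1, 1), [false, true, false, true, false, true, false], [false, true, true, false, true, false, true],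
    [([false, true, false, true, false, true, false], [false, true, true, false, true, false, true]), ([true, false, false, false, false, false, false], [false, false, false, false, false, false, false]), ([true, true, true, true, true, false, false], [true, false, true, true, false, false, false])]⟩]

def m3mafil : List (List (ℕ × List ℕ × Bool)) :=
  [[(1, [4], false), (1, [4], true), (1, [1, 3, 5], false), (2, [], false), (1, [], true)]]

def m3marec : List (ℕ × List ℕ) := [(2, []), (2, [0, 1, 2, 3, 4]), (2, [0, 1, 3, 4, 5]), (1, [0, 2, 4]), (1, [0, 1, 5]), (2, [1, 3, 4]), (2, [0, 1, 2, 5])]

def m3maO : List (List Wrd) :=
  [[[true, false, false, false, false, false, false], [false, true, false, false, false, false, false], [false, false, true, false, false, false, false], [false, false, false, true, false, false, false], [false, false, false, false, true, false, false], [false, false, false, false, false, true, false], [false, false, false, false, false, false, true]],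
   [[true, false, false, false, false, false, false], [false, true, true, false, true, true, false], [true, true, false, true, false, true, true], [false, false, true, true, true, true, false], [false, true, false, true, false, false, true], [true, false, true, false, true, false, false], [true, true, false, true, true, false, false]]]

def m3ma : Ct := ⟨m3may, m3maRs, m3mafil, m3marec, m3maO⟩

def m3mby : Vec := [0, 2, 1, 2, 0, 1, 1, 0]

def m3mbRs : List BRel :=
  [⟨(0, 1), (0, 1), (1, 0), [false, false, false, true, false, false, true], [true, true, false, false, true, true, false],
    [([false, false, false, true, false, false, true], [true, true, false, false, true, true, false]), ([true, false, false, true, false, false, true], [true, true, false, true, true, true, true])]⟩,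
   ⟨(0, 1), (0, 1), (1, 2), [false, false, false, true, true, true, false], [true, false, true, false, true, false, true],
    [([false, false, false, true, true, true, false], [true, false, true, false, true, false, true]), ([true, false, false, true, true, true, false], [false, false, true, true, false, true, true])]⟩,
   ⟨(0, 1), (1, 0), (1, 1), [false, false, true, true, false, false, false], [true, false, true, false, false, false, false],
    [([false, false, true, true, false, false, false], [true, false, true, false, false, false, false]), ([false, true, true, false, true, true, true], [true, true, false, true, false, true, false]), ([true, false, false, false, false, false, false], [false, false, false, false, false, false, false])]⟩]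

def m3mbfil : List (List (ℕ × List ℕ × Bool)) :=
  [[(1, [4, 5], true), (2, [0, 3, 5], false), (2, [], false), (1, [], true)]]

def m3mbrec : List (ℕ × List ℕ) := [(2, []), (2, [1, 2, 4, 5]), (2, [5]), (2, [4, 5]), (2, [0, 3, 4]), (2, [0, 2, 3, 5]), (2, [0, 4, 5])]

def m3mbO : List (List Wrd) :=
  [[[true, false, false, false, false, false, false], [false, true, false, false, false, false, false], [false, false, true, false, false, false, false], [false, false, false, true, false, false, false], [false, false, false, false, true, false, false], [false, false, false, false, false, true, false], [false, false, false, false, false, false, true]],
   [[true, false, false, false, false, false, false], [false, true, true, false, true, false, true], [false, true, false, true, false, true, false], [false, false, true, true, true, false, true], [true, true, false, true, false, true, true], [true, true, true, true, false, false, false], [true, false, true, false, true, false, false]]]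

def m3mb : Ct := ⟨m3mby, m3mbRs, m3mbfil, m3mbrec, m3mbO⟩

theorem m5_inj : injOK 5 4 m5As m5Ps = true := by decide +kernel
theorem m5_reg : regOK 5 4 m5As m5x = true := by decide +kernel
theorem m5_rs : ∀ R ∈ m5aRs, R.ok 5 4 m5As m5x m5ay = true := by decide +kernel
theorem m5_fin : finalOK 5 4 m5As m5x m5ay m5aRs m5afil m5arec m5aO = true := by decide +kernel
theorem m5_id : m5aO.all (isId 5 4 m5As m5x) = true := by decide +kernel
theorem m5_nb : nbOK 5 4 m5As m5x m5ay = true := by decide +kernel

theorem m3p_inj : injOK 3 4 m3pAs m3pPs = true := by decide +kernel
theorem m3p_reg : regOK 3 4 m3pAs m3px = true := by decide +kernel
theorem m3p_a : m3pa.ok 3 4 m3pAs m3px := ⟨by decide +kernel, by decide +kernel, by decide +kernel⟩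
theorem m3p_b : m3pb.ok 3 4 m3pAs m3px := ⟨by decide +kernel, by decide +kernel, by decide +kernel⟩
theorem m3p_c : m3pc.ok 3 4 m3pAs m3px := ⟨by decide +kernel, by decide +kernel, by decide +kernel⟩
theorem m3p_bad : badL 3 4 m3pAs m3px [] ([m3pa, m3pb, m3pc].map Ct.O) = true := by decide +kernel

theorem m3m_inj : injOK 3 8 m3mAs m3mPs = true := by decide +kernel
theorem m3m_reg : regOK 3 8 m3mAs m3mx = true := by decide +kernel
theorem m3m_a : m3ma.ok 3 8 m3mAs m3mx := ⟨by decide +kernel, by decide +kernel, by decide +kernel⟩
theorem m3m_b : m3mb.ok 3 8 m3mAs m3mx := ⟨by decide +kernel, by decide +kernel, by decide +kernel⟩
theorem m3m_bad : badL 3 8 m3mAs m3mx [] ([m3ma, m3mb].map Ct.O) = true := by decide +kernel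

end CfsgH1.BS.Cert
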