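import Mathlib

set_option autoImplicit false
set_option linter.unusedSectionVars false

namespace CfsgH1

open Subgroup

/-- counting conjugacy classes through a complete invariant -/
theorem card_classes_of_inv {G T : Type*} [Monoid G] (P : G → Prop) (inv : G → T) (S : T → Prop)
    (h1 : ∀ g, P g → S (inv g))
    (h2 : ∀ g h, P g → P h → (IsConj g h ↔ inv g = inv h))
    (h3 : ∀ t, S t → ∃ g, P g ∧ inv g = t) :
    Nat.card {C : ConjClasses G // ∃ g, ConjClasses.mk g = C ∧ P g} = Nat.card {t // S t} := by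
  classical
  choose f hf using h3
  symm
  refine Nat.card_eq_of_bijective (fun t => ⟨ConjClasses.mk (f t.1 t.2), _, rfl, (hf _ _).1⟩) ⟨?_, ?_⟩
  · intro s t h
    have := (h2 _ _ (hf _ _).1 (hf _ _).1).1
      (ConjClasses.mk_eq_mk_iff_isConj.1 (congrArg Subtype.val h))
    rw [(hf _ _).2, (hf _ _).2] at this
    exact Subtype.ext this
  · rintro ⟨_, g, rfl, hg⟩
    refine ⟨⟨inv g, h1 g hg⟩, Subtype.ext ?_⟩
    exact ConjClasses.mk_eq_mk_iff_isConj.2 ((h2 _ _ (hf _ _).1 hg).2 (hf _ _).2)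

/-- counting conjugacy classes through representatives -/
theorem card_classes_of_reps {G T : Type*} [Monoid G] (P : G → Prop) (f : T → G)
    (h1 : ∀ t, P (f t)) (h2 : ∀ s t, IsConj (f s) (f t) → s = t)
    (h3 : ∀ g, P g → ∃ t, IsConj (f t) g) :
    Nat.card {C : ConjClasses G // ∃ g, ConjClasses.mk g = C ∧ P g} = Nat.card T := by
  symm
  refine Nat.card_eq_of_bijective (fun t => ⟨ConjClasses.mk (f t), _, rfl, h1 t⟩) ⟨?_, ?_⟩
  · intro s t h
    exact h2 _ _ (ConjClasses.mk_eq_mk_iff_isConj.1 (congrArg Subtype.val h))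
  · rintro ⟨_, g, rfl, hg⟩
    obtain ⟨t, ht⟩ := h3 g hg
    exact ⟨t, Subtype.ext (ConjClasses.mk_eq_mk_iff_isConj.2 ht)⟩

/-- splitting of a conjugacy class in the kernel of a homomorphism -/
theorem card_classes_split {S G Q : Type*} [Group S] [Group G] [Group Q] (j : S →* G)
    (hj : Function.Injective j) (d : G →* Q) (hr : j.range = d.ker) (u : S) (P : S → Prop)
    (hP : ∀ s, P s ↔ IsConj (j u) (j s)) :
    Nat.card {C : ConjClasses S // ∃ s, ConjClasses.mk s = C ∧ P s} =
      ((centralizer {j u}).map d).relIndex d.range := by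
  classical
  have hex : ∀ g : G, ∃ s, j s = g * j u * g⁻¹ := by
    intro g
    have : g * j u * g⁻¹ ∈ j.range := by
      rw [hr]
      exact (MonoidHom.normal_ker d).conj_mem _ (hr ▸ ⟨u, rfl⟩) g
    exact this
  choose c hc using hex
  rw [← Subgroup.index_comap, Subgroup.index]
  refine card_classes_of_reps P (fun x : G ⧸ ((centralizer {j u}).map d).comap d => c x.out)
    ?_ ?_ ?_
  · intro t
    rw [hP, hc]
    exact isConj_iff.2 ⟨_, rfl⟩
  · intro s t h
    obtain ⟨y, hy⟩ := isConj_iff.1 h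
    have h1 := congrArg j hy
    rw [map_mul, map_mul, map_inv, hc, hc] at h1
    rw [← QuotientGroup.out_eq' s, ← QuotientGroup.out_eq' t, QuotientGroup.eq]
    have hy1 : d (j y) = 1 := by
      rw [← MonoidHom.mem_ker, ← hr]; exact ⟨y, rfl⟩
    refine ⟨s.out⁻¹ * (j y)⁻¹ * t.out, ?_, by simp [hy1]⟩
    rw [SetLike.mem_coe, mem_centralizer_singleton_iff]
    calc s.out⁻¹ * (j y)⁻¹ * t.out * j u
        = s.out⁻¹ * (j y)⁻¹ * (t.out * j u * t.out⁻¹) * t.out := by group
      _ = _ := by rw [← h1]; group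
  · intro s hs
    obtain ⟨g, hg⟩ := isConj_iff.1 ((hP s).1 hs)
    refine ⟨QuotientGroup.mk g, ?_⟩
    obtain ⟨⟨h, z, hz, hzh⟩, e⟩ := QuotientGroup.mk_out_eq_mul (((centralizer {j u}).map d).comap d) g
    have : g * z * (g * h)⁻¹ ∈ j.range := by
      rw [hr, MonoidHom.mem_ker]
      simp [hzh]
    obtain ⟨y, hy⟩ := this
    refine isConj_iff.2 ⟨y, hj ?_⟩
    rw [map_mul, map_mul, map_inv, hc, e, hy, ← hg]
    have hz' := mem_centralizer_singleton_iff.1 hz
    change g * z * (g * h)⁻¹ * (g * h * j u * (g * h)⁻¹) * (g * z * (g * h)⁻¹)⁻¹ = _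
    calc _ = g * (z * j u) * z⁻¹ * g⁻¹ := by group
      _ = _ := by rw [hz']; group

theorem index_range_pow {G : Type*} [CommGroup G] [Finite G] [IsCyclic G] (n : ℕ) :
    (powMonoidHom n : G →* G).range.index = Nat.gcd n (Nat.card G) := by
  rw [IsCyclic.index_powMonoidHom_range, Nat.gcd_comm]

end CfsgH1
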