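import Cfsg.Agent.H1.Basic
import Mathlib

/-! S1916, part 1: dihedral `2`-groups and an outer involution. -/

set_option autoImplicit false

namespace CfsgH1.DH

open Subgroup

variable {G : Type*} [Group G]

def Iv (t : G) : Prop := t * t = 1 ∧ t ≠ 1

theorem inv_of_sq {t : G} (h : t * t = 1) : t⁻¹ = t := inv_eq_of_mul_eq_one_right h

theorem sq_conj {t : G} (h : t * t = 1) (g : G) : g * t * g⁻¹ * (g * t * g⁻¹) = 1 := by
  calc _ = g * (t * t) * g⁻¹ := by group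
    _ = 1 := by rw [h]; group

theorem Iv.conj {t : G} (h : Iv t) (g : G) : Iv (g * t * g⁻¹) :=
  ⟨sq_conj h.1 g, fun e => h.2 (by
    calc t = g⁻¹ * (g * t * g⁻¹) * g := by group
      _ = 1 := by rw [e]; group)⟩

theorem comm_conj {x y : G} (h : Commute x y) (g : G) : Commute (g * x * g⁻¹) (g * y * g⁻¹) := by
  unfold Commute SemiconjBy at *
  calc _ = g * (x * y) * g⁻¹ := by group
    _ = _ := by rw [h]; group

theorem conj_inj {g x y : G} (h : g * x * g⁻¹ = g * y * g⁻¹) : x = y :=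
  mul_left_cancel (mul_right_cancel h)

theorem conj_of_comm {g x : G} (h : Commute g x) : g * x * g⁻¹ = x := by
  rw [h.eq, mul_inv_cancel_right]

theorem comm_of_conj {g x : G} (h : g * x * g⁻¹ = x) : Commute g x := by
  have : g * x = x * g := by rw [← mul_inv_eq_iff_eq_mul]; exact h
  exact this

theorem sq_mul {x y : G} (hx : x * x = 1) (hy : y * y = 1) (h : Commute x y) :
    x * y * (x * y) = 1 := by
  calc _ = x * (y * x) * y := by group
    _ = x * x * (y * y) := by rw [← h.eq]; group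
    _ = 1 := by rw [hx, hy, one_mul]

theorem comm_of_sq {x y : G} (hx : x * x = 1) (hy : y * y = 1) (h : x * y * (x * y) = 1) :
    Commute x y := by
  have := inv_of_sq h
  rw [mul_inv_rev, inv_of_sq hx, inv_of_sq hy] at this
  exact this.symm

theorem Iv.mul {x y : G} (hx : x * x = 1) (hy : y * y = 1) (h : Commute x y) (hne : x ≠ y) :
    Iv (x * y) := ⟨sq_mul hx hy h, fun e => hne (by
      rw [← inv_of_sq hy]; exact eq_inv_of_mul_eq_one_left e)⟩

theorem invert_zp {y c k : G} (h : y * c * y⁻¹ = c⁻¹) (hk : k ∈ zpowers c) :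
    y * k * y⁻¹ = k⁻¹ := by
  obtain ⟨n, rfl⟩ := hk
  simp only
  rw [← conj_zpow, h, inv_zpow]

theorem comm_zp {y c k : G} (h : Commute y c) (hk : k ∈ zpowers c) : Commute y k := by
  obtain ⟨n, rfl⟩ := hk
  exact h.zpow_right n

theorem mem_zp_sq {t k : G} (h : t * t = 1) (hk : k ∈ zpowers t) : k = 1 ∨ k = t := by
  obtain ⟨n, rfl⟩ := hk
  simp only
  have h2 : t ^ (2 : ℤ) = 1 := by rw [zpow_two, h]
  rcases Int.even_or_odd n with ⟨m, rfl⟩ | ⟨m, rfl⟩
  · left; rw [← two_mul, zpow_mul, h2, one_zpow]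
  · right; rw [zpow_add, zpow_mul, h2, one_zpow, one_mul, zpow_one]

theorem inv_left {y y' : G} (hy : y * y = 1) (hy' : y' * y' = 1) :
    y * (y * y') * y⁻¹ = (y * y')⁻¹ := by
  rw [← mul_assoc, hy, one_mul, mul_inv_rev, inv_of_sq hy']

theorem inv_right {y y' : G} (hy : y * y = 1) (hy' : y' * y' = 1) :
    y' * (y * y') * y'⁻¹ = (y * y')⁻¹ := by
  rw [mul_inv_rev, inv_of_sq hy, inv_of_sq hy', mul_assoc, mul_assoc, hy', mul_one]

theorem di [Finite G] {y y' : G} (hy : y * y = 1) (hy' : y' * y' = 1) :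
    (∃ k ∈ zpowers (y * y'), k * y' * k⁻¹ = y) ∨
      ∃ v ∈ zpowers (y * y'), Iv v ∧ Commute v y ∧ Commute v y' := by
  have h0 := orderOf_pos (y * y')
  rcases Nat.even_or_odd (orderOf (y * y')) with ⟨m, hm⟩ | ⟨m, hm⟩
  · right
    have hv : (y * y') ^ m ∈ zpowers (y * y') := pow_mem (mem_zpowers _) m
    have h1 : (y * y') ^ m * (y * y') ^ m = 1 := by rw [← pow_add, ← hm, pow_orderOf_eq_one]
    refine ⟨_, hv, ⟨h1, pow_ne_one_of_lt_orderOf (by omega) (by omega)⟩, ?_, ?_⟩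
    · exact (comm_of_conj ((invert_zp (inv_left hy hy') hv).trans (inv_of_sq h1))).symm
    · exact (comm_of_conj ((invert_zp (inv_right hy hy') hv).trans (inv_of_sq h1))).symm
  · left
    have hv : (y * y') ^ (m + 1) ∈ zpowers (y * y') := pow_mem (mem_zpowers _) _
    refine ⟨_, hv, ?_⟩
    have h1 := invert_zp (inv_right hy hy') (inv_mem hv)
    rw [inv_inv, mul_inv_eq_iff_eq_mul] at h1
    rw [mul_assoc, h1, ← mul_assoc, ← pow_add, show m + 1 + (m + 1) = orderOf (y * y') + 1 by omega,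
      pow_succ, pow_orderOf_eq_one, one_mul, mul_assoc, hy', mul_one]

theorem exists_four {w : G} {k : ℕ} (hk : w ^ 2 ^ k = 1) (hw : w * w ≠ 1) :
    ∃ v ∈ zpowers w, Iv (v * v) := by
  induction k generalizing w with
  | zero => exact (hw (by rw [pow_zero, pow_one] at hk; rw [hk, one_mul])).elim
  | succ k ih =>
    by_cases h : w * w * (w * w) = 1
    · exact ⟨w, mem_zpowers w, h, hw⟩
    · obtain ⟨v, hv, h'⟩ := ih (w := w * w) (by rw [← sq, ← pow_mul, ← pow_succ', hk]) h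
      exact ⟨v, zpowers_le.2 (mul_mem (mem_zpowers w) (mem_zpowers w)) hv, h'⟩

structure Dih (S X : Subgroup G) : Prop where
  le : X ≤ S
  tot : ∀ x ∈ X, ∀ y ∈ X, x ∈ zpowers y ∨ y ∈ zpowers x
  mul : ∀ s ∈ S, ∀ t ∈ S, s ∉ X → t ∉ X → s * t ∈ X
  ex : ∃ t ∈ S, t ∉ X
  sq : ∀ t ∈ S, t ∉ X → t * t = 1
  iv : ∃ x ∈ X, Iv x
  two : IsPGroup 2 S

namespace Dih

variable {S X : Subgroup G} (h : Dih S X)
include h

theorem comm {x y : G} (hx : x ∈ X) (hy : y ∈ X) : Commute x y := by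
  rcases h.tot x hx y hy with e | e
  exacts [(comm_zp (Commute.refl y) e).symm, comm_zp (Commute.refl x) e]

theorem uniq {x y : G} (hx : x ∈ X) (hy : y ∈ X) (ix : Iv x) (iy : Iv y) : x = y := by
  rcases h.tot x hx y hy with e | e
  exacts [(mem_zp_sq iy.1 e).resolve_left ix.2, ((mem_zp_sq ix.1 e).resolve_left iy.2).symm]

omit h in
theorem mul_not {t x : G} (ht : t ∉ X) (hx : x ∈ X) : t * x ∉ X := fun e =>
  ht (by simpa using mul_mem e (inv_mem hx))

theorem iv_out {t : G} (ht : t ∈ S) (hX : t ∉ X) : Iv t :=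
  ⟨h.sq t ht hX, fun e => hX (e ▸ one_mem X)⟩

theorem invert {t x : G} (ht : t ∈ S) (hX : t ∉ X) (hx : x ∈ X) : t * x * t⁻¹ = x⁻¹ := by
  have := h.sq _ (mul_mem ht (h.le hx)) (mul_not hX hx)
  rw [inv_of_sq (h.sq t ht hX)]
  exact eq_inv_of_mul_eq_one_left (by rw [← this]; group)

theorem central {x s : G} (hx : x ∈ X) (ix : x * x = 1) (hs : s ∈ S) : Commute x s := by
  by_cases hX : s ∈ X
  · exact h.comm hx hX
  · exact (comm_of_conj ((h.invert hs hX hx).trans (inv_of_sq ix))).symm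

theorem mem_of_sq {s : G} (hs : s ∈ S) (h2 : s * s ≠ 1) : s ∈ X := by
  by_contra hX
  exact h2 (h.sq s hs hX)

theorem sq_mem {s : G} (hs : s ∈ S) : s * s ∈ X := by
  by_cases hX : s ∈ X
  · exact mul_mem hX hX
  · exact h.mul s hs s hs hX hX

theorem four {s : G} (hs : s ∈ S) (is : Iv s) : ∃ t ∈ S, Iv t ∧ t ≠ s ∧ Commute s t := by
  by_cases hX : s ∈ X
  · obtain ⟨t, ht, hX'⟩ := h.ex
    exact ⟨t, ht, h.iv_out ht hX', fun e => hX' (e ▸ hX), h.central hX is.1 ht⟩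
  · obtain ⟨x, hx, ix⟩ := h.iv
    exact ⟨x, h.le hx, ix, fun e => hX (e ▸ hx), (h.central hx ix.1 hs).symm⟩

theorem four' {w : G} (hw : w ∈ S) (h2 : w * w ≠ 1) : ∃ v ∈ zpowers w, Iv (v * v) := by
  obtain ⟨k, hk⟩ := isPGroup_iff_forall.1 h.two w hw
  exact exists_four hk h2

theorem rechoose {z : G} (hz : z ∈ S) (iz : Iv z) (hc : ∀ s ∈ S, Commute z s) :
    ∃ X', Dih S X' ∧ z ∈ X' := by
  by_cases hX : z ∈ X
  · exact ⟨X, h, hX⟩
  obtain ⟨x, hx, ix⟩ := h.iv
  have e1 : ∀ y ∈ X, y * y = 1 := fun y hy => by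
    have := h.invert hz hX hy
    rw [conj_of_comm (hc y (h.le hy))] at this
    nth_rewrite 1 [this]; exact inv_mul_cancel y
  have e2 : ∀ y ∈ X, y = 1 ∨ y = x := fun y hy => by
    by_cases e : y = 1
    exacts [Or.inl e, Or.inr (h.uniq hy hx ⟨e1 y hy, e⟩ ix)]
  have e3 : ∀ s ∈ S, s ∉ zpowers z → s = x ∨ s = z * x := fun s hs hn => by
    by_cases hs' : s ∈ X
    · exact Or.inl ((e2 s hs').resolve_left fun e => hn (e ▸ one_mem _))
    · have e4 : s = z * (z * s) := by rw [← mul_assoc, iz.1, one_mul]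
      rcases e2 _ (h.mul z hz s hs hX hs') with e | e
      · exact (hn (by rw [e4, e, mul_one]; exact mem_zpowers z)).elim
      · exact Or.inr (by rw [e4, e])
  have c := hc x (h.le hx)
  refine ⟨zpowers z, ⟨zpowers_le.2 hz, fun a ha b hb => ?_, fun s hs t ht h1 h2 => ?_,
    ⟨x, h.le hx, fun e => ?_⟩, fun t ht h1 => ?_, ⟨z, mem_zpowers z, iz⟩, h.two⟩, mem_zpowers z⟩
  · rcases mem_zp_sq iz.1 ha with rfl | rfl
    · exact Or.inl (one_mem _)
    · exact Or.inr hb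
  · rcases e3 s hs h1 with rfl | rfl <;> rcases e3 t ht h2 with rfl | rfl
    · rw [ix.1]; exact one_mem _
    · rw [← mul_assoc, ← c.eq, mul_assoc, ix.1, mul_one]; exact mem_zpowers z
    · rw [mul_assoc, ix.1, mul_one]; exact mem_zpowers z
    · rw [sq_mul iz.1 ix.1 c]; exact one_mem _
  · rcases mem_zp_sq iz.1 e with rfl | rfl
    exacts [ix.2 rfl, hX hx]
  · rcases e3 t ht h1 with rfl | rfl
    exacts [ix.1, sq_mul iz.1 ix.1 c]

end Dih

structure Str (S X : Subgroup G) (a z : G) : Prop where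
  dih : Dih S X
  aa : a * a = 1
  norm : ∀ s ∈ S, a * s * a⁻¹ ∈ S
  zX : z ∈ X
  iz : Iv z
  az : Commute a z
  fix : ∀ s ∈ S, Commute a s → s = 1 ∨ s = z
  inv : ∀ x ∈ X, a * x * a⁻¹ = x⁻¹
  gen : ∀ t ∈ S, t ∉ X → ∀ x ∈ X, x ∈ zpowers (t * (a * t * a⁻¹))

theorem conj_conj {a : G} (ha : a * a = 1) (s : G) : a * (a * s * a⁻¹) * a⁻¹ = s := by
  calc _ = (a * a) * s * (a * a)⁻¹ := by group
    _ = s := by rw [ha]; group

theorem str [Finite G] {S X0 : Subgroup G} (h0 : Dih S X0) {a : G} (ha : a * a = 1)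
    (hn : ∀ s ∈ S, a * s * a⁻¹ ∈ S)
    (hF : ∀ y ∈ S, ∀ y' ∈ S, Iv y → Iv y' → Commute a y → Commute a y' → Commute y y' → y = y')
    (h4 : ∀ w ∈ S, Commute a w → w * w = 1) : ∃ X z, Str S X a z := by
  obtain ⟨z, hzS, iz, az, hzc⟩ : ∃ z ∈ S, Iv z ∧ Commute a z ∧ ∀ s ∈ S, Commute z s := by
    obtain ⟨x, hx, ix⟩ := h0.iv
    have c : ∀ s ∈ S, Commute x s := fun s hs => h0.central hx ix.1 hs
    by_cases e : x = a * x * a⁻¹
    · exact ⟨x, h0.le hx, ix, comm_of_conj e.symm, c⟩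
    have c1 := c _ (hn x (h0.le hx))
    refine ⟨x * (a * x * a⁻¹), mul_mem (h0.le hx) (hn x (h0.le hx)),
      Iv.mul ix.1 (ix.conj a).1 c1 e, comm_of_conj ?_, fun s hs => (c s hs).mul_left ?_⟩
    · calc _ = a * x * a⁻¹ * (a * (a * x * a⁻¹) * a⁻¹) := by group
        _ = _ := by rw [conj_conj ha, c1.eq]
    · have := comm_conj (c _ (hn s hs)) a
      rwa [conj_conj ha] at this
  obtain ⟨X, h, hz⟩ := h0.rechoose hzS iz hzc
  have fix : ∀ s ∈ S, Commute a s → s = 1 ∨ s = z := fun s hs c => by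
    by_cases e : s = 1
    exacts [Or.inl e, Or.inr (hF s hs z hzS ⟨h4 s hs c, e⟩ iz c az (hzc s hs).symm)]
  have nX : ∀ x ∈ X, a * x * a⁻¹ ∈ X := fun x hx => by
    by_cases e : x * x = 1
    · by_cases e1 : x = 1
      · rw [e1, mul_one, mul_inv_cancel]; exact one_mem _
      · rw [h.uniq hx hz ⟨e, e1⟩ iz, conj_of_comm az]; exact hz
    · refine h.mem_of_sq (hn x (h.le hx)) fun e' => e ?_
      have := sq_conj e' a
      rwa [conj_conj ha] at this
  have eps : ∀ x ∈ X, a * x * a⁻¹ = x⁻¹ ∨ a * x * a⁻¹ = x⁻¹ * z := fun x hx => by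
    have c1 := h.comm hx (nX x hx)
    have c2 : Commute a (x * (a * x * a⁻¹)) := comm_of_conj (by
      calc _ = a * x * a⁻¹ * (a * (a * x * a⁻¹) * a⁻¹) := by group
        _ = _ := by rw [conj_conj ha, c1.eq])
    rcases fix _ (h.le (mul_mem hx (nX x hx))) c2 with e | e
    · exact Or.inl (eq_inv_of_mul_eq_one_right e)
    · exact Or.inr (by rw [← e]; group)
  have nfix : ∀ t ∈ S, t ∉ X → ¬ Commute a t := fun t ht hX c => by
    rcases fix t ht c with e | e
    exacts [hX (e ▸ one_mem _), hX (e ▸ hz)]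
  have nout : ∀ t ∈ S, t ∉ X → a * t * a⁻¹ ∉ X := fun t _ hX e => hX (by
    have := nX _ e
    rwa [conj_conj ha] at this)
  have gen : ∀ t ∈ S, t ∉ X → ∀ x ∈ X, x ∈ zpowers (t * (a * t * a⁻¹)) := by
    intro t ht hX x hx
    have tt := h.sq t ht hX
    have h0X := h.mul t ht _ (hn t ht) hX (nout t ht hX)
    rcases h.tot x hx _ h0X with e | ⟨n, e⟩
    · exact e
    simp only at e
    obtain ⟨k, hk⟩ := isPGroup_iff_forall.1 h.two x (h.le hx)
    rcases Int.even_or_odd n with ⟨m, rfl⟩ | hodd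
    · exfalso
      set r := x ^ m with hr
      have rX : r ∈ X := zpow_mem hx m
      have e1 : a * t * a⁻¹ = t * (r * r) := by
        rw [hr, ← zpow_add, e, ← mul_assoc, tt, one_mul]
      rcases eps r rX with e2 | e2
      · refine nfix (t * r) (mul_mem ht (h.le rX)) (Dih.mul_not hX rX) (comm_of_conj ?_)
        calc _ = a * t * a⁻¹ * (a * r * a⁻¹) := by group
          _ = _ := by rw [e1, e2]; group
      · have r2 : r * r ≠ 1 := fun e3 => nfix t ht hX (comm_of_conj (by rw [e1, e3, mul_one]))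
        obtain ⟨w, hw, iw⟩ := h.four' (h.le rX) r2
        have wX : w ∈ X := zpowers_le.2 rX hw
        have wz : w * w = z := h.uniq (mul_mem wX wX) hz iw iz
        have e4 : w⁻¹ * z = w := by rw [← wz]; group
        rcases eps w wX with e3 | e3
        · refine nfix (t * (r * w)) (mul_mem ht (h.le (mul_mem rX wX)))
            (Dih.mul_not hX (mul_mem rX wX)) (comm_of_conj ?_)
          calc _ = a * t * a⁻¹ * (a * r * a⁻¹) * (a * w * a⁻¹) := by group
            _ = t * r * (z * w⁻¹) := by rw [e1, e2, e3]; group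
            _ = _ := by rw [← wz]; group
        · exact iw.2 (h4 w (h.le wX) (comm_of_conj (e3.trans e4)))
    · rw [← e]
      have hc : IsCoprime n ((2 : ℤ) ^ k) :=
        (Int.isCoprime_two_right.2 hodd).pow_right
      obtain ⟨u, v, huv⟩ := hc
      refine ⟨u, ?_⟩
      simp only
      have h2 : x ^ ((2 : ℤ) ^ k) = 1 := by
        rw [← hk, ← zpow_natCast]; push_cast; rfl
      rw [← zpow_mul, mul_comm n u, eq_sub_of_add_eq huv, zpow_sub, zpow_one, mul_comm v, zpow_mul,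
        h2, one_zpow, inv_one, mul_one]
  refine ⟨X, z, h, ha, hn, hz, iz, az, fix, fun x hx => ?_, gen⟩
  obtain ⟨t, ht, hX⟩ := h.ex
  refine invert_zp ?_ (gen t ht hX x hx)
  calc _ = a * t * a⁻¹ * (a * (a * t * a⁻¹) * a⁻¹) := by group
    _ = _ := by
      rw [conj_conj ha, mul_inv_rev, inv_of_sq (h.sq t ht hX), inv_of_sq (sq_conj (h.sq t ht hX) a)]

namespace Str

variable {S X : Subgroup G} {a z : G} (h : Str S X a z)
include h

theorem out {s : G} (is : Iv s) (hne : s ≠ z) : s ∉ X := fun e => hne (h.dih.uniq e h.zX is h.iz)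

theorem mem_of_outer {s : G} (hs : s ∈ S) (h2 : a * s * (a * s) = 1) : s ∈ X := by
  by_contra hX
  rcases h.fix s hs (comm_of_sq h.aa (h.dih.sq s hs hX) h2) with e | e
  exacts [hX (e ▸ one_mem _), hX (e ▸ h.zX)]

theorem le {N : Subgroup G} (ha : a ∈ N) {t : G} (ht : t ∈ S) (hX : t ∉ X) (hN : t ∈ N) :
    S ≤ N := by
  have e : X ≤ N := fun x hx => zpowers_le.2
    (mul_mem hN (mul_mem (mul_mem ha hN) (inv_mem ha))) (h.gen t ht hX x hx)
  intro s hs
  by_cases hs' : s ∈ X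
  · exact e hs'
  · have := mul_mem hN (e (h.dih.mul t ht s hs hX hs'))
    rwa [← mul_assoc, h.dih.sq t ht hX, one_mul] at this

omit h in
/-- `r x` is conjugate to `r` or `r x₀` when `r` inverts `X = ⟨x₀⟩`. -/
theorem refl_conj {r x0 x : G} (hr : r * x0 * r⁻¹ = x0⁻¹) (hx : x ∈ zpowers x0) :
    ∃ k ∈ zpowers x0, k * r * k⁻¹ = r * x ∨ k * (r * x0) * k⁻¹ = r * x := by
  obtain ⟨n, rfl⟩ := hx
  simp only
  have e : ∀ m : ℤ, x0 ^ (-m) * r = r * x0 ^ m := fun m => by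
    have := invert_zp hr (zpow_mem (mem_zpowers x0) m)
    rw [zpow_neg, ← this]; group
  rcases Int.even_or_odd n with ⟨m, rfl⟩ | ⟨m, rfl⟩
  · refine ⟨x0 ^ (-m), zpow_mem (mem_zpowers x0) _, Or.inl ?_⟩
    rw [e]; group
  · refine ⟨x0 ^ (-m), zpow_mem (mem_zpowers x0) _, Or.inr ?_⟩
    rw [← mul_assoc, e]; group

theorem conj_out {t t' : G} (ht : t ∈ S) (hX : t ∉ X) (ht' : t' ∈ S) (hX' : t' ∉ X) :
    ∃ k ∈ S, k * t * k⁻¹ = t' ∨ k * a * t * (k * a)⁻¹ = t' := by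
  have tt := h.dih.sq t ht hX
  have h0 : t * (a * t * a⁻¹) ∈ X := by
    by_contra e
    have := h.dih.mul t ht _ (mul_mem ht (h.norm t ht)) hX e
    rw [← mul_assoc, tt, one_mul] at this
    have e2 := inv_mem this
    rw [← h.inv _ this, conj_conj h.aa] at e2
    exact hX e2
  obtain ⟨k, hk, e⟩ := refl_conj (h.dih.invert ht hX h0) (h.gen t ht hX _ (h.dih.mul t ht t' ht' hX hX'))
  refine ⟨k, h.dih.le (zpowers_le.2 h0 hk), ?_⟩
  rw [← mul_assoc t t, tt, one_mul, ← mul_assoc t t, tt, one_mul] at e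
  refine e.imp id fun e => ?_
  rw [← e]; group

theorem conj_outer {s : G} (hs : s ∈ S) (h2 : a * s * (a * s) = 1) :
    ∃ k ∈ S, k * a * k⁻¹ = a * s := by
  obtain ⟨t, ht, hX⟩ := h.dih.ex
  have tt := h.dih.sq t ht hX
  have sX := h.mem_of_outer hs h2
  have h0 : t * (a * t * a⁻¹) ∈ X := by
    by_contra e
    have := h.dih.mul t ht _ (mul_mem ht (h.norm t ht)) hX e
    rw [← mul_assoc, tt, one_mul] at this
    have e2 := inv_mem this
    rw [← h.inv _ this, conj_conj h.aa] at e2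
    exact hX e2
  have h1 : s ∈ zpowers (t * (a * t * a⁻¹))⁻¹ := by rw [zpowers_inv]; exact h.gen t ht hX s sX
  obtain ⟨k, hk, e⟩ := refl_conj (h.inv _ (inv_mem h0)) h1
  have kS : k ∈ S := h.dih.le (zpowers_le.2 (inv_mem h0) hk)
  rcases e with e | e
  · exact ⟨k, kS, e⟩
  · refine ⟨k * t, mul_mem kS ht, ?_⟩
    rw [← e]
    have : a * (t * (a * t * a⁻¹))⁻¹ = t * a * t⁻¹ := by
      calc _ = (a * a) * t⁻¹ * a⁻¹ * t⁻¹ := by group
        _ = _ := by rw [h.aa, inv_of_sq tt, inv_of_sq h.aa]; group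
    rw [this]; group

end Str

end CfsgH1.DH
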