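import Cfsg.Agent.H1.DH1
import Cfsg.Agent.S0215

/-! S1916, part 2: reduction to an extension of degree two. -/

set_option autoImplicit false

namespace CfsgH1.DH

open Subgroup

variable {G : Type*} [Group G]

structure Ctx (L : Subgroup G) : Prop where
  normal : L.Normal
  dih : ∀ S, IsSylowIn 2 S L → ∃ X, Dih S X
  conj : ∀ y ∈ L, ∀ y' ∈ L, Iv y → Iv y' → ∃ g ∈ L, g * y * g⁻¹ = y'
  gen : ∀ K : Subgroup G, (∀ y ∈ L, Iv y → y ∈ K) → L ≤ K
  odd : ∀ K : Subgroup G, K.Normal → Odd (Nat.card K) → K ⊓ L = ⊥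
  cent : ∀ g, (∀ x ∈ L, Commute g x) → g = 1
  sq : ∀ g, g * g ∈ L

def NoF (L : Subgroup G) (a : G) : Prop :=
  ∀ y ∈ L, ∀ y' ∈ L, Iv y → Iv y' → Commute a y → Commute a y' → Commute y y' → y = y'

theorem mem_c1 {g x : G} : g ∈ centralizer ({x} : Set G) ↔ Commute g x := by
  rw [mem_centralizer_singleton_iff]; rfl

theorem pg_zp {x : G} (h : x * x = 1) : IsPGroup 2 (zpowers x) :=
  isPGroup_zpowers (k := 1) (by rw [pow_one, sq, h])

theorem pg_four {x y : G} (hx : IsPGroup 2 (zpowers x)) (hy : IsPGroup 2 (zpowers y))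
    (c : Commute x y) : IsPGroup 2 (zpowers x ⊔ zpowers y : Subgroup G) :=
  hx.to_sup_of_normal_right' hy (zpowers_le.2 (centralizer_le_normalizer _ fun _ hk =>
    (comm_zp c hk).symm))

theorem exists_syl [Finite G] {H : Subgroup G} {x y : G} (hx : IsPGroup 2 (zpowers x))
    (hy : IsPGroup 2 (zpowers y)) (c : Commute x y) (xH : x ∈ H) (yH : y ∈ H) :
    ∃ T, IsSylowIn 2 T H ∧ x ∈ T ∧ y ∈ T := by
  obtain ⟨T, hT, h⟩ := exists_isSylowIn_ge (pg_four hx hy c)
    (sup_le (zpowers_le.2 xH) (zpowers_le.2 yH))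
  exact ⟨T, hT, h (mem_sup_left (mem_zpowers x)), h (mem_sup_right (mem_zpowers y))⟩

theorem conj_into [Finite G] {T H : Subgroup G} (hT : IsSylowIn 2 T H) {x : G}
    (hx : IsPGroup 2 (zpowers x)) (xH : x ∈ H) : ∃ k ∈ H, k * x * k⁻¹ ∈ T := by
  obtain ⟨k, hk, h⟩ := hT.exists_cj_le hx (zpowers_le.2 xH)
  exact ⟨k, hk, h (conj_mem_cj k (mem_zpowers x))⟩

namespace Ctx

variable [Finite G] {L : Subgroup G} (h : Ctx L)
include h

theorem cmem {x : G} (hx : x ∈ L) (g : G) : g * x * g⁻¹ ∈ L := h.normal.conj_mem x hx g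

theorem coset (g c : G) : c⁻¹ * (g * c * g⁻¹) ∈ L := by
  have e : c⁻¹ * (g * c * g⁻¹) =
      (c⁻¹ * g * (c⁻¹ * g)) * (g⁻¹ * (c * c) * g⁻¹⁻¹) * (g⁻¹ * g⁻¹) := by group
  rw [e]
  exact mul_mem (mul_mem (h.sq _) (h.cmem (h.sq _) _)) (h.sq _)

theorem syl {T : Subgroup G} (hT : IsSylowIn 2 T ⊤) : IsSylowIn 2 (T ⊓ L) L :=
  haveI := h.normal
  hT.inf_of_le_normalizer le_top (by rw [normalizer_eq_top])

theorem norm {T : Subgroup G} {a : G} (ha : a ∈ T) : ∀ s ∈ T ⊓ L, a * s * a⁻¹ ∈ T ⊓ L :=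
  fun _ hs => mem_inf.2 ⟨mul_mem (mul_mem ha hs.1) (inv_mem ha), h.cmem hs.2 a⟩

theorem not_mem {a : G} (ha : a * a = 1) (hF : NoF L a) : a ∉ L := fun aL => by
  obtain ⟨S, hS, h1⟩ := exists_isSylowIn_ge (pg_zp ha) (zpowers_le.2 aL)
  obtain ⟨X, hd⟩ := h.dih S hS
  by_cases e : a = 1
  · obtain ⟨x, hx, ix⟩ := hd.iv
    obtain ⟨t, ht, it, ne, c⟩ := hd.four (hd.le hx) ix
    exact ne (hF t (hS.le ht) x (hS.le (hd.le hx)) it ix (e ▸ Commute.one_left _)
      (e ▸ Commute.one_left _) c.symm)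
  · obtain ⟨t, ht, it, ne, c⟩ := hd.four (h1 (mem_zpowers a)) ⟨ha, e⟩
    exact ne (hF t (hS.le ht) a aL it ⟨ha, e⟩ c (Commute.refl a) c.symm)

theorem noZ4 {T X : Subgroup G} (hT : IsSylowIn 2 T ⊤) (hd : Dih (T ⊓ L) X) {c w : G}
    (cc : c * c = 1) (cT : c ∈ T) (hw : w ∈ T ⊓ L) (w2 : w * w ≠ 1) (cw : Commute c w) :
    ∃ t ∈ T ⊓ L, t ∉ X ∧ Commute c t := by
  obtain ⟨w, hw', iz⟩ := hd.four' hw w2
  replace cw := comm_zp cw hw'
  replace hw : w ∈ T ⊓ L := zpowers_le.2 hw hw'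
  have wX := hd.mem_of_sq hw iz.2
  set z := w * w with hz
  have zX : z ∈ X := mul_mem wX wX
  have cz : Commute c z := cw.mul_right cw
  by_contra hno
  push Not at hno
  have key : ∀ t ∈ T ⊓ L, t ∉ X → Commute (c * w) t := fun t ht hX => by
    have tt := hd.sq t ht hX
    have h1 := h.norm cT t ht
    have h2 : c * t * c⁻¹ ∉ X := fun e => hX (by
      have := hd.uniq e zX ((hd.iv_out ht hX).conj c) iz
      rw [← conj_of_comm cz] at this
      exact conj_inj this ▸ zX)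
    have h3 := hd.mul t ht _ h1 hX h2
    have h4 : c * (t * (c * t * c⁻¹)) * c⁻¹ = (t * (c * t * c⁻¹))⁻¹ := by
      calc _ = c * t * c⁻¹ * (c * (c * t * c⁻¹) * c⁻¹) := by group
        _ = _ := by rw [conj_conj cc, mul_inv_rev, inv_of_sq tt, inv_of_sq (sq_conj tt c)]
    have h5 : t * (c * t * c⁻¹) * (t * (c * t * c⁻¹)) = 1 := by
      rcases hd.tot _ h3 w wX with e | e
      · rw [conj_of_comm (comm_zp cw e)] at h4
        nth_rewrite 1 [h4]; exact inv_mul_cancel _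
      · have := invert_zp h4 e
        rw [conj_of_comm cw] at this
        exact (iz.2 (by rw [hz]; nth_rewrite 1 [this]; exact inv_mul_cancel _)).elim
    have h6 : t * (c * t * c⁻¹) = z := hd.uniq h3 zX ⟨h5, fun e => hno t ht hX (comm_of_conj (by
      rw [← inv_of_sq tt]; nth_rewrite 1 [inv_of_sq tt]; exact eq_inv_of_mul_eq_one_right e))⟩ iz
    have h7 : c * t * c⁻¹ = t * z := by rw [← h6, ← mul_assoc, tt, one_mul]
    have h8 : w * t * w⁻¹ = t * z := by
      have e1 := hd.invert ht hX wX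
      have e2 : w * t = t * w⁻¹ := by rw [← e1, inv_of_sq tt, ← mul_assoc, ← mul_assoc, tt, one_mul]
      rw [e2, ← inv_of_sq iz.1, hz]; group
    apply comm_of_conj
    calc _ = c * (w * t * w⁻¹) * c⁻¹ := by group
      _ = c * t * c⁻¹ * (c * z * c⁻¹) := by rw [h8]; group
      _ = t := by rw [h7, conj_of_comm cz, mul_assoc, iz.1, mul_one]
  obtain ⟨t, ht, hX⟩ := hd.ex
  have key2 : ∀ s ∈ T ⊓ L, Commute (c * w) s := fun s hs => by
    by_cases e : s ∈ X
    · have := (key t ht hX).mul_right (key _ (mul_mem ht hs) (Dih.mul_not hX e))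
      rwa [← mul_assoc, hd.sq t ht hX, one_mul] at this
    · exact key s hs e
  have c2 : c * w * (c * w) = z := by
    calc _ = c * (w * c) * w := by group
      _ = c * c * (w * w) := by rw [← cw.eq]; group
      _ = z := by rw [cc, one_mul]
  have Tz : T ≤ centralizer ({z} : Set G) := fun g hg => mem_c1.2 (comm_of_conj (by
    have e : g * z * g⁻¹ = g * w * g⁻¹ * (g * w * g⁻¹) := by rw [hz]; group
    exact hd.uniq (e ▸ hd.sq_mem (h.norm hg w hw)) zX (iz.conj g) iz))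
  obtain ⟨g, -, hg⟩ := h.conj t ht.2 z (hd.le zX).2 (hd.iv_out ht hX) iz
  obtain ⟨k, hk, kT⟩ := conj_into (hT.of_le Tz le_top) (x := g * (c * w) * g⁻¹)
    (isPGroup_zpowers (k := 2) (by
      rw [conj_pow, show 2 ^ 2 = 2 * 2 from rfl, pow_mul, pow_two (c * w), c2, pow_two,
        iz.1]; group))
    (mem_c1.2 (hg ▸ comm_conj (key t ht hX) g))
  have e1 : k * (g * (c * w) * g⁻¹) * k⁻¹ = k * g * (c * w) * (k * g)⁻¹ := by group
  rw [e1] at kT
  set s := (c * w)⁻¹ * (k * g * (c * w) * (k * g)⁻¹) with hs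
  have sS : s ∈ T ⊓ L := mem_inf.2 ⟨mul_mem (inv_mem (mul_mem cT hw.1)) kT, h.coset _ _⟩
  have e2 : k * g * z * (k * g)⁻¹ = z * (s * s) := by
    calc _ = (c * w * s) * (c * w * s) := by rw [hs, ← c2]; group
      _ = c * w * (s * (c * w)) * s := by group
      _ = _ := by rw [← (key2 s sS).eq, ← c2]; group
  have e3 := hd.uniq (e2 ▸ mul_mem zX (hd.sq_mem sS)) zX (iz.conj _) iz
  have e4 : k * g * t * (k * g)⁻¹ = z := by
    calc _ = k * (g * t * g⁻¹) * k⁻¹ := by group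
      _ = z := by rw [hg, conj_of_comm (mem_c1.1 hk)]
  exact hX (conj_inj (e3.trans e4.symm) ▸ zX)

theorem str {T : Subgroup G} (hT : IsSylowIn 2 T ⊤) {a : G} (ha : a * a = 1) (hF : NoF L a)
    (aT : a ∈ T) : ∃ X z, Str (T ⊓ L) X a z := by
  obtain ⟨X, hd⟩ := h.dih _ (h.syl hT)
  refine DH.str hd ha (h.norm aT) (fun y hy y' hy' => hF y hy.2 y' hy'.2) fun w hw c => ?_
  by_contra w2
  obtain ⟨t, ht, hX, ct⟩ := h.noZ4 hT hd ha aT hw w2 c
  obtain ⟨v, hv, iv⟩ := hd.four' hw w2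
  have vX := hd.sq_mem (zpowers_le.2 hw hv)
  exact hX (hF _ (hd.le vX).2 t ht.2 iv (hd.iv_out ht hX)
    ((comm_zp c hv).mul_right (comm_zp c hv)) ct (hd.central vX iv.1 ht) ▸ vX)

theorem zstar {T : Subgroup G} (hT : IsSylowIn 2 T ⊤) {u : G} (iu : Iv u) (uT : u ∈ T)
    (hi : ∀ g, g * u * g⁻¹ ∈ T → g * u * g⁻¹ = u) : False := by
  obtain ⟨N, hN, ho, hc⟩ := Cfsg.Agent.S0215.result hT.sylow u
    (orderOf_eq_prime (by rw [pow_two, iu.1]) iu.2) uT hi
  have hb := h.odd N hN ho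
  have h1 : ∀ k ∈ N, k = 1 := fun k hk => h.cent k fun x hx => by
    have : k * x * k⁻¹ * x⁻¹ ∈ N ⊓ L :=
      mem_inf.2 ⟨by simpa [mul_assoc] using mul_mem hk (hN.conj_mem _ (inv_mem hk) x),
        mul_mem (h.cmem hx k) (inv_mem hx)⟩
    rw [hb, mem_bot, mul_inv_eq_one] at this
    exact comm_of_conj this
  exact iu.2 (h.cent u fun x _ => comm_of_conj (mul_inv_eq_one.1 (h1 _ (hc x))))

theorem mul_mem_L {a b : G} (ha : a * a = 1) (hb : b * b = 1) (c : Commute a b) (ne : a ≠ b)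
    (Fa : NoF L a) (Fb : NoF L b)
    (h4 : ∀ g, g ∈ L ∨ a * g ∈ L ∨ b * g ∈ L ∨ a * b * g ∈ L) : a * b ∈ L := by
  by_contra cL
  obtain ⟨T, hT, aT, bT⟩ := exists_syl (pg_zp ha) (pg_zp hb) c (mem_top a) (mem_top b)
  obtain ⟨X, z, sa⟩ := h.str hT ha Fa aT
  obtain ⟨X', z', sb⟩ := h.str hT hb Fb bT
  have hd := sa.dih
  have ic : Iv (a * b) := Iv.mul ha hb c ne
  have cT : a * b ∈ T := mul_mem aT bT
  have zS := hd.le sa.zX
  have zz : z' = z := by
    have h1 : Commute a (b * z * b⁻¹) := by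
      have := comm_conj sa.az b
      rwa [conj_of_comm c.symm] at this
    have h2 := (sa.fix _ (sb.norm z zS) h1).resolve_left (sa.iz.conj b).2
    exact ((sb.fix z zS (comm_of_conj h2)).resolve_left sa.iz.2).symm
  subst zz
  have cS : ∀ s ∈ T ⊓ L, Commute (a * b) s := by
    by_cases hbig : ∃ w ∈ T ⊓ L, w * w ≠ 1
    · obtain ⟨w, hw, w2⟩ := hbig
      have h1 : ∀ s ∈ T ⊓ L, s * s ≠ 1 → Commute (a * b) s := fun s hs s2 => comm_of_conj (by
        calc _ = a * (b * s * b⁻¹) * a⁻¹ := by group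
          _ = s := by
            rw [sb.inv s (sb.dih.mem_of_sq hs s2), sa.inv _ (inv_mem (hd.mem_of_sq hs s2)), inv_inv])
      have h2 : ∀ x ∈ X, Commute (a * b) x := fun x hx => by
        by_cases e : x * x = 1
        · by_cases e1 : x = 1
          · exact e1 ▸ Commute.one_right _
          · rw [hd.uniq hx sa.zX ⟨e, e1⟩ sa.iz]; exact sa.az.mul_left sb.az
        · exact h1 x (hd.le hx) e
      obtain ⟨t, ht, hX, ct⟩ := h.noZ4 hT hd ic.1 cT hw w2 (h1 w hw w2)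
      intro s hs
      by_cases e : s ∈ X
      · exact h2 s e
      · have := ct.mul_right (h2 _ (hd.mul t ht s hs hX e))
        rwa [← mul_assoc, hd.sq t ht hX, one_mul] at this
    · push Not at hbig
      have h1 : ∀ {X a}, Str (T ⊓ L) X a z' → ∀ s ∈ T ⊓ L,
          s = 1 ∨ s = z' ∨ a * s * a⁻¹ = s * z' := fun {X a} sa s hs => by
        have e1 := sa.norm s hs
        have c1 := comm_of_sq (hbig s hs) (hbig _ e1) (hbig _ (mul_mem hs e1))
        have c2 : Commute a (s * (a * s * a⁻¹)) := comm_of_conj (by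
          calc _ = a * s * a⁻¹ * (a * (a * s * a⁻¹) * a⁻¹) := by group
            _ = _ := by rw [conj_conj sa.aa, c1.eq])
        rcases sa.fix _ (mul_mem hs e1) c2 with e | e
        · have := sa.fix s hs (comm_of_conj
            ((eq_inv_of_mul_eq_one_right e).trans (inv_of_sq (hbig s hs))))
          tauto
        · exact Or.inr (Or.inr (by rw [← e, ← mul_assoc, hbig s hs, one_mul]))
      intro s hs
      rcases h1 sa s hs with e | e | e
      · exact e ▸ Commute.one_right _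
      · exact e ▸ sa.az.mul_left sb.az
      rcases h1 sb s hs with e' | e' | e'
      · exact e' ▸ Commute.one_right _
      · exact e' ▸ sa.az.mul_left sb.az
      apply comm_of_conj
      calc _ = a * (b * s * b⁻¹) * a⁻¹ := by group
        _ = a * s * a⁻¹ * (a * z' * a⁻¹) := by rw [e']; group
        _ = s := by rw [e, conj_of_comm sa.az, mul_assoc, sa.iz.1, mul_one]
  set d := a * b with hdd
  have ad : Commute a d := (Commute.refl a).mul_right c
  have dz := cS z' zS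
  have idz : Iv (d * z') := Iv.mul ic.1 sa.iz.1 dz fun e => cL (e ▸ zS.2)
  -- elements of `T` in the coset `d L`
  have cos : ∀ u, Iv u → u ∈ T → d⁻¹ * u ∈ L →
      u = d ∨ u = d * z' ∨ ∃ s ∈ T ⊓ L, s ∉ X ∧ u = d * s := fun u iu uT uL => by
    have hs : d⁻¹ * u ∈ T ⊓ L := mem_inf.2 ⟨mul_mem (inv_mem cT) uT, uL⟩
    have e : u = d * (d⁻¹ * u) := by group
    generalize d⁻¹ * u = s at hs e
    subst e
    by_cases e1 : s = 1
    · exact Or.inl (by rw [e1, mul_one])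
    by_cases e2 : s = z'
    · exact Or.inr (Or.inl (by rw [e2]))
    refine Or.inr (Or.inr ⟨s, hs, sa.out ⟨?_, e1⟩ e2, rfl⟩)
    have := iu.1
    rwa [mul_assoc, ← mul_assoc s, ← (cS s hs).eq, ← mul_assoc, ← mul_assoc, ic.1, one_mul] at this
  have cl : ∀ s ∈ T ⊓ L, s ∉ X → ∀ s' ∈ T ⊓ L, s' ∉ X → IsConj (d * s) (d * s') :=
    fun s hs hX s' hs' hX' => by
      obtain ⟨k, hk, e | e⟩ := sa.conj_out hs hX hs' hX'
      · refine isConj_iff.2 ⟨k, ?_⟩
        rw [← e]; nth_rewrite 2 [← conj_of_comm (cS k hk).symm]; group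
      · refine isConj_iff.2 ⟨k * a, ?_⟩
        rw [← e]; nth_rewrite 2 [← conj_of_comm ((cS k hk).symm.mul_left ad)]; group
  -- `T` centralizes `d` and `z`
  have Tc : ∀ g ∈ T, Commute g z' ∧ Commute g d := fun g hg => by
    have h1 : ∀ x ∈ T, Commute x z' → Commute x d → x * g ∈ L → Commute g z' ∧ Commute g d :=
      fun x hx c1 c2 xL => by
        have e : x * g ∈ T ⊓ L := mem_inf.2 ⟨mul_mem hx hg, xL⟩
        have e1 := c1.inv_left.mul_left (hd.central sa.zX sa.iz.1 e).symm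
        have e2 := c2.inv_left.mul_left (cS _ e).symm
        rw [inv_mul_cancel_left] at e1 e2
        exact ⟨e1, e2⟩
    rcases h4 g with e | e | e | e
    · exact h1 1 (one_mem _) (Commute.one_left _) (Commute.one_left _) (by rwa [one_mul])
    · exact h1 a aT sa.az ad e
    · exact h1 b bT sb.az (c.symm.mul_right (Commute.refl b)) e
    · exact h1 d cT dz (Commute.refl d) e
  have nc : ¬ IsConj d (d * z') := fun hc => by
    obtain ⟨g, hg⟩ := isConj_iff.1 hc
    have T1 : T ≤ centralizer ({d * z'} : Set G) := fun x hx =>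
      mem_c1.2 ((Tc x hx).2.mul_right (Tc x hx).1)
    have T2 : cj g T ≤ centralizer ({d * z'} : Set G) := cj_le_iff.2 fun x hx =>
      mem_c1.2 (hg ▸ comm_conj (Tc x hx).2 g)
    obtain ⟨k, hk, e⟩ := ((hT.cj_of_mem (mem_top g)).of_le T2 le_top).exists_cj_eq
      (hT.of_le T1 le_top)
    rw [cj_cj] at e
    have nT := mem_normalizer_iff_cj.2 e
    have nd : k * g * d * (k * g)⁻¹ = d * z' := by
      calc _ = k * (g * d * g⁻¹) * k⁻¹ := by group
        _ = _ := by rw [hg, conj_of_comm (mem_c1.1 hk)]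
    generalize k * g = n at e nT nd
    have nz : Commute n z' := by
      have e1 : n⁻¹ * a * n ∈ T := mem_cj.1 (e.symm ▸ aT)
      have e2 := comm_conj (Tc _ e1).1 n
      rw [show n * (n⁻¹ * a * n) * n⁻¹ = a by group] at e2
      have e3 : n * z' * n⁻¹ ∈ T ⊓ L := mem_inf.2 ⟨e ▸ conj_mem_cj n zS.1, h.cmem zS.2 n⟩
      exact comm_of_conj ((sa.fix _ e3 e2).resolve_left (sa.iz.conj n).2)
    obtain ⟨p, q, hp, hq, ⟨j, hj⟩, ho, rfl⟩ := exists_pPart (p := 2) n
    have pT := hT.mem_of_pow hj (mem_top p) (zpowers_le.2 nT hp)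
    have qz := comm_zp nz.symm hq
    have qd : q * d * q⁻¹ = d * z' := by
      apply conj_inj (g := p)
      rw [conj_of_comm ((Tc p pT).2.mul_right (Tc p pT).1), ← nd]; group
    have q2 : Commute d (q ^ 2) := (comm_of_conj (by
      calc _ = q * (q * d * q⁻¹) * q⁻¹ := by rw [pow_two]; simp only [mul_inv_rev, mul_assoc]
        _ = q * (d * z') * q⁻¹ := by rw [qd]
        _ = q * d * q⁻¹ * (q * z' * q⁻¹) := by group
        _ = d := by rw [qd, conj_of_comm qz.symm, mul_assoc, sa.iz.1, mul_one])).symm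
    have q3 := comm_zp q2 (mem_zpowers_pow_iff.2 ho.symm)
    rw [conj_of_comm q3.symm] at qd
    exact sa.iz.2 (by simpa using qd)
  by_cases hy : ∃ s ∈ T ⊓ L, s ∉ X ∧ IsConj d (d * s)
  · obtain ⟨s, hs, hX, cs⟩ := hy
    refine h.zstar hT idz (mul_mem cT zS.1) fun g hg => ?_
    have e : IsConj (d * z') (g * (d * z') * g⁻¹) := isConj_iff.2 ⟨g, rfl⟩
    rcases cos _ (idz.conj g) hg (by
      have := mul_mem zS.2 (h.coset g (d * z'))
      rwa [show z' * ((d * z')⁻¹ * (g * (d * z') * g⁻¹)) = d⁻¹ * (g * (d * z') * g⁻¹) by group]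
        at this) with e1 | e1 | ⟨s', hs', hX', e1⟩
    · rw [e1] at e; exact (nc e.symm).elim
    · exact e1
    · rw [e1] at e; exact (nc ((cs.trans (cl s hs hX s' hs' hX')).trans e.symm)).elim
  · refine h.zstar hT ic cT fun g hg => ?_
    have e : IsConj d (g * d * g⁻¹) := isConj_iff.2 ⟨g, rfl⟩
    rcases cos _ (ic.conj g) hg (h.coset g d) with e1 | e1 | ⟨s', hs', hX', e1⟩
    · exact e1
    · rw [e1] at e; exact (nc e).elim
    · rw [e1] at e; exact (hy ⟨s', hs', hX', e⟩).elim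

end Ctx

end CfsgH1.DH
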