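import Cfsg.Agent.H1.DH2

/-! S1916, part 3: outer involutions fixing a unique point. -/

set_option autoImplicit false
set_option linter.unusedSectionVars false

namespace CfsgH1.DH

open Subgroup

variable {G : Type*} [Group G]

def Ou (L : Subgroup G) (u : G) : Prop := u * u = 1 ∧ u ∉ L
def In (L : Subgroup G) (y : G) : Prop := y ∈ L ∧ Iv y

theorem Ou.iv {L : Subgroup G} {u : G} (h : Ou L u) : Iv u := ⟨h.1, fun e => h.2 (e ▸ one_mem L)⟩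

theorem Ou.ne {L : Subgroup G} {u y : G} (h : Ou L u) (hy : y ∈ L) : u ≠ y := fun e => h.2 (e ▸ hy)

theorem Ou.mul {L : Subgroup G} {u y : G} (h : Ou L u) (hy : In L y) (c : Commute u y) :
    Ou L (u * y) := ⟨sq_mul h.1 hy.2.1 c, Dih.mul_not h.2 hy.1⟩

noncomputable def fs [Finite G] (P : G → Prop) : Finset G := (Set.toFinite {g | P g}).toFinset

omit [Group G] in
@[simp] theorem mem_fs [Finite G] {P : G → Prop} {g : G} : g ∈ fs P ↔ P g := by simp [fs]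

omit [Group G] in
theorem fs_congr [Finite G] {P Q : G → Prop} (h : ∀ x, P x ↔ Q x) : fs P = fs Q := by
  ext x; simp [h]

omit [Group G] in
theorem fs_sub [Finite G] {P Q : G → Prop} (h : ∀ x, P x → Q x) : fs P ⊆ fs Q := fun x hx =>
  mem_fs.2 (h x (mem_fs.1 hx))

theorem card_conj_le [Finite G] {P Q : G → Prop} (g : G) (h : ∀ x, P x → Q (g * x * g⁻¹)) :
    (fs P).card ≤ (fs Q).card :=
  Finset.card_le_card_of_injOn (fun x => g * x * g⁻¹) (fun x hx => mem_fs.2 (h x (mem_fs.1 hx)))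
    fun _ _ _ _ e => conj_inj e

theorem fib {α β : Type*} (A : Finset α) (W : Finset β) (B : β → Finset α)
    (h1 : ∀ u, u ∈ A ↔ ∃ t ∈ W, u ∈ B t)
    (h2 : ∀ t ∈ W, ∀ t' ∈ W, ∀ u ∈ B t, u ∈ B t' → t = t') : A.card = ∑ t ∈ W, (B t).card := by
  classical
  rw [← Finset.card_biUnion fun t ht t' ht' ne => Finset.disjoint_left.2 fun u hu hu' =>
    ne (h2 t ht t' ht' u hu hu')]
  congr 1; ext u; rw [h1, Finset.mem_biUnion]

structure C2 (L : Subgroup G) (a : G) : Prop extends Ctx L where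
  aa : a * a = 1
  nof : NoF L a
  idx : ∀ g, g ∈ L ∨ a * g ∈ L

def Wit (u y t : G) : Prop := Iv t ∧ Commute t u ∧ Commute t y ∧ t ≠ u ∧ t ≠ y

/-- outer involutions of `Y` commuting with `t`, other than `t` -/
noncomputable def cO [Finite G] (L Y : Subgroup G) (t : G) : ℕ :=
  (fs fun u => Ou L u ∧ u ∈ Y ∧ Commute t u ∧ t ≠ u).card

namespace C2

variable [Finite G] {L : Subgroup G} {a : G} (h : C2 L a)
include h

theorem oa : Ou L a := ⟨h.aa, h.not_mem h.aa h.nof⟩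

theorem mul_out {u v : G} (hu : u ∉ L) (hv : v ∉ L) : u * v ∈ L := by
  have := mul_mem (h.cmem ((h.idx u).resolve_left hu) a⁻¹) ((h.idx v).resolve_left hv)
  rwa [show a⁻¹ * (a * u) * a⁻¹⁻¹ * (a * v) = u * (a * a) * v by group, h.aa, mul_one] at this

theorem ou_conj {u : G} (hu : Ou L u) (g : G) : Ou L (g * u * g⁻¹) :=
  ⟨sq_conj hu.1 g, fun e => hu.2 (by simpa [mul_assoc] using h.cmem e g⁻¹)⟩

theorem in_conj {y : G} (hy : In L y) (g : G) : In L (g * y * g⁻¹) := ⟨h.cmem hy.1 g, hy.2.conj g⟩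

theorem in_mul {u v : G} (hu : Ou L u) (hv : Ou L v) (c : Commute u v) (ne : u ≠ v) :
    In L (u * v) := ⟨h.mul_out hu.2 hv.2, Iv.mul hu.1 hv.1 c ne⟩

theorem conj_syl {T : Subgroup G} (hT : IsSylowIn 2 T ⊤) (aT : a ∈ T) {u : G} (hu : Ou L u)
    (uT : u ∈ T) : ∃ k ∈ T ⊓ L, k * a * k⁻¹ = u := by
  obtain ⟨X, z, s⟩ := h.str hT h.aa h.nof aT
  have e : a * (a * u) = u := by rw [← mul_assoc, h.aa, one_mul]
  have := s.conj_outer (mem_inf.2 ⟨mul_mem aT uT, h.mul_out h.oa.2 hu.2⟩) (by rw [e, hu.1])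
  rwa [e] at this

theorem conj_a {u : G} (hu : Ou L u) : ∃ g, g * a * g⁻¹ = u := by
  obtain ⟨T, hT, h1⟩ := exists_isSylowIn_ge (pg_zp h.aa) le_top
  obtain ⟨k, -, hk⟩ := conj_into hT (pg_zp hu.1) (mem_top u)
  obtain ⟨g, -, hg⟩ := h.conj_syl hT (h1 (mem_zpowers a)) (h.ou_conj hu k) hk
  exact ⟨k⁻¹ * g, conj_inj (g := k) (by rw [← hg]; group)⟩

theorem move {u : G} (hu : Ou L u) : C2 L u := by
  obtain ⟨g, rfl⟩ := h.conj_a hu
  refine ⟨h.toCtx, hu.1, fun y hy y' hy' iy iy' c c' c'' => ?_, fun x => ?_⟩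
  · have e : g⁻¹ * (g * a * g⁻¹) * g⁻¹⁻¹ = a := by group
    exact conj_inj (h.nof _ (h.cmem hy g⁻¹) _ (h.cmem hy' g⁻¹) (iy.conj _) (iy'.conj _)
      (e ▸ comm_conj c g⁻¹) (e ▸ comm_conj c' g⁻¹) (comm_conj c'' _))
  · by_cases e : x ∈ L
    exacts [Or.inl e, Or.inr (h.mul_out hu.2 e)]

theorem conj_ou {u v : G} (hu : Ou L u) (hv : Ou L v) : ∃ g, g * u * g⁻¹ = v :=
  (h.move hu).conj_a hv

theorem p2 {u y y' : G} (hu : Ou L u) (hy : In L y) (hy' : In L y') (c : Commute u y)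
    (c' : Commute u y') (c'' : Commute y y') : y = y' :=
  (h.move hu).nof y hy.1 y' hy'.1 hy.2 hy'.2 c c' c''

theorem conjI {u y y' : G} (hu : Ou L u) (hy : In L y) (hy' : In L y') (c : Commute u y)
    (c' : Commute u y') : ∃ k ∈ zpowers (y * y'), k * y' * k⁻¹ = y := by
  rcases di hy.2.1 hy'.2.1 with e | ⟨v, hv, iv, c1, c2⟩
  · exact e
  have hv' : In L v := ⟨zpowers_le.2 (mul_mem hy.1 hy'.1) hv, iv⟩
  have c3 := comm_zp (c.mul_right c') hv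
  exact ⟨1, one_mem _, by
    rw [← h.p2 hu hv' hy c3 c c1, ← h.p2 hu hv' hy' c3 c' c2, one_mul, inv_one, mul_one]⟩

theorem exI {u : G} (hu : Ou L u) : ∃ z, In L z ∧ Commute u z := by
  obtain ⟨T, hT, h1⟩ := exists_isSylowIn_ge (pg_zp hu.1) le_top
  obtain ⟨X, z, s⟩ := h.str hT hu.1 (h.move hu).nof (h1 (mem_zpowers u))
  exact ⟨z, ⟨(s.dih.le s.zX).2, s.iz⟩, s.az⟩

theorem wit_ex {u y : G} (hu : Ou L u) (hy : In L y) : ∃ t ∈ zpowers (u * y), Wit u y t := by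
  rcases di hu.1 hy.2.1 with ⟨k, -, e⟩ | ⟨t, ht, it, c1, c2⟩
  · exact (hu.2 (e ▸ h.cmem hy.1 k)).elim
  refine ⟨t, ht, it, c1, c2, ?_, ?_⟩
  · rintro rfl
    rcases mem_zp_sq (sq_mul hu.1 hy.2.1 c2) ht with e | e
    exacts [it.2 e, hy.2.2 (by simpa using e)]
  · rintro rfl
    rcases mem_zp_sq (sq_mul hu.1 hy.2.1 c1.symm) ht with e | e
    exacts [it.2 e, hu.iv.2 (by simpa using e)]

theorem wit_uniq {u y t t' : G} (hu : Ou L u) (hy : In L y) (w : Wit u y t) (w' : Wit u y t') :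
    t = t' := by
  obtain ⟨s, hs, ws⟩ := h.wit_ex hu hy
  have key : ∀ t, Wit u y t → t = s := fun t w => by
    obtain ⟨it, c1, c2, n1, n2⟩ := w
    obtain ⟨is, d1, d2, m1, m2⟩ := ws
    have c := comm_zp (c1.mul_right c2) hs
    by_cases tL : t ∈ L <;> by_cases sL : s ∈ L
    · exact h.p2 hu ⟨tL, it⟩ ⟨sL, is⟩ c1.symm d1.symm c
    · exact (n2 (h.p2 ⟨is.1, sL⟩ ⟨tL, it⟩ hy c.symm d2 c2)).elim
    · exact (m2 (h.p2 ⟨it.1, tL⟩ ⟨sL, is⟩ hy c c2 d2)).elim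
    · by_contra ne
      have i1 := h.in_mul ⟨it.1, tL⟩ ⟨is.1, sL⟩ c ne
      have i2 := h.in_mul ⟨it.1, tL⟩ hu c1 n1
      exact m1 (mul_left_cancel (h.p2 ⟨it.1, tL⟩ i1 i2 ((Commute.refl t).mul_right c)
        ((Commute.refl t).mul_right c1)
        (((Commute.refl t).mul_right c1).mul_left (c.symm.mul_right d1))))
  exact (key t w).trans (key t' w').symm

theorem cf1 {Y : Subgroup G} {y : G} (hy : In L y) (yY : y ∈ Y) :
    (fs fun u => Ou L u ∧ u ∈ Y).card =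
      ∑ t ∈ fs fun t => In L t ∧ t ∈ Y ∧ Commute t y ∧ t ≠ y, cO L Y t +
      ∑ t ∈ fs fun t => Ou L t ∧ t ∈ Y ∧ Commute t y, cO L Y t := by
  classical
  rw [← Finset.sum_union (Finset.disjoint_left.2 fun t ht ht' =>
    (mem_fs.1 ht').1.2 (mem_fs.1 ht).1.1)]
  refine fib _ _ _ (fun u => ?_) fun t ht t' ht' u hu hu' => ?_
  · simp only [mem_fs, Finset.mem_union]
    refine ⟨fun ⟨hu, uY⟩ => ?_, fun ⟨_, _, h1, h2, _⟩ => ⟨h1, h2⟩⟩
    obtain ⟨t, ht, it, c1, c2, n1, n2⟩ := h.wit_ex hu hy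
    have tY : t ∈ Y := zpowers_le.2 (mul_mem uY yY) ht
    refine ⟨t, ?_, hu, uY, c1, n1⟩
    by_cases tL : t ∈ L
    exacts [Or.inl ⟨⟨tL, it⟩, tY, c2, n2⟩, Or.inr ⟨⟨it.1, tL⟩, tY, c2⟩]
  · simp only [mem_fs, Finset.mem_union] at ht ht' hu hu'
    have k : ∀ t, (In L t ∧ t ∈ Y ∧ Commute t y ∧ t ≠ y ∨ Ou L t ∧ t ∈ Y ∧ Commute t y) →
        Commute t u → t ≠ u → Wit u y t := fun t ht c n => by
      rcases ht with ⟨h1, -, h2, h3⟩ | ⟨h1, -, h2⟩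
      exacts [⟨h1.2, c, h2, n, h3⟩, ⟨h1.iv, c, h2, n, h1.ne hy.1⟩]
    exact h.wit_uniq hu.1 hy (k t ht hu.2.2.1 hu.2.2.2) (k t' ht' hu'.2.2.1 hu'.2.2.2)

theorem cO_eq {u v : G} (hu : Ou L u) (hv : Ou L v) : cO L ⊤ u = cO L ⊤ v := by
  have k : ∀ u v, Ou L u → Ou L v → cO L ⊤ u ≤ cO L ⊤ v := fun u v hu hv => by
    obtain ⟨g, rfl⟩ := h.conj_ou hu hv
    exact card_conj_le g fun x hx => ⟨h.ou_conj hx.1 g, mem_top _, comm_conj hx.2.2.1 g,
      fun e => hx.2.2.2 (conj_inj e)⟩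
  exact (k u v hu hv).antisymm (k v u hv hu)

end C2

theorem cO_le [Finite G] (L Y : Subgroup G) (t : G) : cO L Y t ≤ cO L ⊤ t :=
  Finset.card_le_card (fs_sub fun _ hx => ⟨hx.1, mem_top _, hx.2.2⟩)

theorem cO_full [Finite G] {L Y : Subgroup G} {t u : G} (e : cO L ⊤ t ≤ cO L Y t) (tY : t ∈ Y)
    (hu : Ou L u) (c : Commute t u) : u ∈ Y := by
  by_cases ne : t = u
  · exact ne ▸ tY
  have := Finset.eq_of_subset_of_card_le
    (fs_sub (Q := fun u => Ou L u ∧ u ∈ ⊤ ∧ Commute t u ∧ t ≠ u)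
      fun _ (hx : Ou L _ ∧ _ ∈ Y ∧ Commute t _ ∧ t ≠ _) => ⟨hx.1, mem_top _, hx.2.2⟩) e
  have h1 : u ∈ fs fun u => Ou L u ∧ u ∈ (⊤ : Subgroup G) ∧ Commute t u ∧ t ≠ u :=
    mem_fs.2 ⟨hu, mem_top _, c, ne⟩
  rw [← this] at h1
  exact (mem_fs.1 h1).2.1

section Phi

variable {Ω : Type*} [MulAction G Ω]

def Pl (L : Subgroup G) (φ : G → Ω) (z : G) (α : Ω) : Prop :=
  In L z ∧ ∃ w, Ou L w ∧ Commute z w ∧ φ w = α

structure Phi (L : Subgroup G) (a : G) (φ : G → Ω) : Prop extends C2 L a where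
  p1 : ∀ u g, Ou L u → φ (g * u * g⁻¹) = g • φ u
  pu : ∀ u v, Ou L u → Ou L v → v • φ u = φ u → φ v = φ u
  p3 : ∀ u v, Ou L u → Ou L v → (∀ z, Pl L φ z (φ u) → Pl L φ z (φ v)) → φ u = φ v

def PA (L : Subgroup G) (φ : G → Ω) (α : Ω) : Prop := ∀ y, In L y → y • α = α → Pl L φ y α

def PB (L : Subgroup G) (φ : G → Ω) (α : Ω) : Prop :=
  ∀ Q : Subgroup G, IsPGroup 2 Q → (∀ g ∈ Q, g • α = α) → ∀ y ∈ Q, ∀ y' ∈ Q,
    Pl L φ y α → Pl L φ y' α → y = y'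

theorem smul_sq {s : G} (hs : s * s = 1) {α β : Ω} (e : s • α = β) : s • β = α := by
  rw [← e, ← mul_smul, hs, one_smul]

/-- inner elements fixing both points and outer elements interchanging them -/
def YY {L : Subgroup G} {a : G} [Finite G] (h : C2 L a) (α β : Ω) : Subgroup G where
  carrier := {g | g ∈ L ∧ g • α = α ∧ g • β = β ∨ g ∉ L ∧ g • α = β ∧ g • β = α}
  one_mem' := Or.inl ⟨one_mem _, one_smul _ _, one_smul _ _⟩
  mul_mem' := by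
    rintro x y (⟨a1, a2, a3⟩ | ⟨a1, a2, a3⟩) (⟨b1, b2, b3⟩ | ⟨b1, b2, b3⟩)
    · exact Or.inl ⟨mul_mem a1 b1, by rw [mul_smul, b2, a2], by rw [mul_smul, b3, a3]⟩
    · exact Or.inr ⟨fun e => b1 (by simpa using mul_mem (inv_mem a1) e),
        by rw [mul_smul, b2, a3], by rw [mul_smul, b3, a2]⟩
    · exact Or.inr ⟨Dih.mul_not a1 b1, by rw [mul_smul, b2, a2], by rw [mul_smul, b3, a3]⟩
    · exact Or.inl ⟨h.mul_out a1 b1, by rw [mul_smul, b2, a3], by rw [mul_smul, b3, a2]⟩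
  inv_mem' := by
    rintro x (⟨a1, a2, a3⟩ | ⟨a1, a2, a3⟩)
    · exact Or.inl ⟨inv_mem a1, inv_smul_eq_iff.2 a2.symm, inv_smul_eq_iff.2 a3.symm⟩
    · exact Or.inr ⟨fun e => a1 (inv_mem_iff.1 e), inv_smul_eq_iff.2 a3.symm,
        inv_smul_eq_iff.2 a2.symm⟩

theorem mem_YY {L : Subgroup G} {a : G} [Finite G] {h : C2 L a} {α β : Ω} {g : G} :
    g ∈ YY h α β ↔ g ∈ L ∧ g • α = α ∧ g • β = β ∨ g ∉ L ∧ g • α = β ∧ g • β = α := Iff.rfl

theorem ou_YY {L : Subgroup G} {a : G} [Finite G] {h : C2 L a} {α β : Ω} {g : G} (hg : Ou L g) :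
    g ∈ YY h α β ↔ g • α = β :=
  ⟨fun e => (e.resolve_left fun e => hg.2 e.1).2.1, fun e => Or.inr ⟨hg.2, e, smul_sq hg.1 e⟩⟩

theorem in_YY {L : Subgroup G} {a : G} [Finite G] {h : C2 L a} {α β : Ω} {g : G} (hg : g ∈ L) :
    g ∈ YY h α β ↔ g • α = α ∧ g • β = β :=
  ⟨fun e => (e.resolve_right fun e => e.1 hg).2, fun e => Or.inl ⟨hg, e⟩⟩

namespace Phi

variable [Finite G] {L : Subgroup G} {a : G} {φ : G → Ω} (h : Phi L a φ)
include h

theorem fixc {u g : G} (hu : Ou L u) (c : Commute g u) : g • φ u = φ u := by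
  rw [← h.p1 u g hu, conj_of_comm c]

theorem fix_iff {u v : G} (hu : Ou L u) (hv : Ou L v) : v • φ u = φ u ↔ φ v = φ u :=
  ⟨h.pu u v hu hv, fun e => e ▸ h.fixc hv (Commute.refl v)⟩

theorem pl_fix {z : G} {α : Ω} (hz : Pl L φ z α) : z • α = α := by
  obtain ⟨-, w, hw, c, rfl⟩ := hz
  exact h.fixc hw c

theorem pl_conj {z : G} {α : Ω} (hz : Pl L φ z α) (g : G) : Pl L φ (g * z * g⁻¹) (g • α) := by
  obtain ⟨iz, w, hw, c, rfl⟩ := hz
  exact ⟨h.in_conj iz g, _, h.ou_conj hw g, comm_conj c g, h.p1 w g hw⟩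

theorem pl_conj' {z g : G} {α : Ω} (hz : Pl L φ z α) (hg : g • α = α) :
    Pl L φ (g * z * g⁻¹) α := by
  have := h.pl_conj hz g
  rwa [hg] at this

theorem p4 {Q : Subgroup G} (hQ : IsPGroup 2 Q) {u : G} (hu : Ou L u) (uQ : u ∈ Q) :
    Q ≤ MulAction.stabilizer G (φ u) := by
  have uS : u ∈ MulAction.stabilizer G (φ u) := h.fixc hu (Commute.refl u)
  refine (le_of_inf_normalizer_le hQ (inf_le_left (b := MulAction.stabilizer G (φ u)))
    fun g hg => mem_inf.2 ⟨hg.1, ?_⟩).trans inf_le_right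
  have := (mem_normalizer_iff.1 hg.2 u).1 (mem_inf.2 ⟨uQ, uS⟩)
  rw [MulAction.mem_stabilizer_iff, ← h.p1 u g hu]
  exact h.pu u _ hu (h.ou_conj hu g) this.2

theorem inv2 {u : G} (hu : Ou L u) (e : ℕ) : ∀ d ∈ L, d ^ 2 ^ e = 1 → u * d * u⁻¹ = d⁻¹ →
    φ (u * d) = φ u := by
  induction e with
  | zero => intro d _ h1 _; rw [pow_zero, pow_one] at h1; rw [h1, mul_one]
  | succ e ih =>
    intro d hd h1 h2
    have h3 := ih (d * d) (mul_mem hd hd) (by rw [← pow_two, ← pow_mul, ← pow_succ', h1])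
      (invert_zp h2 (mul_mem (mem_zpowers d) (mem_zpowers d)))
    have h4 : u * (d * d) = d⁻¹ * u * d⁻¹⁻¹ := by rw [inv_inv, ← h2]; group
    rw [h4, h.p1 u _ hu, inv_smul_eq_iff] at h3
    refine h.pu u _ hu ⟨?_, Dih.mul_not hu.2 hd⟩
      (by rw [mul_smul, ← h3, h.fixc hu (Commute.refl u)])
    calc _ = u * d * u⁻¹ * (u * u) * d := by group
      _ = 1 := by rw [h2, hu.1]; group

theorem sw {Y : Subgroup G} {u : G} (hu : Ou L u) (uY : u ∈ Y) (β : Ω) :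
    (fs fun s => Ou L s ∧ s ∈ Y ∧ s • φ u = β).card =
      (fs fun v => Ou L v ∧ v ∈ Y ∧ φ v = β).card := by
  obtain ⟨e, o, ho, hN⟩ := Nat.exists_eq_two_pow_mul_odd (Nat.card_pos (α := G)).ne'
  have hc : (Nat.card G).Coprime (2 + o) := by
    rw [hN]
    refine Nat.Coprime.mul_left (Nat.Coprime.pow_left _ ?_) ?_
    · simpa using ho
    · simpa using ho
  have inj : ∀ s s', u * (u * s) ^ (2 + o) = u * (u * s') ^ (2 + o) → s = s' := fun s s' e =>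
    mul_left_cancel ((powCoprime hc).injective (mul_left_cancel e))
  have k : ∀ s, Ou L s → Ou L (u * (u * s) ^ (2 + o)) ∧ φ (u * (u * s) ^ (2 + o)) = s • φ u :=
    fun s hs => by
      have h1 := h.mul_out hu.2 hs.2
      have h2 : u * (u * s) ^ (2 + o) = s * u * s⁻¹ * (u * s) ^ o := by
        rw [pow_add, pow_two, inv_of_sq hs.1]
        calc _ = u * u * (s * u * s * (u * s) ^ o) := by group
          _ = _ := by rw [hu.1, one_mul]
      have h3 : s * u * s⁻¹ * (u * s) * (s * u * s⁻¹)⁻¹ = (u * s)⁻¹ := by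
        have e1 := inv_left hu.1 hs.1
        have e2 := invert_zp (inv_right hu.1 hs.1) (inv_mem (mem_zpowers _))
        have e3 : s⁻¹ * (u * s) * s = (u * s)⁻¹ := by
          have := inv_right hu.1 hs.1
          rwa [inv_of_sq hs.1] at this ⊢
        calc _ = s * (u * (s⁻¹ * (u * s) * s) * u⁻¹) * s⁻¹ := by group
          _ = _ := by
            rw [e3, invert_zp e1 (inv_mem (mem_zpowers _)), inv_inv, inv_right hu.1 hs.1]
      have h4 := invert_zp h3 (pow_mem (mem_zpowers (u * s)) o)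
      refine ⟨⟨?_, Dih.mul_not hu.2 (pow_mem h1 _)⟩, ?_⟩
      · have := invert_zp (inv_left hu.1 hs.1) (pow_mem (mem_zpowers (u * s)) (2 + o))
        calc _ = u * (u * s) ^ (2 + o) * u⁻¹ * (u * u) * (u * s) ^ (2 + o) := by group
          _ = 1 := by rw [this, hu.1]; group
      · rw [h2, h.inv2 (h.ou_conj hu s) e _ (pow_mem h1 o)
          (by rw [← pow_mul, mul_comm o, ← hN, pow_card_eq_one']) h4, h.p1 u s hu]
  have m : ∀ s ∈ fs fun s => Ou L s ∧ s ∈ Y, u * (u * s) ^ (2 + o) ∈ fs fun s => Ou L s ∧ s ∈ Y :=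
    fun s hs => mem_fs.2 ⟨(k s (mem_fs.1 hs).1).1,
      mul_mem uY (pow_mem (mul_mem uY (mem_fs.1 hs).2) _)⟩
  refine Finset.card_bij (fun s _ => u * (u * s) ^ (2 + o)) (fun s hs => ?_)
    (fun s _ s' _ e => inj s s' e) fun v hv => ?_
  · obtain ⟨h1, h2, h3⟩ := mem_fs.1 hs
    exact mem_fs.2 ⟨(k s h1).1, (mem_fs.1 (m s (mem_fs.2 ⟨h1, h2⟩))).2, (k s h1).2.trans h3⟩
  · obtain ⟨h1, h2, h3⟩ := mem_fs.1 hv
    obtain ⟨s, hs, rfl⟩ := Finset.surj_on_of_inj_on_of_card_le (fun s _ => u * (u * s) ^ (2 + o)) m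
      (fun s s' _ _ e => inj s s' e) le_rfl v (mem_fs.2 ⟨h1, h2⟩)
    obtain ⟨h4, h5⟩ := mem_fs.1 hs
    exact ⟨s, mem_fs.2 ⟨h4, h5, (k s h4).2.symm.trans h3⟩, rfl⟩

theorem dich {u : G} (hu : Ou L u) : PA L φ (φ u) ∨ PB L φ (φ u) := by
  refine or_iff_not_imp_right.2 fun hB => ?_
  simp only [PB, not_forall] at hB
  obtain ⟨Q, hQ, Qf, y, yQ, y', yQ', py, py', ne⟩ := hB
  obtain ⟨T, hT, h1⟩ := exists_isSylowIn_ge (pg_zp hu.1) le_top
  have uT := h1 (mem_zpowers u)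
  have TM := h.p4 hT.pgroup hu uT
  have hT' := hT.of_le TM le_top
  obtain ⟨X, z, s⟩ := h.str hT hu.1 (h.move hu).nof uT
  obtain ⟨k, hk, e⟩ := hT'.exists_cj_le hQ Qf
  obtain ⟨t, tT, pt, tz⟩ : ∃ t ∈ T, Pl L φ t (φ u) ∧ t ≠ z := by
    by_cases e1 : k * y * k⁻¹ = z
    · exact ⟨_, e (conj_mem_cj k yQ'), h.pl_conj' py' hk, fun e2 => ne (conj_inj (e1.trans e2.symm))⟩
    · exact ⟨_, e (conj_mem_cj k yQ), h.pl_conj' py hk, e1⟩
  intro x ix xf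
  obtain ⟨g, hg, gT⟩ := conj_into hT' (pg_zp ix.2.1) xf
  have ig := h.in_conj ix g
  suffices Pl L φ (g * x * g⁻¹) (φ u) by
    have := h.pl_conj' this (inv_mem hg)
    rwa [show g⁻¹ * (g * x * g⁻¹) * g⁻¹⁻¹ = x by group] at this
  by_cases e1 : g * x * g⁻¹ = z
  · exact ⟨ig, u, hu, e1 ▸ s.az.symm, rfl⟩
  obtain ⟨j, hj, e2 | e2⟩ := s.conj_out (mem_inf.2 ⟨tT, pt.1.1⟩) (s.out pt.1.2 tz)
    (mem_inf.2 ⟨gT, ig.1⟩) (s.out ig.2 e1)
  · exact e2 ▸ h.pl_conj' pt (TM hj.1)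
  · exact e2 ▸ h.pl_conj' pt (TM (mul_mem hj.1 uT))

theorem pa_move {u v : G} (hu : Ou L u) (hv : Ou L v) (hA : PA L φ (φ u)) : PA L φ (φ v) := by
  obtain ⟨g, rfl⟩ := h.conj_ou hu hv
  intro y iy e
  rw [h.p1 u g hu] at e ⊢
  have := h.pl_conj (hA _ (h.in_conj iy g⁻¹) (by
    rw [inv_inv, mul_smul, mul_smul, e, inv_smul_smul])) g
  rwa [show g * (g⁻¹ * y * g⁻¹⁻¹) * g⁻¹ = y by group] at this

theorem j_conj {α β : Ω} {z k : G} (p : Pl L φ z α) (q : Pl L φ z β) (hk : k ∈ YY h.toC2 α β) :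
    Pl L φ (k * z * k⁻¹) α ∧ Pl L φ (k * z * k⁻¹) β := by
  rcases hk with ⟨-, e1, e2⟩ | ⟨-, e1, e2⟩
  · exact ⟨h.pl_conj' p e1, h.pl_conj' q e2⟩
  · exact ⟨e2 ▸ h.pl_conj q k, e1 ▸ h.pl_conj p k⟩

theorem sw_c {α β : Ω} {z : G} (p : Pl L φ z α) (v : G) (hv : Ou L v) (e : φ v = β) :
    (fs fun t => Ou L t ∧ t ∈ YY h.toC2 α β ∧ Commute t z).card =
      (fs fun t => Ou L t ∧ t ∈ MulAction.stabilizer G β ∧ Commute t z).card := by
  obtain ⟨-, u, hu, c, rfl⟩ := p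
  subst e
  refine (congrArg Finset.card (fs_congr fun t => and_congr_right fun ht => ?_)).trans
    ((h.sw hu (mem_c1.2 c.symm) (φ v)).trans
      (congrArg Finset.card (fs_congr fun t => and_congr_right fun ht => ?_)))
  · rw [ou_YY ht, mem_c1, and_comm]
  · rw [MulAction.mem_stabilizer_iff, h.fix_iff hv ht, mem_c1, and_comm]

theorem count {α β : Ω} {z : G} (p : Pl L φ z α) (q : Pl L φ z β) :
    (∀ t, Pl L φ t β → Commute t z → t • α = α) ∧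
      ∀ s, Ou L s → s ∈ YY h.toC2 α β → Commute s z → ∀ u, Ou L u → Commute s u →
        u ∈ YY h.toC2 α β := by
  classical
  obtain ⟨iz, u, hu, cu, eu⟩ := id p
  obtain ⟨-, v, hv, cv, ev⟩ := id q
  set Y := YY h.toC2 α β with hY
  set M := MulAction.stabilizer G β with hM
  have zY : z ∈ Y := (in_YY iz.1).2 ⟨h.pl_fix p, h.pl_fix q⟩
  have e0 : (fs fun s => Ou L s ∧ s ∈ Y).card = (fs fun s => Ou L s ∧ s ∈ M).card := by
    refine (congrArg Finset.card (fs_congr fun t => and_congr_right fun ht => ?_)).trans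
      ((h.sw hu (mem_top u) β).trans
        (congrArg Finset.card (fs_congr fun t => and_congr_right fun ht => ?_)))
    · rw [ou_YY ht, eu]; simp
    · rw [hM, MulAction.mem_stabilizer_iff, ← ev, h.fix_iff hv ht]; simp
  rw [h.cf1 iz zY, h.cf1 iz (show z ∈ M from h.pl_fix q)] at e0
  have sub : (fs fun t => In L t ∧ t ∈ Y ∧ Commute t z ∧ t ≠ z) ⊆
      fs fun t => In L t ∧ t ∈ M ∧ Commute t z ∧ t ≠ z :=
    fs_sub fun t ht => ⟨ht.1, ((in_YY ht.1.1).1 ht.2.1).2, ht.2.2⟩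
  have i1 : ∑ t ∈ fs fun t => In L t ∧ t ∈ Y ∧ Commute t z ∧ t ≠ z, cO L Y t ≤
      ∑ t ∈ fs fun t => In L t ∧ t ∈ Y ∧ Commute t z ∧ t ≠ z, cO L M t := by
    refine Finset.sum_le_sum fun t ht => ?_
    obtain ⟨it, tY, c, ne⟩ := mem_fs.1 ht
    by_cases pt : Pl L φ t α
    · have := h.sw_c pt v hv ev
      unfold cO
      rw [fs_congr (Q := fun s => Ou L s ∧ s ∈ Y ∧ Commute s t) fun s => and_congr_right fun hs =>
          and_congr_right fun _ => ⟨fun e => e.1.symm, fun e => ⟨e.symm, (hs.ne it.1).symm⟩⟩,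
        fs_congr (Q := fun s => Ou L s ∧ s ∈ M ∧ Commute s t) fun s => and_congr_right fun hs =>
          and_congr_right fun _ => ⟨fun e => e.1.symm, fun e => ⟨e.symm, (hs.ne it.1).symm⟩⟩]
      exact this.le
    have hB : PB L φ α := eu ▸ (h.dich hu).resolve_left fun hA =>
      pt (eu ▸ hA t it (eu ▸ ((in_YY it.1).1 tY).1))
    refine (Finset.card_eq_zero.2 (Finset.eq_empty_of_forall_notMem fun s hs => ?_)).le.trans
      (Nat.zero_le _)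
    obtain ⟨os, sY, cs, -⟩ := mem_fs.1 hs
    obtain ⟨Q, hQ, h1⟩ := exists_isSylowIn_ge (H := Y ⊓ centralizer {t}) (pg_zp os.1)
      (zpowers_le.2 (mem_inf.2 ⟨sY, mem_c1.2 cs.symm⟩))
    have sQ := h1 (mem_zpowers s)
    obtain ⟨k, hk, kQ⟩ := conj_into hQ (pg_zp iz.2.1) (mem_inf.2 ⟨zY, mem_c1.2 c.symm⟩)
    have j1 := h.j_conj p q hk.1
    have j2 := h.j_conj j1.1 j1.2 sY
    have e1 := hB (Q ⊓ L) hQ.pgroup.to_inf_left (fun g hg => ((in_YY hg.2).1 (hQ.le hg.1).1).1)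
      _ (mem_inf.2 ⟨mul_mem (mul_mem sQ kQ) (inv_mem sQ), j2.1.1.1⟩) _ (mem_inf.2 ⟨kQ, j1.1.1.1⟩)
      j2.1 j1.1
    have e2 := h.p2 os j1.1.1 it (comm_of_conj e1) cs.symm (mem_c1.1 (hQ.le kQ).2)
    rw [← conj_of_comm (mem_c1.1 hk.2)] at e2
    exact ne (conj_inj e2).symm
  have i2 := Finset.sum_le_sum_of_subset (f := cO L M) sub
  have e3 : ∑ t ∈ fs fun t => Ou L t ∧ t ∈ M ∧ Commute t z, cO L M t =
      ∑ t ∈ fs fun t => Ou L t ∧ t ∈ Y ∧ Commute t z, cO L ⊤ a := by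
    rw [Finset.sum_const, h.sw_c p v hv ev, ← Finset.sum_const]
    refine Finset.sum_congr rfl fun t ht => ?_
    obtain ⟨ot, tM, -⟩ := mem_fs.1 ht
    rw [← h.cO_eq ot h.oa]
    refine congrArg Finset.card (fs_congr fun s => and_congr_right fun _ => and_congr_left fun e =>
      ⟨fun _ => mem_top _, fun _ => ?_⟩)
    rw [MulAction.mem_stabilizer_iff, ← ev] at tM
    rw [hM, MulAction.mem_stabilizer_iff, ← ev, ← h.pu v t hv ot tM]
    exact h.fixc ot e.1.symm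
  have i3 : ∀ t ∈ fs fun t => Ou L t ∧ t ∈ Y ∧ Commute t z, cO L Y t ≤ cO L ⊤ a := fun t ht =>
    h.cO_eq (mem_fs.1 ht).1 h.oa ▸ cO_le L Y t
  have i4 := Finset.sum_le_sum i3
  refine ⟨fun t pt c => ?_, fun s os sY c w ow cw => ?_⟩
  · by_contra hn
    have ne : t ≠ z := fun e => hn (e ▸ h.pl_fix p)
    have := Finset.sum_lt_sum_of_subset (f := cO L M) sub (i := t)
      (mem_fs.2 ⟨pt.1, h.pl_fix pt, c, ne⟩)
      (fun e => hn ((in_YY pt.1.1).1 (mem_fs.1 e).2.1).1) (by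
        obtain ⟨it, w, ow, cw, ew⟩ := pt
        exact Finset.card_pos.2 ⟨w, mem_fs.2 ⟨ow, show w • β = β from ew ▸ h.fixc ow (Commute.refl w), cw,
          (ow.ne it.1).symm⟩⟩) fun _ _ _ => Nat.zero_le _
    omega
  · refine cO_full ?_ sY ow cw
    by_contra hn
    have := Finset.sum_lt_sum i3 ⟨s, mem_fs.2 ⟨os, sY, c⟩, h.cO_eq os h.oa ▸ not_le.1 hn⟩
    omega

theorem single (hB : ∀ u, Ou L u → PB L φ (φ u)) {α β : Ω} {z : G} (p : Pl L φ z α)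
    (q : Pl L φ z β) : α = β := by
  obtain ⟨iz, u, hu, cu, eu⟩ := id p
  obtain ⟨-, v, hv, cv, ev⟩ := id q
  obtain ⟨s, hs⟩ : (fs fun t => Ou L t ∧ t ∈ YY h.toC2 α β ∧ Commute t z).Nonempty := by
    rw [← Finset.card_pos, h.sw_c p v hv ev]
    exact Finset.card_pos.2 ⟨v, mem_fs.2 ⟨hv, ev ▸ h.fixc hv (Commute.refl v), cv.symm⟩⟩
  obtain ⟨os, sY, cs⟩ := mem_fs.1 hs
  have step : ∀ z s y, Pl L φ z α → Pl L φ z β → Ou L s → s ∈ YY h.toC2 α β → Commute s z →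
      In L y → Commute s y → Pl L φ y α ∧ Pl L φ y β := fun z s y p q os sY cs iy cy => by
    have h1 := (h.count p q).2 s os sY cs _ (os.mul iy cy) ((Commute.refl s).mul_right cy)
    have yY : y ∈ YY h.toC2 α β := by simpa using mul_mem (inv_mem sY) h1
    obtain ⟨k, hk, rfl⟩ := h.conjI os iy p.1 cy cs
    exact h.j_conj p q (zpowers_le.2 (mul_mem yY ((in_YY p.1.1).2 ⟨h.pl_fix p, h.pl_fix q⟩)) hk)
  have e := h.p3 s u os hu fun y py => by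
    obtain ⟨t, ht, it, c1, c2, n1, n2⟩ := h.wit_ex os py.1
    by_cases tL : t ∈ L
    · exact (n2 (hB s os _ (pg_four (pg_zp it.1) (pg_zp py.1.2.1) c2)
        (sup_le (zpowers_le.2 (show t ∈ MulAction.stabilizer G (φ s) from h.fixc os c1))
          (zpowers_le.2 (show y ∈ MulAction.stabilizer G (φ s) from h.pl_fix py)))
        t (mem_sup_left (mem_zpowers t)) y (mem_sup_right (mem_zpowers y))
        ⟨⟨tL, it⟩, s, os, c1, rfl⟩ py)).elim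
    have ot : Ou L t := ⟨it.1, tL⟩
    have tY := (h.count p q).2 s os sY cs t ot c1.symm
    have j := step z s _ p q os sY cs (h.in_mul os ot c1.symm n1.symm)
      ((Commute.refl s).mul_right c1.symm)
    exact eu ▸ (step _ t y j.1 j.2 ot tY (c1.mul_right (Commute.refl t)) py.1 c2).1
  rw [← (ou_YY os).1 sY, ← eu, ← e, h.fixc os (Commute.refl s)]

theorem fixI {u y : G} (hu : Ou L u) (hy : In L y) : y • φ u = φ u := by
  obtain ⟨t, -, it, c1, c2, -, -⟩ := h.wit_ex hu hy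
  by_cases tL : t ∈ L
  swap
  · rw [← h.pu u t hu ⟨it.1, tL⟩ (h.fixc hu c1)]
    exact h.fixc ⟨it.1, tL⟩ c2.symm
  have p : Pl L φ t (φ u) := ⟨⟨tL, it⟩, u, hu, c1, rfl⟩
  obtain ⟨Q, hQ, h1⟩ := exists_isSylowIn_ge (H := centralizer {t}) (pg_zp hy.2.1)
    (zpowers_le.2 (mem_c1.2 c2.symm))
  obtain ⟨k, hk, kQ⟩ := conj_into hQ (pg_zp hu.1) (mem_c1.2 c1.symm)
  have ov := h.ou_conj hu k
  have q : Pl L φ t (φ (k * u * k⁻¹)) := ⟨⟨tL, it⟩, _, ov, (mem_c1.1 (hQ.le kQ)).symm, rfl⟩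
  have yf : y • φ (k * u * k⁻¹) = φ (k * u * k⁻¹) := h.p4 hQ.pgroup ov kQ (h1 (mem_zpowers y))
  by_cases hA : ∃ w, Ou L w ∧ PA L φ (φ w)
  · obtain ⟨w, ow, hA⟩ := hA
    exact (h.count p q).1 y (h.pa_move ow ov hA y hy yf) c2.symm
  · rw [h.single (fun w ow => (h.dich ow).resolve_left fun e => hA ⟨w, ow, e⟩) p q]
    exact yf

end Phi

end Phi

end CfsgH1.DH
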