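import Cfsg.Agent.H1.DH3

/-! S1916, part 4: the commuting graph of the outer involutions. -/

set_option autoImplicit false
set_option linter.unusedSectionVars false

namespace CfsgH1.DH

open Subgroup

variable {G : Type*} [Group G]

def Om (G : Type*) := Set G

instance : MulAction G (Om G) where
  smul g s := {x | g⁻¹ * x * g ∈ (show Set G from s)}
  one_smul s := Set.ext fun x => by
    change 1⁻¹ * x * 1 ∈ (show Set G from s) ↔ _
    rw [inv_one, one_mul, mul_one]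
  mul_smul g h s := Set.ext fun x => by
    change (g * h)⁻¹ * x * (g * h) ∈ (show Set G from s) ↔ h⁻¹ * (g⁻¹ * x * g) * h ∈ (show Set G from s)
    rw [show (g * h)⁻¹ * x * (g * h) = h⁻¹ * (g⁻¹ * x * g) * h by group]

def Conn (L : Subgroup G) : G → G → Prop := Relation.ReflTransGen fun x y => Ou L y ∧ Commute x y

def EP (L : Subgroup G) (u z : G) : Prop := In L z ∧ ∃ w, Conn L u w ∧ Commute z w

def EE (L : Subgroup G) (u : G) : Om G := {z | EP L u z}

theorem EE_ext {L : Subgroup G} {u v : G} : EE L u = EE L v ↔ ∀ z, EP L u z ↔ EP L v z :=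
  Set.ext_iff

theorem Conn.ou {L : Subgroup G} {u w : G} (hu : Ou L u) (h : Conn L u w) : Ou L w := by
  induction h with
  | refl => exact hu
  | tail _ h _ => exact h.1

theorem Conn.symm {L : Subgroup G} {u w : G} (hu : Ou L u) (h : Conn L u w) : Conn L w u := by
  induction h with
  | refl => exact .refl
  | tail h1 h ih => exact .head ⟨Conn.ou hu h1, h.2.symm⟩ ih

theorem Conn.ee {L : Subgroup G} {u w : G} (hu : Ou L u) (h : Conn L u w) : EE L w = EE L u :=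
  EE_ext.2 fun _ => and_congr_right fun _ =>
    ⟨fun ⟨x, h1, h2⟩ => ⟨x, h.trans h1, h2⟩, fun ⟨x, h1, h2⟩ => ⟨x, (h.symm hu).trans h1, h2⟩⟩

noncomputable def cI [Finite G] (L Y : Subgroup G) (t : G) : ℕ :=
  (fs fun y => In L y ∧ y ∈ Y ∧ Commute t y).card

namespace C2

variable [Finite G] {L : Subgroup G} {a : G} (h : C2 L a)
include h

theorem ep_conj {u z : G} (hz : EP L u z) (g : G) : EP L (g * u * g⁻¹) (g * z * g⁻¹) := by
  obtain ⟨iz, w, hw, c⟩ := hz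
  refine ⟨h.in_conj iz g, _, ?_, comm_conj c g⟩
  clear c
  induction hw with
  | refl => exact .refl
  | tail _ h2 ih => exact ih.tail ⟨h.ou_conj h2.1 g, comm_conj h2.2 g⟩

theorem ee_conj (u g : G) : EE L (g * u * g⁻¹) = g • EE L u := Set.ext fun x => by
  change EP L _ x ↔ EP L u (g⁻¹ * x * g)
  constructor <;> intro e
  · simpa [mul_assoc] using h.ep_conj e g⁻¹
  · simpa [mul_assoc] using h.ep_conj e g

theorem ee_sub {u v : G} (hu : Ou L u) (hv : Ou L v) (e : ∀ z, EP L u z → EP L v z) :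
    EE L u = EE L v := by
  obtain ⟨g, hg⟩ := h.conj_ou hv hu
  have := Finset.eq_of_subset_of_card_le (fs_sub e)
    (card_conj_le g fun x hx => hg ▸ h.ep_conj hx g)
  exact EE_ext.2 fun z => by rw [← mem_fs (P := EP L u), this, mem_fs]

theorem ee_fix {u g : G} (c : Commute g u) : g • EE L u = EE L u := by
  rw [← h.ee_conj, conj_of_comm c]

theorem cI_eq {u v : G} (hu : Ou L u) (hv : Ou L v) : cI L ⊤ u = cI L ⊤ v := by
  have k : ∀ u v, Ou L u → Ou L v → cI L ⊤ u ≤ cI L ⊤ v := fun u v hu hv => by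
    obtain ⟨g, rfl⟩ := h.conj_ou hu hv
    exact card_conj_le g fun x hx => ⟨h.in_conj hx.1 g, mem_top _, comm_conj hx.2.2 g⟩
  exact (k u v hu hv).antisymm (k v u hv hu)

theorem cf2 {Y : Subgroup G} (hno : ∀ y ∈ Y, ∀ y' ∈ Y, In L y → In L y' → Commute y y' → y = y')
    {v : G} (hv : Ou L v) (vY : v ∈ Y) : (fs fun y => In L y ∧ y ∈ Y).card =
      ∑ t ∈ fs fun t => Ou L t ∧ t ∈ Y ∧ Commute v t ∧ v ≠ t, cI L Y t := by
  refine fib _ _ _ (fun y => ?_) fun t ht t' ht' y hy hy' => ?_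
  · simp only [mem_fs]
    refine ⟨fun ⟨hy, yY⟩ => ?_, fun ⟨_, _, h1, h2, _⟩ => ⟨h1, h2⟩⟩
    obtain ⟨t, ht, it, c1, c2, n1, n2⟩ := h.wit_ex hv hy
    have tY : t ∈ Y := zpowers_le.2 (mul_mem vY yY) ht
    exact ⟨t, ⟨⟨it.1, fun tL => n2 (hno t tY y yY ⟨tL, it⟩ hy c2)⟩, tY, c1.symm, n1.symm⟩, hy, yY, c2⟩
  · simp only [mem_fs] at ht ht' hy hy'
    exact h.wit_uniq hv hy.1 ⟨ht.1.iv, ht.2.2.1.symm, hy.2.2, ht.2.2.2.symm, ht.1.ne hy.1.1⟩
      ⟨ht'.1.iv, ht'.2.2.1.symm, hy'.2.2, ht'.2.2.2.symm, ht'.1.ne hy.1.1⟩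

theorem ee_uniq {u v : G} (hu : Ou L u) (hv : Ou L v) (e : v • EE L u = EE L u) :
    EE L v = EE L u := by
  set N := MulAction.stabilizer G (EE L u) with hN
  have cN : ∀ g w, Conn L u w → Commute g w → g ∈ N := fun g w hw c => by
    rw [hN, MulAction.mem_stabilizer_iff, ← hw.ee hu]; exact h.ee_fix c
  have uN := cN u u .refl (Commute.refl u)
  have vN : v ∈ N := e
  by_cases hno : ∀ y ∈ N, ∀ y' ∈ N, In L y → In L y' → Commute y y' → y = y'
  · have e1 : (fs fun y => In L y ∧ y ∈ N).card = cO L ⊤ a * cI L ⊤ a := by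
      rw [h.cf2 hno hu uN, ← h.cO_eq hu h.oa, cO, ← smul_eq_mul, ← Finset.sum_const]
      refine Finset.sum_congr (fs_congr fun t => and_congr_right fun ot => and_congr_left fun c =>
        ⟨fun _ => mem_top _, fun _ => cN t u .refl c.1.symm⟩) fun t ht => ?_
      obtain ⟨ot, -, c, -⟩ := mem_fs.1 ht
      rw [← h.cI_eq ot h.oa]
      exact congrArg Finset.card (fs_congr fun y => and_congr_right fun _ => and_congr_left fun c' =>
        ⟨fun _ => mem_top _, fun _ => cN y t (.single ⟨ot, c⟩) c'.symm⟩)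
    have pos : 0 < cI L ⊤ a := by
      obtain ⟨z, iz, c⟩ := h.exI h.oa
      exact Finset.card_pos.2 ⟨z, mem_fs.2 ⟨iz, mem_top _, c⟩⟩
    have cl : ∀ w, Ou L w → w ∈ N → ∀ w', Ou L w' → Commute w w' → w' ∈ N := fun w ow wN w' ow' c => by
      refine cO_full ?_ wN ow' c
      rw [h.cO_eq ow h.oa]
      refine Nat.le_of_mul_le_mul_right ?_ pos
      rw [← e1, h.cf2 hno ow wN, cO, ← smul_eq_mul]
      refine Finset.sum_le_card_nsmul _ _ _ fun t ht => ?_
      rw [← h.cI_eq (mem_fs.1 ht).1 h.oa]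
      exact Finset.card_le_card (fs_sub fun _ hx => ⟨hx.1, mem_top _, hx.2.2⟩)
    refine h.ee_sub hv hu fun z ⟨iz, w, hw, c⟩ => ?_
    have wN : w ∈ N := by
      clear c
      induction hw with
      | refl => exact vN
      | tail h1 h2 ih => exact cl _ (Conn.ou hv h1) ih _ h2.1 h2.2
    have ow := Conn.ou hv hw
    have zN : z ∈ N := by
      simpa using mul_mem (inv_mem wN)
        (cl w ow wN _ (ow.mul iz c.symm) ((Commute.refl w).mul_right c.symm))
    obtain ⟨t, ht, it, c1, c2, -, n2⟩ := h.wit_ex hu iz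
    have tN : t ∈ N := zpowers_le.2 (mul_mem uN zN) ht
    exact ⟨iz, t, .single ⟨⟨it.1, fun tL => n2 (hno t tN z zN ⟨tL, it⟩ iz c2)⟩, c1.symm⟩, c2.symm⟩
  · push Not at hno
    obtain ⟨y, yN, y', yN', iy, iy', c, ne⟩ := hno
    obtain ⟨R, hR, h1⟩ := exists_isSylowIn_ge (pg_zp hu.1) (zpowers_le.2 uN)
    obtain ⟨T, hT, RT⟩ := exists_isSylowIn_ge hR.pgroup le_top
    have uT := RT (h1 (mem_zpowers u))
    obtain ⟨X, z, s⟩ := h.str hT hu.1 (h.move hu).nof uT
    obtain ⟨k, hk, kR⟩ := hR.exists_cj_le (pg_four (pg_zp iy.2.1) (pg_zp iy'.2.1) c)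
      (sup_le (zpowers_le.2 yN) (zpowers_le.2 yN'))
    have m1 := kR (conj_mem_cj k (mem_sup_left (mem_zpowers y)))
    have m2 := kR (conj_mem_cj k (mem_sup_right (mem_zpowers y')))
    have SN : T ⊓ L ≤ N := by
      by_cases e1 : k * y * k⁻¹ = z
      · exact s.le uN (mem_inf.2 ⟨RT m2, h.cmem iy'.1 k⟩)
          (s.out (iy'.2.conj k) fun e2 => ne (conj_inj (e1.trans e2.symm))) (hR.le m2)
      · exact s.le uN (mem_inf.2 ⟨RT m1, h.cmem iy.1 k⟩) (s.out (iy.2.conj k) e1) (hR.le m1)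
    obtain ⟨j, hj, jR⟩ := conj_into hR (pg_zp hv.1) vN
    obtain ⟨g, hg, e2⟩ := (h.move hu).conj_syl hT uT (h.ou_conj hv j) (RT jR)
    have e3 : v = j⁻¹ * g * u * (j⁻¹ * g)⁻¹ := conj_inj (g := j) (by rw [← e2]; group)
    rw [e3, h.ee_conj]
    exact mul_mem (inv_mem hj) (SN hg)

theorem phi : Phi L a (EE L) where
  toC2 := h
  p1 u g _ := h.ee_conj u g
  pu _ _ hu hv e := h.ee_uniq hu hv e
  p3 u v hu hv e := h.ee_sub hu hv fun z ⟨iz, w, hw, c⟩ => by
    obtain ⟨-, x, -, c', e'⟩ := e z ⟨iz, w, Conn.ou hu hw, c, hw.ee hu⟩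
    exact (EE_ext.1 e' z).1 ⟨iz, x, .refl, c'⟩

theorem core {z : G} (iz : In L z) (c : Commute a z) :
    L ≤ (L ⊓ centralizer {a}) ⊔ (L ⊓ centralizer {a * z}) := by
  set H := (L ⊓ centralizer {a}) ⊔ (L ⊓ centralizer {a * z})
  have oa := h.oa
  have ob := oa.mul iz c
  have H1 : ∀ x ∈ L, Commute x a → x ∈ H := fun x hx c => mem_sup_left (mem_inf.2 ⟨hx, mem_c1.2 c⟩)
  have H2 : ∀ x ∈ L, Commute x (a * z) → x ∈ H := fun x hx c =>
    mem_sup_right (mem_inf.2 ⟨hx, mem_c1.2 c⟩)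
  have step : ∀ u, Ou L u → Commute u z → (∀ x ∈ L, Commute x u → x ∈ H) → ∀ w, Ou L w →
      Commute u w → ∃ k ∈ H, w = k * u * k⁻¹ ∨ w = k * (u * z) * k⁻¹ := fun u hu c Hu w ow cw => by
    by_cases e : u = w
    · exact ⟨1, one_mem _, Or.inl (by rw [e]; group)⟩
    have i1 := h.in_mul hu ow cw e
    have c1 := (Commute.refl u).mul_right cw
    obtain ⟨k, hk, e1⟩ := h.conjI hu i1 iz c1 c
    have ck := (comm_zp (c1.mul_right c) hk).symm
    refine ⟨k, Hu k (zpowers_le.2 (mul_mem i1.1 iz.1) hk) ck, Or.inr ?_⟩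
    calc w = u * (u * w) := by rw [← mul_assoc, hu.1, one_mul]
      _ = k * u * k⁻¹ * (k * z * k⁻¹) := by rw [e1, conj_of_comm ck]
      _ = _ := by group
  have key : ∀ w, Conn L a w → ∃ k ∈ H, w = k * a * k⁻¹ ∨ w = k * (a * z) * k⁻¹ := fun w hw => by
    induction hw with
    | refl => exact ⟨1, one_mem _, Or.inl (by group)⟩
    | @tail x w _ h2 ih =>
      obtain ⟨k, hk, e⟩ := ih
      have ow := h.ou_conj h2.1 k⁻¹
      have cw := comm_conj h2.2 k⁻¹
      have fin : ∀ j u, k⁻¹ * w * k⁻¹⁻¹ = j * u * j⁻¹ → w = k * j * u * (k * j)⁻¹ := fun j u e => by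
        apply conj_inj (g := k⁻¹); rw [e]; group
      rcases e with rfl | rfl
      · rw [show k⁻¹ * (k * a * k⁻¹) * k⁻¹⁻¹ = a by group] at cw
        obtain ⟨j, hj, e⟩ := step a oa c H1 _ ow cw
        exact ⟨k * j, mul_mem hk hj, e.imp (fin j _) (fin j _)⟩
      · rw [show k⁻¹ * (k * (a * z) * k⁻¹) * k⁻¹⁻¹ = a * z by group] at cw
        obtain ⟨j, hj, e⟩ := step _ ob (c.mul_left (Commute.refl z)) H2 _ ow cw
        rw [mul_assoc a, iz.2.1, mul_one] at e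
        exact ⟨k * j, mul_mem hk hj, e.symm.imp (fin j _) (fin j _)⟩
  have EH : ∀ y, EP L a y → y ∈ H := fun y ⟨iy, w, hw, cw⟩ => by
    obtain ⟨k, hk, e⟩ := key w hw
    have cw' := comm_conj cw k⁻¹
    have : k⁻¹ * y * k⁻¹⁻¹ ∈ H := by
      rcases e with rfl | rfl
      · exact H1 _ (h.cmem iy.1 _) (by rwa [show k⁻¹ * (k * a * k⁻¹) * k⁻¹⁻¹ = a by group] at cw')
      · exact H2 _ (h.cmem iy.1 _)
          (by rwa [show k⁻¹ * (k * (a * z) * k⁻¹) * k⁻¹⁻¹ = a * z by group] at cw')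
    simpa [mul_assoc] using mul_mem (mul_mem hk this) (inv_mem hk)
  have LN : L ≤ MulAction.stabilizer G (EE L a) := h.gen _ fun y hy iy => h.phi.fixI oa ⟨hy, iy⟩
  refine h.gen _ fun y hy iy => EH y ?_
  obtain ⟨g, hg, rfl⟩ := h.conj z iz.1 y hy iz.2 iy
  have e := (h.ee_conj a g).trans (LN hg)
  exact (EE_ext.1 e _).1 (h.ep_conj ⟨iz, a, .refl, c.symm⟩ g)

end C2

theorem Ctx.main [Finite G] {L : Subgroup G} (h : Ctx L) {a b : G} (ha : a * a = 1) (hb : b * b = 1)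
    (c : Commute a b) (ne : a ≠ b) (Fa : NoF L a) (Fb : NoF L b)
    (h4 : ∀ g, g ∈ L ∨ a * g ∈ L ∨ b * g ∈ L ∨ a * b * g ∈ L) :
    L ≤ (L ⊓ centralizer {a}) ⊔ (L ⊓ centralizer {b}) := by
  have m := h.mul_mem_L ha hb c ne Fa Fb h4
  have h2 : C2 L a := ⟨h, ha, Fa, fun g => by
    rcases h4 g with e | e | e | e
    · exact Or.inl e
    · exact Or.inr e
    · refine Or.inr ?_
      have := mul_mem m e
      rwa [mul_assoc, ← mul_assoc b, hb, one_mul] at this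
    · exact Or.inl ((mul_mem_cancel_left m).1 e)⟩
  have := h2.core ⟨m, Iv.mul ha hb c ne⟩ ((Commute.refl a).mul_right c)
  rwa [← mul_assoc, ha, one_mul] at this

end CfsgH1.DH
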