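import Cfsg.Agent.H1.DH4
import Cfsg.Agent.H4.BSLocal

/-! S1916, part 5: transfer to the automorphism group. -/

set_option autoImplicit false

namespace CfsgH1.DH

open Subgroup

variable {G : Type*} [Group G]

theorem tot_zp [Finite G] {g x y : G} {k : ℕ} (hg : g ^ 2 ^ k = 1) (hx : x ∈ zpowers g)
    (hy : y ∈ zpowers g) : x ∈ zpowers y ∨ y ∈ zpowers x := by
  have key : ∀ x ∈ zpowers g, x = 1 ∨ ∃ a, zpowers x = zpowers (g ^ 2 ^ a) := fun x hx => by
    obtain ⟨i, rfl⟩ := (mem_powers_iff_mem_zpowers.2 hx : x ∈ Submonoid.powers g)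
    rcases Nat.eq_zero_or_pos i with rfl | hi
    · exact Or.inl (pow_zero g)
    obtain ⟨a, o, ho, rfl⟩ := Nat.exists_eq_two_pow_mul_odd hi.ne'
    refine Or.inr ⟨a, ?_⟩
    simp only
    rw [pow_mul]
    refine le_antisymm (zpowers_le.2 (pow_mem (mem_zpowers _) o)) (zpowers_le.2
      (mem_zpowers_pow_iff.2 (Nat.Coprime.coprime_dvd_right (m := 2 ^ k)
        (orderOf_dvd_of_pow_eq_one ?_) (Nat.Coprime.pow_right k ((Nat.coprime_two_right (n := o)).2 ho)))))
    rw [← pow_mul, mul_comm, pow_mul, hg, one_pow]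
  rcases key x hx with rfl | ⟨a, ha⟩
  · exact Or.inl (one_mem _)
  rcases key y hy with rfl | ⟨b, hb⟩
  · exact Or.inr (one_mem _)
  have k2 : ∀ a b, a ≤ b → zpowers (g ^ 2 ^ b) ≤ zpowers (g ^ 2 ^ a) := fun a b h => by
    obtain ⟨c, rfl⟩ := Nat.exists_eq_add_of_le h
    rw [pow_add, pow_mul]
    exact zpowers_le.2 (pow_mem (mem_zpowers _) _)
  rcases le_total a b with h | h
  · exact Or.inr (zpowers_le.1 (ha ▸ hb ▸ k2 a b h))
  · exact Or.inl (zpowers_le.1 (ha ▸ hb ▸ k2 b a h))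

theorem cyc_uniq [Finite G] [IsCyclic G] (h : IsPGroup 2 G) {x y : G} (ix : Iv x) (iy : Iv y) :
    x = y := by
  obtain ⟨g, hg⟩ := IsCyclic.exists_generator (α := G)
  obtain ⟨k, hk⟩ := h g
  rcases tot_zp hk (hg x) (hg y) with e | e
  exacts [(mem_zp_sq iy.1 e).resolve_left ix.2, ((mem_zp_sq ix.1 e).resolve_left iy.2).symm]

theorem iv_map {H : Type*} [Group H] {f : G →* H} (hf : Function.Injective f) {x : G} :
    Iv (f x) ↔ Iv x := by
  unfold Iv
  rw [← map_mul, map_eq_one_iff f hf, Ne, map_eq_one_iff f hf]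

theorem Dih.map {H : Type*} [Group H] {f : G →* H} (hf : Function.Injective f) {S X : Subgroup G}
    (h : Dih S X) : Dih (S.map f) (X.map f) := by
  have m : ∀ {x}, f x ∈ X.map f ↔ x ∈ X := mem_map_iff_mem hf
  refine ⟨map_mono h.le, ?_, ?_, ?_, ?_, ?_, h.two.map f⟩
  · rintro _ ⟨x, hx, rfl⟩ _ ⟨y, hy, rfl⟩
    rw [← MonoidHom.map_zpowers, ← MonoidHom.map_zpowers]
    exact (h.tot x hx y hy).imp (mem_map_of_mem f) (mem_map_of_mem f)
  · rintro _ ⟨x, hx, rfl⟩ _ ⟨y, hy, rfl⟩ h1 h2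
    rw [← map_mul]
    exact m.2 (h.mul x hx y hy (mt m.2 h1) (mt m.2 h2))
  · obtain ⟨t, ht, h1⟩ := h.ex
    exact ⟨_, mem_map_of_mem f ht, mt m.1 h1⟩
  · rintro _ ⟨x, hx, rfl⟩ h1
    rw [← map_mul, h.sq x hx (mt m.2 h1), map_one]
  · obtain ⟨x, hx, ix⟩ := h.iv
    exact ⟨_, m.2 hx, (iv_map hf).2 ix⟩

section Simple

variable [Finite G] [IsSimpleGroup G] (hn : ¬ IsMulCommutative G)
  (hD : ∀ P : Sylow 2 G, ∃ n : ℕ, Nonempty (↥(P : Subgroup G) ≃* DihedralGroup n))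
include hn hD

theorem simple_dih {S : Subgroup G} (hS : IsSylowIn 2 S ⊤) :
    ∃ X, Dih S X ∧ ∀ u, Iv u → ∃ g, g * u * g⁻¹ ∈ X := by
  obtain ⟨n, ⟨e⟩⟩ := hD hS.sylow
  let f : DihedralGroup n →* G := S.subtype.comp e.symm.toMonoidHom
  have hf : Function.Injective f := S.subtype_injective.comp e.symm.injective
  have fS : ∀ d, f d ∈ S := fun d => (e.symm d).2
  have sf : ∀ s ∈ S, ∃ d, f d = s := fun s hs =>
    ⟨e ⟨s, hs⟩, congrArg Subtype.val (e.symm_apply_apply ⟨s, hs⟩)⟩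
  have mr : ∀ i, f (.r i) ∈ zpowers (f (.r 1)) := fun i => ⟨(i.cast : ℤ), by
    simp only
    rw [← map_zpow, DihedralGroup.r_one_zpow, ZMod.intCast_zmod_cast]⟩
  have ms : ∀ i, f (.sr i) ∉ zpowers (f (.r 1)) := fun i ⟨k, hk⟩ => by
    simp only at hk
    rw [← map_zpow, DihedralGroup.r_one_zpow] at hk
    cases hf hk
  have out : ∀ s ∈ S, s ∉ zpowers (f (.r 1)) → ∃ i, s = f (.sr i) := fun s hs h => by
    obtain ⟨i | i, rfl⟩ := sf s hs
    exacts [(h (mr i)).elim, ⟨i, rfl⟩]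
  have mul : ∀ s ∈ S, ∀ t ∈ S, s ∉ zpowers (f (.r 1)) → t ∉ zpowers (f (.r 1)) →
      s * t ∈ zpowers (f (.r 1)) := fun s hs t ht h1 h2 => by
    obtain ⟨i, rfl⟩ := out s hs h1
    obtain ⟨j, rfl⟩ := out t ht h2
    rw [← map_mul, DihedralGroup.sr_mul_sr]; exact mr _
  have tt : ∀ u, Iv u → ∃ g, g * u * g⁻¹ ∈ zpowers (f (.r 1)) := fun u iu => by
    by_contra hno
    push Not at hno
    obtain ⟨M, hM, h2, uM⟩ := CfsgH4.thompson_transfer hS.sylow (Q := zpowers (f (.r 1)))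
      (index_eq_two_iff.2 ⟨⟨_, fS (.sr 0)⟩, fun b => by
        by_cases hb : (b : G) ∈ zpowers (f (.r 1))
        · exact Or.inr ⟨hb, fun e => ms 0 ((mul_mem_cancel_left hb).1 e)⟩
        · exact Or.inl ⟨mul _ b.2 _ (fS _) hb (ms 0), hb⟩⟩) iu.1 hno
    rcases hM.eq_bot_or_eq_top with rfl | rfl
    · rw [index_bot] at h2
      haveI := isCyclic_of_prime_card h2
      exact hn inferInstance
    · exact uM (mem_top u)
  have sq : ∀ t ∈ S, t ∉ zpowers (f (.r 1)) → t * t = 1 := fun t ht h => by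
    obtain ⟨i, rfl⟩ := out t ht h
    rw [← map_mul, DihedralGroup.sr_mul_self, map_one]
  obtain ⟨k, hk⟩ := isPGroup_iff_forall.1 hS.pgroup _ (fS (.r 1))
  refine ⟨_, ⟨zpowers_le.2 (fS _), fun x hx y hy => tot_zp hk hx hy, mul, ⟨_, fS _, ms 0⟩, sq, ?_,
    hS.pgroup⟩, tt⟩
  have i0 : Iv (f (.sr 0)) := ⟨sq _ (fS _) (ms 0), fun e => ms 0 (e ▸ one_mem _)⟩
  obtain ⟨g, hg⟩ := tt _ i0
  exact ⟨_, hg, i0.conj g⟩

theorem ctx_of {H : Type*} [Group H] [Finite H] {j : G →* H} (hj : Function.Injective j)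
    (h1 : j.range.Normal) (h2 : ∀ g, (∀ x ∈ j.range, Commute g x) → g = 1)
    (h3 : ∀ g, g * g ∈ j.range) : Ctx j.range := by
  obtain ⟨S, hS⟩ := exists_isSylowIn (p := 2) (⊤ : Subgroup G)
  obtain ⟨X, hX, tt⟩ := simple_dih hn hD hS
  obtain ⟨z, -, iz⟩ := hX.iv
  refine ⟨h1, fun T hT => ?_, ?_, fun K hK => ?_, fun K hK ho => ?_, h2, h3⟩
  · have e : (T.comap j).map j = T := map_comap_eq_self hT.le
    obtain ⟨Y, hY, -⟩ := simple_dih hn hD (S := T.comap j)
      (IsSylowIn.of_map_injective hj (by rwa [e, ← MonoidHom.range_eq_map]))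
    exact ⟨_, e ▸ hY.map hj⟩
  · rintro _ ⟨y, rfl⟩ _ ⟨y', rfl⟩ iy iy'
    rw [iv_map hj] at iy iy'
    obtain ⟨g, hg⟩ := tt y iy
    obtain ⟨g', hg'⟩ := tt y' iy'
    have := hX.uniq hg hg' (iy.conj g) (iy'.conj g')
    refine ⟨_, ⟨g'⁻¹ * g, rfl⟩, ?_⟩
    rw [← map_inv, ← map_mul, ← map_mul]
    exact congrArg j (conj_inj (g := g') (by rw [← this]; group))
  · rintro _ ⟨x, rfl⟩
    have e : normalClosure {z} ≤ K.comap j := (closure_le _).2 fun y hy => by
      obtain ⟨_, rfl, c⟩ := Group.mem_conjugatesOfSet_iff.1 hy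
      obtain ⟨g, rfl⟩ := isConj_iff.1 c
      exact hK _ ⟨_, rfl⟩ ((iv_map hj).2 (iz.conj g))
    rcases (normalClosure_normal (s := {z})).eq_bot_or_eq_top with e1 | e1
    · exact (iz.2 (mem_bot.1 (e1 ▸ subset_normalClosure rfl))).elim
    · exact e (e1 ▸ mem_top x)
  · rcases (hK.comap j).eq_bot_or_eq_top with e | e
    · refine eq_bot_iff.2 ?_
      rintro _ ⟨hx, x, rfl⟩
      have : x ∈ K.comap j := hx
      rw [e, mem_bot] at this
      rw [this, map_one]; exact one_mem _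
    · have : j z ∈ K := (e ▸ mem_top z : z ∈ K.comap j)
      have h4 := K.orderOf_dvd_natCard this
      have iz' := (iv_map hj).2 iz
      rw [orderOf_eq_prime (p := 2) (by rw [pow_two, iz'.1]) iz'.2] at h4
      exact (Nat.not_even_iff_odd.2 ho (even_iff_two_dvd.2 h4)).elim

theorem aut_main {α β : MulAut G} (ha : α * α = 1) (hb : β * β = 1) (c : Commute α β) (ne : α ≠ β)
    (Fa : ∀ y y', Iv y → Iv y' → α y = y → α y' = y' → Commute y y' → y = y')
    (Fb : ∀ y y', Iv y → Iv y' → β y = y → β y' = y' → Commute y y' → y = y')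
    (K : Subgroup G) (Ka : ∀ x, α x = x → x ∈ K) (Kb : ∀ x, β x = x → x ∈ K) : K = ⊤ := by
  have cj : ∀ (g : MulAut G) (x : G), g * MulAut.conj x * g⁻¹ = MulAut.conj (g x) := fun g x => by
    ext y; simp
  have inj : Function.Injective (MulAut.conj : G →* MulAut G) := by
    rw [injective_iff_map_eq_one]
    intro x hx
    rcases (inferInstance : (center G).Normal).eq_bot_or_eq_top with e | e
    · rw [← mem_bot, ← e, mem_center_iff]
      intro g
      have : x * g * x⁻¹ = g := DFunLike.congr_fun hx g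
      exact (comm_of_conj this).symm.eq
    · exact (hn ⟨⟨fun a b => mem_center_iff.1 (e ▸ mem_top b : b ∈ center G) a⟩⟩).elim
  haveI hI : (MulAut.conj : G →* MulAut G).range.Normal := ⟨by
    rintro _ ⟨x, rfl⟩ g
    exact ⟨_, (cj g x).symm⟩⟩
  let Γ : Subgroup (MulAut G) := (zpowers α ⊔ zpowers β) ⊔ MulAut.conj.range
  let j : G →* Γ := MulAut.conj.codRestrict Γ fun x => mem_sup_right ⟨x, rfl⟩
  have hj : Function.Injective j := fun x y e => inj (congrArg Subtype.val e)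
  have mj : ∀ g : Γ, g ∈ j.range ↔ (g : MulAut G) ∈ MulAut.conj.range := fun g =>
    ⟨fun ⟨x, e⟩ => ⟨x, congrArg Subtype.val e⟩, fun ⟨x, e⟩ => ⟨x, Subtype.ext e⟩⟩
  have fx : ∀ (g : Γ) (x : G), Commute g (j x) → g.1 x = x := fun g x c =>
    inj ((cj _ _).symm.trans (congrArg Subtype.val (conj_of_comm c)))
  let a : Γ := ⟨α, mem_sup_left (mem_sup_left (mem_zpowers α))⟩
  let b : Γ := ⟨β, mem_sup_left (mem_sup_right (mem_zpowers β))⟩
  have dec : ∀ g : Γ, ∃ v : MulAut G, (v = 1 ∨ v = α ∨ v = β ∨ v = α * β) ∧ v * v = 1 ∧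
      v * g ∈ (MulAut.conj : G →* MulAut G).range := fun g => by
    obtain ⟨v, hv, x, hx, e⟩ := (mem_sup_of_le_normalizer (by rw [normalizer_eq_top]; exact le_top)).1 g.2
    obtain ⟨p, hp, q, hq, rfl⟩ := (mem_sup_of_le_normalizer (zpowers_le.2
      (centralizer_le_normalizer _ fun _ hk => (comm_zp c hk).symm))).1 hv
    have k : (p * q = 1 ∨ p * q = α ∨ p * q = β ∨ p * q = α * β) ∧ p * q * (p * q) = 1 := by
      rcases mem_zp_sq ha hp with rfl | rfl <;> rcases mem_zp_sq hb hq with rfl | rfl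
      exacts [by simp, by simp [hb], by simp [ha], ⟨by simp, sq_mul ha hb c⟩]
    exact ⟨_, k.1, k.2, by rwa [← e, ← mul_assoc, k.2, one_mul]⟩
  have hc : Ctx j.range := ctx_of hn hD hj
    ⟨fun x hx g => (mj _).2 (hI.conj_mem _ ((mj _).1 hx) g)⟩
    (fun g hg => Subtype.ext (MulEquiv.ext fun x => fx g x (hg _ ⟨x, rfl⟩))) fun g => by
      obtain ⟨v, -, vv, hv⟩ := dec g
      have := mul_mem (hI.conj_mem _ hv v⁻¹) hv
      rw [show v⁻¹ * (v * g) * v⁻¹⁻¹ * (v * g) = g * (v * v) * g by group, vv, mul_one] at this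
      exact (mj _).2 this
  have nf : ∀ g : Γ, (∀ y y', Iv y → Iv y' → g.1 y = y → g.1 y' = y' → Commute y y' → y = y') →
      NoF j.range g := fun g F => by
    rintro _ ⟨y, rfl⟩ _ ⟨y', rfl⟩ iy iy' c1 c2 c3
    exact congrArg j (F y y' ((iv_map hj).1 iy) ((iv_map hj).1 iy') (fx g y c1) (fx g y' c2)
      (hj (by rw [map_mul, map_mul]; exact c3)))
  have main := hc.main (a := a) (b := b) (Subtype.ext ha) (Subtype.ext hb) (Subtype.ext c)
    (fun e => ne (congrArg Subtype.val e)) (nf a Fa) (nf b Fb) fun g => by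
      obtain ⟨v, rfl | rfl | rfl | rfl, -, hv⟩ := dec g
      · exact Or.inl ((mj _).2 (by rwa [one_mul] at hv))
      · exact Or.inr (Or.inl ((mj _).2 hv))
      · exact Or.inr (Or.inr (Or.inl ((mj _).2 hv)))
      · exact Or.inr (Or.inr (Or.inr ((mj _).2 hv)))
  have le : ∀ g : Γ, (∀ x, g.1 x = x → x ∈ K) → j.range ⊓ centralizer {g} ≤ K.map j := by
    rintro g hg _ ⟨⟨x, rfl⟩, hx⟩
    exact mem_map_of_mem j (hg x (fx g x (mem_c1.1 hx).symm))
  exact eq_top_iff.2 fun x _ =>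
    (mem_map_iff_mem hj).1 (main.trans (sup_le (le a Ka) (le b Kb)) ⟨x, rfl⟩)

end Simple

theorem s1916 [Finite G] (L : Subgroup G) (hL : IsSimpleGroup L) (hLn : ¬ IsMulCommutative L)
    (hD : ∀ P : Sylow 2 L, ∃ n : ℕ, Nonempty (↥(P : Subgroup L) ≃* DihedralGroup n))
    (a b : G) (ha : orderOf a = 2) (hb : orderOf b = 2) (hc : a * b = b * a)
    (haL : a ∈ normalizer (L : Set G)) (hbL : b ∈ normalizer (L : Set G))
    (hCa : ∀ R : Sylow 2 ↥(L ⊓ centralizer ({a} : Set G)), IsCyclic R)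
    (hCb : ∀ R : Sylow 2 ↥(L ⊓ centralizer ({b} : Set G)), IsCyclic R)
    (hgen : ¬ L ≤ (L ⊓ centralizer ({a} : Set G)) ⊔ (L ⊓ centralizer ({b} : Set G))) :
    a * b ∈ centralizer (L : Set G) := by
  have aa : a * a = 1 := by rw [← pow_two, ← ha, pow_orderOf_eq_one]
  have bb : b * b = 1 := by rw [← pow_two, ← hb, pow_orderOf_eq_one]
  let f := L.normalizerMonoidHom
  have fv : ∀ (g : normalizer (L : Set G)) (x : L), (f g x : G) = g * x * (g : G)⁻¹ := fun _ _ => rfl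
  have fc : ∀ (g : normalizer (L : Set G)) (x : L), f g x = x →
      (x : G) ∈ L ⊓ centralizer ({(g : G)} : Set G) := fun g x e =>
    mem_inf.2 ⟨x.2, mem_c1.2 (comm_of_conj ((fv g x).symm.trans (congrArg Subtype.val e))).symm⟩
  have F : ∀ g : normalizer (L : Set G), (∀ R : Sylow 2 ↥(L ⊓ centralizer ({(g : G)} : Set G)),
      IsCyclic R) → ∀ y y', Iv y → Iv y' → f g y = y → f g y' = y' → Commute y y' → y = y' :=
    fun g hC y y' iy iy' e e' c => by
      have i1 := (iv_map L.subtype_injective).2 iy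
      have i2 := (iv_map L.subtype_injective).2 iy'
      obtain ⟨T, hT, h1, h2⟩ := exists_syl (pg_zp i1.1) (pg_zp i2.1) (c.map L.subtype)
        (fc g y e) (fc g y' e')
      haveI := hC hT.toSylow
      have hi : Function.Injective ((L ⊓ centralizer ({(g : G)} : Set G)).subtype.comp
          (hT.toSylow : Subgroup _).subtype) := (subtype_injective _).comp (subtype_injective _)
      have := cyc_uniq hT.toSylow.isPGroup' (x := ⟨⟨_, fc g y e⟩, h1⟩) (y := ⟨⟨_, fc g y' e'⟩, h2⟩)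
        ((iv_map hi).1 i1) ((iv_map hi).1 i2)
      exact Subtype.ext (congrArg (fun t => (t.1.1 : G)) this)
  by_cases ne : f ⟨a, haL⟩ = f ⟨b, hbL⟩
  · intro x hx
    have e : a * x * a⁻¹ = b * x * b⁻¹ :=
      congrArg Subtype.val (DFunLike.congr_fun ne (⟨x, hx⟩ : L))
    refine (comm_of_conj ?_).symm.eq
    calc _ = a * (b * x * b⁻¹) * a⁻¹ := by group
      _ = x := by rw [← e, conj_conj aa]
  refine (hgen ?_).elim
  rw [← subgroupOf_eq_top]
  refine aut_main hLn hD ?_ ?_ ?_ ne (F _ hCa) (F _ hCb) _ (fun x e => mem_sup_left (fc _ x e))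
    fun x e => mem_sup_right (fc _ x e)
  · rw [← map_mul, ← map_one f]; exact congrArg f (Subtype.ext aa)
  · rw [← map_mul, ← map_one f]; exact congrArg f (Subtype.ext bb)
  · exact Commute.map (Subtype.ext hc) f

end CfsgH1.DH
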