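import Cfsg.Agent.H1.Misc
import Cfsg.Agent.S1949

/-! A small exponent subgroup detecting `p'`-automorphisms. -/

set_option autoImplicit false
set_option maxHeartbeats 400000
set_option linter.unusedSectionVars false

namespace CfsgH1

open Subgroup Cfsg
open scoped commutatorElement

variable {G : Type*} [Group G] [Finite G] {p : ℕ} [hp : Fact p.Prime]

theorem exists_detect {U : Subgroup G} (hU : IsPGroup p U) : ∃ D : Subgroup G, D ≤ U ∧
    normalizer (U : Set G) ≤ normalizer (D : Set G) ∧ (∀ d ∈ D, d ^ p = 1 ∨ (p = 2 ∧ d ^ 4 = 1)) ∧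
    (∀ d ∈ D, ∀ u ∈ U, ⁅d, u⁆ ∈ D ⊓ centralizer (D : Set G)) ∧
    ∀ g ∈ normalizer (U : Set G), (orderOf g).Coprime p → g ∈ centralizer (D : Set G) →
      g ∈ centralizer (U : Set G) := by
  obtain ⟨D, h1, -, h2, h3, h4, -⟩ := Cfsg.Agent.S1949.result hU ⊤ le_top
  refine ⟨D.map U.subtype, map_subtype_le _, fun g hg => mem_normalizer_of_cj_le
    (cj_le_iff.mpr ?_), ?_, ?_, fun g hg hc hD => ?_⟩
  · rintro _ ⟨d, hd, rfl⟩
    exact ⟨_, (h1 (CfsgH2.conjAut le_rfl ⟨g, hg⟩) (mem_top _)).le (mem_map_of_mem _ hd), rfl⟩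
  · rintro _ ⟨d, hd, rfl⟩
    exact (h2 d hd).imp (congrArg Subtype.val) fun h => ⟨h.1, congrArg Subtype.val h.2⟩
  · rintro _ ⟨d, hd, rfl⟩ u hu
    have := h3 (commutator_mem_commutator hd (mem_top (⟨u, hu⟩ : U)))
    refine ⟨⟨_, this.1, rfl⟩, ?_⟩
    rintro _ ⟨e, he, rfl⟩
    exact congrArg Subtype.val (this.2 e he)
  · have := h4 (CfsgH2.conjAut le_rfl ⟨g, hg⟩) (mem_top _)
      (Nat.Coprime.coprime_dvd_left ((orderOf_map_dvd _ _).trans (by rw [← orderOf_coe])) hc)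
      fun d hd => Subtype.ext (conj_eq_of_mem_centralizer hD ⟨d, hd, rfl⟩)
    exact mem_centralizer_of_conj_eq fun a ha =>
      congrArg Subtype.val (MulEquiv.congr_fun this ⟨a, ha⟩)

end CfsgH1
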