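import Mathlib
import Cfsg.Agent.H7.Tv
import Cfsg.Agent.H7.Sim2

set_option autoImplicit false
set_option linter.unusedSectionVars false

namespace CfsgH1

open Matrix Module
open scoped LinearAlgebra.Projectivization

section SL
variable {F : Type*} [Field F] {ι : Type*} [Fintype ι] [DecidableEq ι]

/-- Iwasawa structure of `SL` on projective space. -/
noncomputable def slIwasawa [Nontrivial ι] :
    MulAction.IwasawaStructure (Matrix.SpecialLinearGroup ι F) (ℙ F (ι → F)) where
  T p := Matrix.SpecialLinearGroup.lineStab p.submodule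
  is_comm p := by
    rw [← Projectivization.mk_rep p, Projectivization.submodule_mk]
    exact Matrix.SpecialLinearGroup.lineStab_isMulCommutative_of_span p.rep p.rep_nonzero
  is_conj g p := by
    rw [PSL.smul_submodule, Matrix.SpecialLinearGroup.lineStab_smul]
  is_generator := by
    rw [eq_top_iff]
    intro M _
    refine CfsgH7.SL_induction (fun M => M ∈ ⨆ p : ℙ F (ι → F),
      Matrix.SpecialLinearGroup.lineStab p.submodule) ?_ (fun _ _ => mul_mem) M
    intro i j hij a
    refine Subgroup.mem_iSup_of_mem
      (Projectivization.mk F (Pi.single i (1 : F)) (Pi.single_ne_zero_iff.2 one_ne_zero)) ?_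
    rw [Projectivization.submodule_mk]
    exact SL2Gen.transvection_mem_lineStab hij a

theorem SL_normal_le_center_or [Nontrivial ι] (N : Subgroup (Matrix.SpecialLinearGroup ι F))
    [N.Normal] : N ≤ Subgroup.center _ ∨ _root_.commutator (Matrix.SpecialLinearGroup ι F) ≤ N := by
  by_cases h : MulAction.fixedPoints N (ℙ F (ι → F)) = Set.univ
  · left
    intro x hx
    rw [← Projectivization.SL_mulAction_ker, MonoidHom.mem_ker]
    ext p
    have : p ∈ MulAction.fixedPoints N (ℙ F (ι → F)) := h ▸ Set.mem_univ p
    exact this ⟨x, hx⟩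
  · exact Or.inr (slIwasawa.commutator_le N h)

theorem SL_commutator_eq_top_of_three (h : 3 ≤ Fintype.card ι) :
    _root_.commutator (Matrix.SpecialLinearGroup ι F) = ⊤ := by
  haveI : Nontrivial ι := Fintype.one_lt_card_iff_nontrivial.1 (by omega)
  rw [eq_top_iff]
  intro M _
  refine CfsgH7.SL_induction (fun M => M ∈ _root_.commutator (Matrix.SpecialLinearGroup ι F)) ?_
    (fun _ _ => mul_mem) M
  intro i k hik a
  obtain ⟨j, hj⟩ : ∃ j, j ∉ ({i, k} : Finset ι) := by
    by_contra hc
    push Not at hc
    have : (Finset.univ : Finset ι) ⊆ {i, k} := fun x _ => hc x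
    have h2 := Finset.card_le_card this
    have h3 : ({i, k} : Finset ι).card ≤ 2 := Finset.card_le_two
    rw [Finset.card_univ] at h2
    omega
  simp only [Finset.mem_insert, Finset.mem_singleton, not_or] at hj
  have := CfsgH7.transvection_commutator (F := F) (Ne.symm hj.1) hj.2 hik a 1
  rw [mul_one] at this
  rw [← this]
  exact Subgroup.commutator_mem_commutator (Subgroup.mem_top _) (Subgroup.mem_top _)

theorem sq_eq_one_iff_of_ne_zero' {x : F} (h : x ^ 2 = 1) : x = 1 ∨ x = -1 :=
  mul_self_eq_one_iff.1 (by rw [← sq]; exact h)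

theorem exists_sq_ne_one [Fintype F] (h : 3 < Fintype.card F) : ∃ a : F, a ≠ 0 ∧ a ^ 2 ≠ 1 := by
  classical
  by_contra hc
  push Not at hc
  have : (Finset.univ : Finset F) ⊆ {0, 1, -1} := by
    intro x _
    by_cases hx : x = 0
    · simp [hx]
    · have := hc x hx
      rcases sq_eq_one_iff_of_ne_zero' this with h | h <;> simp [h]
  have h2 := Finset.card_le_card this
  have h3 : ({0, 1, -1} : Finset F).card ≤ 3 := Finset.card_le_three
  rw [Finset.card_univ] at h2
  omega

/-- a matrix commuting with all of `SL` is scalar -/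
theorem scalar_of_commute_SL (g : Matrix ι ι F)
    (h : ∀ s : Matrix.SpecialLinearGroup ι F, (s : Matrix ι ι F) * g = g * s) :
    ∃ c : F, g = c • (1 : Matrix ι ι F) := by
  have : g ∈ Set.range (Matrix.scalar ι : F → Matrix ι ι F) := by
    apply Matrix.mem_range_scalar_of_commute_transvectionStruct
    intro t
    exact h t.toSpecialLinearGroup
  obtain ⟨c, hc⟩ := this
  exact ⟨c, by rw [← hc, Matrix.scalar_apply, smul_one_eq_diagonal]⟩

/-- dilation with prescribed determinant -/
theorem det_dil (v φ : ι → F) (h : φ ⬝ᵥ v = 1) (c : F) :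
    (1 + vecMulVec ((c - 1) • v) φ).det = c := by
  rw [CfsgH7.det_tv, dotProduct_smul, h]; simp

end SL

section Nil
variable {F V : Type*} [Field F] [AddCommGroup V] [Module F V] [FiniteDimensional F V]

theorem finrank_ker_comp_le (f g : V →ₗ[F] V) :
    finrank F (LinearMap.ker (f ∘ₗ g)) ≤ finrank F (LinearMap.ker f) + finrank F (LinearMap.ker g) := by
  let φ : LinearMap.ker (f ∘ₗ g) →ₗ[F] LinearMap.ker f :=
    (g.domRestrict _).codRestrict _ (fun x => x.2)
  have h1 := φ.finrank_range_add_finrank_ker
  have h2 : finrank F (LinearMap.range φ) ≤ finrank F (LinearMap.ker f) := Submodule.finrank_le _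
  have h3 : finrank F (LinearMap.ker φ) ≤ finrank F (LinearMap.ker g) := by
    let ψ : LinearMap.ker φ →ₗ[F] LinearMap.ker g :=
      ((LinearMap.ker (f ∘ₗ g)).subtype ∘ₗ (LinearMap.ker φ).subtype).codRestrict _ (fun x => by
        have := x.2
        rw [LinearMap.mem_ker] at this ⊢
        exact congrArg Subtype.val this)
    apply LinearMap.finrank_le_finrank_of_injective (f := ψ)
    intro x y hxy
    have : (ψ x : V) = ψ y := congrArg Subtype.val hxy
    exact Subtype.ext (Subtype.ext this)
  omega

theorem finrank_ker_pow_le (N : Module.End F V) (d : ℕ) :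
    finrank F (LinearMap.ker (N ^ d)) ≤ d * finrank F (LinearMap.ker N) := by
  induction d with
  | zero => simp [Module.End.one_eq_id]
  | succ d ih =>
    rw [pow_succ]
    have := finrank_ker_comp_le (N ^ d) N
    change finrank F (LinearMap.ker ((N ^ d) ∘ₗ N)) ≤ _
    nlinarith

theorem pow_finrank_eq_zero_of_isNilpotent {N : Module.End F V} (hN : IsNilpotent N) :
    N ^ finrank F V = 0 := by
  have h := (LinearMap.isNilpotent_iff_charpoly N).1 hN
  have h2 := LinearMap.aeval_self_charpoly N
  rw [h] at h2
  simpa using h2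

theorem le_ker_pow_finrank {N : Module.End F V} (hN : IsNilpotent N) (W : Submodule F V)
    (hW : ∀ v ∈ W, N v ∈ W) : W ≤ LinearMap.ker (N ^ finrank F W) := by
  intro v hv
  have h1 : IsNilpotent (N.restrict hW) := Module.End.isNilpotent.restrict hW hN
  have h2 := pow_finrank_eq_zero_of_isNilpotent h1
  have h3 : ((N.restrict hW) ^ finrank F W) ⟨v, hv⟩ = 0 := by rw [h2]; rfl
  rw [Module.End.pow_restrict] at h3
  exact congrArg Subtype.val h3

/-- invariant subspaces of a regular nilpotent endomorphism -/
theorem eq_ker_pow_of_regular {N : Module.End F V} (hN : IsNilpotent N)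
    (hreg : finrank F (LinearMap.ker N) ≤ 1) (W : Submodule F V)
    (hW : ∀ v ∈ W, N v ∈ W) : W = LinearMap.ker (N ^ finrank F W) := by
  apply Submodule.eq_of_le_of_finrank_le (le_ker_pow_finrank hN W hW)
  calc _ ≤ _ := finrank_ker_pow_le N _
    _ ≤ finrank F W * 1 := Nat.mul_le_mul_left _ hreg
    _ = _ := mul_one _

theorem le_of_regular {N : Module.End F V} (hN : IsNilpotent N)
    (hreg : finrank F (LinearMap.ker N) ≤ 1) (W W' : Submodule F V)
    (hW : ∀ v ∈ W, N v ∈ W) (hW' : ∀ v ∈ W', N v ∈ W') (h : finrank F W ≤ finrank F W') :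
    W ≤ W' := by
  rw [eq_ker_pow_of_regular hN hreg W hW, eq_ker_pow_of_regular hN hreg W' hW']
  exact N.iterateKer.monotone h

end Nil

end CfsgH1
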