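import Cfsg.Agent.H1.GL1

set_option autoImplicit false
set_option linter.unusedSectionVars false

namespace CfsgH1

open Matrix Module Polynomial

section Irr
variable {F V : Type*} [Field F] [AddCommGroup V] [Module F V] [FiniteDimensional F V]

/-- `f` acts irreducibly -/
def IrrEnd (f : Module.End F V) : Prop :=
  ∀ W : Submodule F V, (∀ v ∈ W, f v ∈ W) → W = ⊥ ∨ W = ⊤

theorem IrrEnd.injective {f : Module.End F V} (hf : IrrEnd f) {e : Module.End F V}
    (he : f * e = e * f) (h0 : e ≠ 0) : Function.Injective e := by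
  rcases hf (LinearMap.ker e) (fun v hv => by
    rw [LinearMap.mem_ker] at hv ⊢
    rw [← Module.End.mul_apply, ← he, Module.End.mul_apply, hv, map_zero]) with h | h
  · exact LinearMap.ker_eq_bot.1 h
  · exact absurd (LinearMap.ker_eq_top.1 h) h0

theorem mem_centralizer_single {A : Type*} [Ring A] [Algebra F A] {f e : A} :
    e ∈ Subalgebra.centralizer F {f} ↔ f * e = e * f := by
  simp [Subalgebra.mem_centralizer_iff]

theorem IrrEnd.isField [Finite F] [Nontrivial V] {f : Module.End F V} (hf : IrrEnd f) :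
    IsField (Subalgebra.centralizer F {f}) := by
  haveI : Finite V := Module.finite_of_finite F
  haveI : Finite (Module.End F V) := CfsgH7.finite_linMap
  haveI : NoZeroDivisors (Subalgebra.centralizer F {f}) := ⟨fun {a b} h => by
    by_contra hc
    push Not at hc
    have ha := hf.injective (mem_centralizer_single.1 a.2) (fun h => hc.1 (Subtype.ext h))
    apply hc.2
    ext v
    apply ha
    have : (a.1 * b.1) v = 0 := by
      have := congrArg Subtype.val h
      change a.1 * b.1 = 0 at this
      rw [this]; rfl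
    simpa using this⟩
  haveI : IsDomain (Subalgebra.centralizer F {f}) := NoZeroDivisors.to_isDomain _
  exact Finite.isDomain_to_isField _

/-- evaluation of the commutant at a vector -/
def evalCent (f : Module.End F V) (v : V) : Subalgebra.centralizer F {f} →ₗ[F] V where
  toFun e := e.1 v
  map_add' _ _ := rfl
  map_smul' _ _ := rfl

theorem IrrEnd.evalCent_bijective {f : Module.End F V} (hf : IrrEnd f) {v : V} (hv : v ≠ 0) :
    Function.Bijective (evalCent f v) := by
  constructor
  · rw [injective_iff_map_eq_zero]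
    intro e he
    by_contra h0
    have := hf.injective (mem_centralizer_single.1 e.2) (fun h => h0 (Subtype.ext h))
    exact hv (this (by rw [map_zero]; exact he))
  · rcases hf (LinearMap.range (evalCent f v)) (by
      rintro _ ⟨e, rfl⟩
      exact ⟨⟨f, mem_centralizer_single.2 rfl⟩ * e, rfl⟩) with h | h
    · exfalso
      have : v ∈ LinearMap.range (evalCent f v) := ⟨1, rfl⟩
      rw [h] at this
      exact hv this
    · exact LinearMap.range_eq_top.1 h

theorem IrrEnd.exists_det [Finite F] [Nontrivial V] {f : Module.End F V} (hf : IrrEnd f) (c : F) :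
    ∃ e : Module.End F V, f * e = e * f ∧ LinearMap.det e = c := by
  haveI : Finite V := Module.finite_of_finite F
  haveI : Finite (Module.End F V) := CfsgH7.finite_linMap
  letI : Field (Subalgebra.centralizer F {f}) := hf.isField.toField
  obtain ⟨e, he⟩ := FiniteField.norm_surjective F (Subalgebra.centralizer F {f}) c
  obtain ⟨v, hv⟩ := exists_ne (0 : V)
  let φ := LinearEquiv.ofBijective _ (hf.evalCent_bijective hv)
  refine ⟨e.1, mem_centralizer_single.1 e.2, ?_⟩
  rw [← he, Algebra.norm_apply, ← LinearMap.det_conj _ φ]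
  congr 1
  ext w
  obtain ⟨x, rfl⟩ := φ.surjective w
  simp only [LinearMap.comp_apply, LinearEquiv.coe_coe, LinearEquiv.symm_apply_apply]
  rfl

theorem exists_irr_invt [Nontrivial V] (f : Module.End F V) :
    ∃ (W : Submodule F V) (hW : ∀ v ∈ W, f v ∈ W), W ≠ ⊥ ∧ IrrEnd (f.restrict hW) := by
  classical
  have hex : ∃ d, ∃ W : Submodule F V, (∀ v ∈ W, f v ∈ W) ∧ W ≠ ⊥ ∧ finrank F W = d :=
    ⟨_, ⊤, fun _ _ => trivial, top_ne_bot, rfl⟩
  obtain ⟨W, hW, h0, hd⟩ := Nat.find_spec hex
  refine ⟨W, hW, h0, fun U hU => ?_⟩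
  by_cases hU0 : U = ⊥
  · exact Or.inl hU0
  right
  have h1 : Nat.find hex ≤ finrank F (U.map W.subtype) := Nat.find_min' hex ⟨_, by
    rintro _ ⟨x, hx, rfl⟩
    exact ⟨_, hU x hx, rfl⟩, by
    intro h
    apply hU0
    apply Submodule.map_injective_of_injective W.injective_subtype
    rw [h, Submodule.map_bot], rfl⟩
  rw [Submodule.finrank_map_subtype_eq, ← hd] at h1
  exact Submodule.eq_top_of_finrank_eq (le_antisymm U.finrank_le h1)

theorem exists_comm_det [Finite F] [Nontrivial V] {f : Module.End F V} (hf : f.IsSemisimple)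
    (c : F) : ∃ e : Module.End F V, f * e = e * f ∧ LinearMap.det e = c := by
  obtain ⟨W, hW, h0, hirr⟩ := exists_irr_invt f
  obtain ⟨W', hW', hc⟩ := Module.End.isSemisimple_iff.1 hf W hW
  haveI : Nontrivial W := Submodule.nontrivial_iff_ne_bot.2 h0
  obtain ⟨e, he, hd⟩ := hirr.exists_det c
  let φ := Submodule.prodEquivOfIsCompl W W' hc
  refine ⟨(φ : W × W' →ₗ[F] V) ∘ₗ (e.prodMap LinearMap.id) ∘ₗ (φ.symm : V →ₗ[F] W × W'), ?_, ?_⟩
  · ext v
    obtain ⟨⟨a, b⟩, rfl⟩ := φ.surjective v
    have h1 : f (φ (a, b)) = φ (f.restrict hW a, ⟨f b, hW' b.2⟩) := by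
      simp [φ, LinearMap.restrict_apply]
    have h2 : e (f.restrict hW a) = f.restrict hW (e a) := (LinearMap.congr_fun he a).symm
    simp only [Module.End.mul_apply, LinearMap.comp_apply, LinearEquiv.coe_coe, h1,
      LinearEquiv.symm_apply_apply, LinearMap.prodMap_apply, LinearMap.id_apply, h2]
    simp [φ, LinearMap.restrict_apply]
  · rw [LinearMap.det_conj, LinearMap.det_prodMap, hd]; simp

end Irr

section Reg
variable {F : Type*} [Field F] {ι : Type*} [Fintype ι] [DecidableEq ι]

theorem toLin'_isNilpotent {N : Matrix ι ι F} (h : IsNilpotent N) : IsNilpotent (toLin' N) := by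
  obtain ⟨k, hk⟩ := h
  exact ⟨k, by rw [← Matrix.toLin'_pow, hk, map_zero]⟩

/-- cyclic vector of a regular nilpotent matrix -/
theorem exists_cyclic_of_regular {N : Matrix ι ι F} {n : ℕ} (hn : Fintype.card ι = n)
    (hN : IsNilpotent N) (hreg : N.rank = n - 1) :
    ∃ v : ι → F, Function.Bijective
      (Fintype.linearCombination F (fun i : Fin n => (N ^ (i : ℕ)) *ᵥ v)) := by
  have hN' := toLin'_isNilpotent hN
  have hk : finrank F (LinearMap.ker (toLin' N)) ≤ 1 := by
    rw [CfsgH7.finrank_ker_toLin', hreg, hn]; omega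
  have hdim : finrank F (Fin n → F) = finrank F (ι → F) := by simp [hn]
  rcases Nat.eq_zero_or_pos n with rfl | hpos
  · refine ⟨0, ?_⟩
    haveI : IsEmpty ι := Fintype.card_eq_zero_iff.1 hn
    exact ⟨fun _ _ _ => Subsingleton.elim _ _, fun _ => ⟨0, Subsingleton.elim _ _⟩⟩
  obtain ⟨v, hv⟩ : ∃ v, v ∉ LinearMap.ker (toLin' N ^ (n - 1)) := by
    by_contra h
    push Not at h
    have h1 := finrank_ker_pow_le (toLin' N) (n - 1)
    rw [Submodule.eq_top_iff'.2 h, finrank_top, finrank_fintype_fun_eq_card, hn] at h1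
    have : (n - 1) * finrank F (LinearMap.ker (toLin' N)) ≤ (n - 1) * 1 := Nat.mul_le_mul_left _ hk
    omega
  refine ⟨v, ?_⟩
  set L := Fintype.linearCombination F (fun i : Fin n => (N ^ (i : ℕ)) *ᵥ v) with hL
  have hNn : N ^ n = 0 := by
    have := pow_finrank_eq_zero_of_isNilpotent hN'
    rw [finrank_fintype_fun_eq_card, hn, ← Matrix.toLin'_pow] at this
    exact toLin'.injective (by rw [this, map_zero])
  have hmem : ∀ k, (N ^ k) *ᵥ v ∈ LinearMap.range L := by
    intro k
    rcases Nat.lt_or_ge k n with h | h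
    · refine ⟨Pi.single ⟨k, h⟩ 1, ?_⟩
      simp [hL, Fintype.linearCombination_apply_single]
    · rw [pow_eq_zero_of_le h hNn, zero_mulVec]
      exact Submodule.zero_mem _
  have hinv : ∀ w ∈ LinearMap.range L, toLin' N w ∈ LinearMap.range L := by
    rintro _ ⟨c, rfl⟩
    rw [hL, Fintype.linearCombination_apply, map_sum]
    refine Submodule.sum_mem _ fun i _ => ?_
    rw [map_smul, toLin'_apply, mulVec_mulVec, ← pow_succ']
    exact Submodule.smul_mem _ _ (hmem _)
  have h1 := eq_ker_pow_of_regular hN' hk _ hinv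
  have h2 : n ≤ finrank F (LinearMap.range L) := by
    by_contra h
    apply hv
    apply (toLin' N).iterateKer.monotone (show finrank F (LinearMap.range L) ≤ n - 1 by omega)
    change v ∈ LinearMap.ker (toLin' N ^ finrank F (LinearMap.range L))
    rw [← h1]
    simpa using hmem 0
  have hs : Function.Surjective L := by
    rw [← LinearMap.range_eq_top]
    apply Submodule.eq_top_of_finrank_eq
    apply le_antisymm (Submodule.finrank_le _)
    rw [finrank_fintype_fun_eq_card, hn]; exact h2
  exact ⟨(LinearMap.injective_iff_surjective_of_finrank_eq_finrank hdim).2 hs, hs⟩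

theorem pow_card_eq_zero {N : Matrix ι ι F} (hN : IsNilpotent N) : N ^ Fintype.card ι = 0 := by
  have := pow_finrank_eq_zero_of_isNilpotent (toLin'_isNilpotent hN)
  rw [finrank_fintype_fun_eq_card, ← Matrix.toLin'_pow] at this
  exact toLin'.injective (by rw [this, map_zero])

theorem regular_linearIndependent {N : Matrix ι ι F} {n : ℕ} (hn : Fintype.card ι = n)
    (hN : IsNilpotent N) (hreg : N.rank = n - 1) :
    LinearIndependent F (fun i : Fin n => N ^ (i : ℕ)) := by
  obtain ⟨v, hv⟩ := exists_cyclic_of_regular hn hN hreg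
  rw [Fintype.linearIndependent_iff]
  intro c hc
  have : c = 0 := hv.1 (by
    rw [map_zero, Fintype.linearCombination_apply]
    have := congrArg (· *ᵥ v) hc
    simpa [sum_mulVec, smul_mulVec] using this)
  exact congrFun this

theorem regular_commutant {N : Matrix ι ι F} {n : ℕ} (hn : Fintype.card ι = n)
    (hN : IsNilpotent N) (hreg : N.rank = n - 1) {g : Matrix ι ι F} (hg : g * N = N * g) :
    ∃ c : Fin n → F, g = ∑ i, c i • N ^ (i : ℕ) := by
  obtain ⟨v, hv⟩ := exists_cyclic_of_regular hn hN hreg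
  obtain ⟨c, hc⟩ := hv.2 (g *ᵥ v)
  refine ⟨c, ?_⟩
  apply toLin'.injective
  refine LinearMap.ext fun w => ?_
  obtain ⟨a, rfl⟩ := hv.2 w
  rw [Fintype.linearCombination_apply] at hc
  rw [Fintype.linearCombination_apply, map_sum, map_sum]
  refine Finset.sum_congr rfl fun j _ => ?_
  rw [map_smul, map_smul, toLin'_apply, toLin'_apply, mulVec_mulVec, mulVec_mulVec,
    (Commute.pow_right hg j).eq, ← mulVec_mulVec, ← hc]
  congr 1
  rw [Finset.sum_mul, sum_mulVec, mulVec_sum]
  refine Finset.sum_congr rfl fun i _ => ?_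
  rw [mulVec_smul, smul_mul_assoc, smul_mulVec, mulVec_mulVec, ← pow_add, ← pow_add, add_comm]

theorem det_smul_add_nilpotent {M : Matrix ι ι F} (hM : IsNilpotent M) (a : F) :
    (a • (1 : Matrix ι ι F) + M).det = a ^ Fintype.card ι := by
  have h1 := (Matrix.isNilpotent_charpoly_sub_pow_of_isNilpotent hM.neg).eq_zero
  rw [sub_eq_zero] at h1
  have h2 := Matrix.eval_charpoly (-M) a
  rw [h1] at h2
  simp only [eval_pow, eval_X, sub_neg_eq_add] at h2
  rw [h2, Matrix.scalar_apply, smul_one_eq_diagonal]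

/-- a polynomial in a nilpotent matrix is its constant term plus a nilpotent matrix -/
theorem sum_pow_eq_add_nilpotent {N : Matrix ι ι F} (hN : IsNilpotent N) {n : ℕ}
    (c : Fin (n + 1) → F) : ∃ M, IsNilpotent M ∧ M * N = N * M ∧
      ∑ i, c i • N ^ (i : ℕ) = c 0 • (1 : Matrix ι ι F) + M := by
  have hc : Commute N (∑ i : Fin n, c i.succ • N ^ (i : ℕ)) :=
    Commute.sum_right _ _ _ fun i _ => ((Commute.refl N).pow_right _).smul_right _
  refine ⟨N * ∑ i : Fin n, c i.succ • N ^ (i : ℕ), hc.isNilpotent_mul_right hN, ?_, ?_⟩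
  · rw [mul_assoc, ← hc.eq]
  · rw [Fin.sum_univ_succ, Finset.mul_sum]
    simp [pow_succ']

theorem det_sum_pow {N : Matrix ι ι F} (hN : IsNilpotent N) {n : ℕ}
    (c : Fin (n + 1) → F) : (∑ i, c i • N ^ (i : ℕ)).det = c 0 ^ Fintype.card ι := by
  obtain ⟨M, hM, -, e⟩ := sum_pow_eq_add_nilpotent hN c
  rw [e, det_smul_add_nilpotent hM]

end Reg

end CfsgH1
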