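import Cfsg.Agent.H1.JType
import Cfsg.Agent.H7.PSUField
import Cfsg.Agent.S2588

set_option autoImplicit false
set_option maxHeartbeats 400000
set_option linter.unusedSectionVars false

namespace CfsgH1

open Matrix Module CfsgH7

section Rank
variable {F E : Type*} [Field F] [Field E] {ι : Type*} [Fintype ι] [DecidableEq ι]

theorem rank_map_ringHom (ε : F →+* E) (A : Matrix ι ι F) : (A.map ε).rank = A.rank := by
  classical
  obtain ⟨L, L', D, h⟩ := Matrix.Pivot.exists_list_transvec_mul_diagonal_mul_list_transvec A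
  have h1 : IsUnit (L.map TransvectionStruct.toMatrix).prod.det := by
    rw [TransvectionStruct.det_toMatrix_prod]; exact isUnit_one
  have h2 : IsUnit (L'.map TransvectionStruct.toMatrix).prod.det := by
    rw [TransvectionStruct.det_toMatrix_prod]; exact isUnit_one
  have h3 : ∀ M : Matrix ι ι F, IsUnit M.det → IsUnit (M.map ε).det := fun M hM => by
    rw [← RingHom.mapMatrix_apply, ← RingHom.map_det]; exact hM.map ε
  rw [h, Matrix.map_mul, Matrix.map_mul, rank_mul_eq_left_of_isUnit_det _ _ h2,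
    rank_mul_eq_left_of_isUnit_det _ _ (h3 _ h2), rank_mul_eq_right_of_isUnit_det _ _ h1,
    rank_mul_eq_right_of_isUnit_det _ _ (h3 _ h1), diagonal_map (map_zero ε), rank_diagonal,
    rank_diagonal]
  simp

theorem IsJType.map {u : Matrix ι ι F} {s : Multiset ℕ} (h : IsJType u s) (ε : F →+* E) :
    IsJType (u.map ε) s := by
  refine ⟨h.1, fun e => ?_⟩
  rw [← h.2, ← rank_map_ringHom ε]
  congr 1
  change (ε.mapMatrix u - 1) ^ e = ε.mapMatrix _
  rw [map_pow, map_sub, map_one]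

theorem IsJType.transpose {u : Matrix ι ι F} {s : Multiset ℕ} (h : IsJType u s) :
    IsJType uᵀ s := by
  refine ⟨h.1, fun e => ?_⟩
  rw [← h.2, ← rank_transpose, transpose_pow, transpose_sub, transpose_transpose, transpose_one]

theorem IsJType.of_mul_unit {u v w : Matrix ι ι F} {s : Multiset ℕ} (h : IsJType u s)
    (hw : IsUnit w) (hc : Commute w (u - 1)) (e : v - 1 = w * (u - 1)) : IsJType v s := by
  refine ⟨h.1, fun k => ?_⟩
  rw [← h.2, e, hc.mul_pow, rank_mul_eq_right_of_isUnit_det _ _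
    ((Matrix.isUnit_iff_isUnit_det _).1 (hw.pow k))]

theorem IsJType.inv {u : Matrix ι ι F} {s : Multiset ℕ} (h : IsJType u s) : IsJType u⁻¹ s := by
  have hu := (Matrix.isUnit_iff_isUnit_det _).1 h.isUnit
  refine h.of_mul_unit (w := -u⁻¹) (Matrix.isUnit_nonsing_inv_iff.2 h.isUnit).neg ?_ ?_
  · change _ * _ = _ * _
    simp [mul_sub, sub_mul, Matrix.nonsing_inv_mul _ hu, Matrix.mul_nonsing_inv _ hu]
    abel
  · simp [mul_sub, Matrix.nonsing_inv_mul _ hu]
    abel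

end Rank

section GU
variable {K : Type*} [Field K] [Fintype K] {q n : ℕ}

theorem exists_GU_jtype (hK : Fintype.card K = q ^ 2) (s : Multiset ℕ) (hs : ∀ a ∈ s, 0 < a)
    (h : s.sum = n) : ∃ g : Cfsg.GU n K q, IsJType (g.1 : Matrix (Fin n) (Fin n) K) s := by
  obtain ⟨u, hu⟩ := exists_isJType (F := K) (ι := Fin n) s hs (by simpa using h)
  obtain ⟨σ, hσ, -⟩ := exists_qfrob hK
  obtain ⟨B, hB⟩ := (Cfsg.Agent.S2588.result hK hu.isUnit.unit).2 (by
    have : (fun x : K => x ^ q) = (σ : K →+* K) := funext fun x => (hσ x).symm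
    rw [this]
    exact hu.isConj (hu.map (σ : K →+* K)).transpose.inv)
  exact ⟨B, hu.of_isConj ((isConj_units_iff _ _).1 hB)⟩

end GU

section Pre
variable {K : Type*} [Field K] {σ : K ≃+* K}

theorem dot_smul_herm {ι : Type*} [Fintype ι] (a b : K) (v w : ι → K) :
    (a • v) ⬝ᵥ (σ ∘ (b • w)) = a * σ b * (v ⬝ᵥ (σ ∘ w)) := by
  simp [dotProduct, Finset.mul_sum, mul_comm, mul_left_comm, mul_assoc]

theorem herm_conj {ι : Type*} [Fintype ι] (h2 : orderOf σ = 2) (v w : ι → K) :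
    σ (v ⬝ᵥ (σ ∘ w)) = w ⬝ᵥ (σ ∘ v) := by
  simp [dotProduct, map_sum, invol_of_orderOf h2, mul_comm]

end Pre

section Count
variable {K : Type*} [Field K] [Fintype K] [DecidableEq K] {σ : K ≃+* K}

/-- number of vectors of given hermitian norm -/
def cntN (σ : K ≃+* K) (n : ℕ) (c : K) : ℕ :=
  (Finset.univ.filter fun v : Fin n → K => v ⬝ᵥ (σ ∘ v) = c).card

theorem cntN_eq (h2 : orderOf σ = 2) (n : ℕ) {c : K} (hc : σ c = c) (h0 : c ≠ 0) :
    cntN σ n c = cntN σ n 1 := by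
  obtain ⟨x, hx⟩ := exists_norm_two h2 hc
  have hx0 : x ≠ 0 := by rintro rfl; exact h0 (by rw [← hx, zero_mul])
  symm
  refine Finset.card_bij (fun v _ => x • v) ?_ ?_ ?_
  · intro v hv
    simp only [Finset.mem_filter, Finset.mem_univ, true_and] at hv ⊢
    rw [dot_smul_herm, hv, hx, mul_one]
  · intro v _ w _ h
    exact smul_right_injective _ hx0 h
  · intro v hv
    simp only [Finset.mem_filter, Finset.mem_univ, true_and] at hv ⊢
    refine ⟨x⁻¹ • v, ?_, by rw [smul_smul, mul_inv_cancel₀ hx0, one_smul]⟩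
    rw [dot_smul_herm, hv, ← hx, map_inv₀]
    have : σ x ≠ 0 := by simpa using hx0
    field_simp

theorem cntN_total (h2 : orderOf σ = 2) {q : ℕ} (hK : Fintype.card K = q ^ 2) (n : ℕ) :
    (q ^ 2) ^ n = cntN σ n 0 + (q - 1) * cntN σ n 1 := by
  classical
  have hq : (Finset.univ.filter fun c : K => σ c = c).card = q := by
    rw [← card_fixF_eq σ (q₀ := q) (by rw [h2, hK]), Nat.card_eq_fintype_card,
      Fintype.card_subtype]
    congr 1
    ext c
    simp [mem_fixF]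
  have h1 := Finset.card_eq_sum_card_fiberwise (s := (Finset.univ : Finset (Fin n → K)))
    (t := Finset.univ.filter fun c : K => σ c = c) (f := fun v => v ⬝ᵥ (σ ∘ v)) (fun v _ => by
      simp only [Finset.coe_filter, Finset.mem_univ, true_and, Set.mem_setOf_eq]
      exact herm_conj h2 v v)
  rw [Finset.card_univ, Fintype.card_fun, hK, Fintype.card_fin,
    ← Finset.add_sum_erase _ _ (a := 0) (by simp)] at h1
  rw [h1]
  congr 1
  rw [Finset.sum_congr rfl (g := fun _ => cntN σ n 1), Finset.sum_const,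
    Finset.card_erase_of_mem (by simp), hq, smul_eq_mul]
  intro c hc
  rw [Finset.mem_erase, Finset.mem_filter] at hc
  exact cntN_eq h2 n hc.2.2 hc.1

theorem cntN_succ (h2 : orderOf σ = 2) {q : ℕ} (hK : Fintype.card K = q ^ 2) (n : ℕ) :
    cntN σ (n + 1) 0 = cntN σ n 0 + (q ^ 2 - 1) * cntN σ n 1 := by
  have h1 : cntN σ (n + 1) 0 = ∑ a : K, cntN σ n (-(a * σ a)) := by
    rw [cntN, Finset.card_eq_sum_card_fiberwise (t := Finset.univ) (f := fun v => v 0)
      (fun _ _ => Finset.mem_coe.2 (Finset.mem_univ _))]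
    refine Finset.sum_congr rfl fun a _ => ?_
    refine Finset.card_bij (fun v _ => Fin.tail v) ?_ ?_ ?_
    · intro v hv
      simp only [Finset.mem_filter, Finset.mem_univ, true_and] at hv ⊢
      rw [eq_neg_iff_add_eq_zero, ← hv.1, ← hv.2, add_comm]
      simp [dotProduct, Fin.sum_univ_succ, Fin.tail]
    · intro v hv w hw h
      simp only [Finset.mem_filter, Finset.mem_univ, true_and] at hv hw
      rw [← Fin.cons_self_tail v, ← Fin.cons_self_tail w, hv.2, hw.2, h]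
    · intro v hv
      simp only [Finset.mem_filter, Finset.mem_univ, true_and] at hv ⊢
      refine ⟨Fin.cons a v, ⟨?_, rfl⟩, rfl⟩
      rw [eq_neg_iff_add_eq_zero, add_comm] at hv
      rw [← hv]
      simp [dotProduct, Fin.sum_univ_succ]
  rw [h1, ← Finset.add_sum_erase _ _ (Finset.mem_univ 0)]
  congr 1
  · simp
  rw [Finset.sum_congr rfl (g := fun _ => cntN σ n 1), Finset.sum_const,
    Finset.card_erase_of_mem (by simp), Finset.card_univ, hK, smul_eq_mul]
  intro c hc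
  rw [Finset.mem_erase] at hc
  exact cntN_eq h2 n (by simp [invol_of_orderOf h2, mul_comm]) (by simp [hc.1])

theorem two_le_of_card_sq {q : ℕ} (hK : Fintype.card K = q ^ 2) : 2 ≤ q := by
  have := Fintype.one_lt_card (α := K)
  rw [hK] at this
  by_contra h
  have : q ≤ 1 := by omega
  have := Nat.pow_le_pow_left this 2
  omega

theorem cntN_formula (h2 : orderOf σ = 2) {q : ℕ} (hK : Fintype.card K = q ^ 2) (n : ℕ) :
    (q : ℤ) * cntN σ n 0 = q ^ (2 * n) + (-1) ^ n * (q - 1) * q ^ n ∧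
      (q : ℤ) * cntN σ n 1 = q ^ n * (q ^ n - (-1) ^ n) := by
  have hq := two_le_of_card_sq hK
  have key : ∀ n, (q : ℤ) * cntN σ n 0 = q ^ (2 * n) + (-1) ^ n * (q - 1) * q ^ n →
      (q : ℤ) * cntN σ n 1 = q ^ n * (q ^ n - (-1) ^ n) := by
    intro n h
    have h1 := congrArg (Nat.cast : ℕ → ℤ) (cntN_total h2 hK n)
    push_cast [Nat.cast_sub (show 1 ≤ q by omega)] at h1
    apply mul_left_cancel₀ (show (q : ℤ) - 1 ≠ 0 by omega)
    rw [← pow_mul] at h1
    linear_combination (-(q : ℤ)) * h1 - h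
  induction n with
  | zero =>
    have : (q : ℤ) * cntN σ 0 0 = q ^ (2 * 0) + (-1) ^ 0 * (q - 1) * q ^ 0 := by
      simp [cntN]
    exact ⟨this, key _ this⟩
  | succ n ih =>
    have : (q : ℤ) * cntN σ (n + 1) 0 =
        q ^ (2 * (n + 1)) + (-1) ^ (n + 1) * (q - 1) * q ^ (n + 1) := by
      rw [cntN_succ h2 hK]
      push_cast [Nat.cast_sub (show 1 ≤ q ^ 2 from Nat.one_le_pow _ _ (by omega))]
      linear_combination ih.1 + ((q : ℤ) ^ 2 - 1) * ih.2
    exact ⟨this, key _ this⟩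

end Count

section Order
variable {K : Type*} [Field K] {σ : K ≃+* K}

/-- unitary matrices -/
abbrev UM (σ : K ≃+* K) (ι : Type*) [Fintype ι] [DecidableEq ι] : Type _ :=
  {g : Matrix ι ι K // ct σ g * g = 1}

theorem card_UM_congr {ι κ : Type*} [Fintype ι] [DecidableEq ι] [Fintype κ] [DecidableEq κ]
    (e : ι ≃ κ) : Nat.card (UM σ ι) = Nat.card (UM σ κ) := by
  refine Nat.card_congr (Equiv.subtypeEquiv (reindexAlgEquiv K K e).toEquiv fun g => ?_)
  rw [← (reindexAlgEquiv K K e).injective.eq_iff, map_mul, map_one]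
  rfl

theorem exists_unitary_map_aux {ι : Type*} [Fintype ι] [DecidableEq ι] (h2 : orderOf σ = 2)
    {x y : ι → K} (h : x ⬝ᵥ (σ ∘ x) = y ⬝ᵥ (σ ∘ y)) (hc : x ⬝ᵥ (σ ∘ (x - y)) ≠ 0) :
    ∃ g : Matrix ι ι K, ct σ g * g = 1 ∧ g *ᵥ x = y := by
  set w := x - y with hw
  set c := x ⬝ᵥ (σ ∘ w) with hc'
  have hadd : ∀ u v z : ι → K, u ⬝ᵥ (σ ∘ (v - z)) = u ⬝ᵥ (σ ∘ v) - u ⬝ᵥ (σ ∘ z) := by
    intro u v z
    simp [dotProduct, mul_sub]
  have hww : w ⬝ᵥ (σ ∘ w) = c + σ c := by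
    rw [hc', herm_conj h2]
    simp only [hw, hadd, sub_dotProduct]
    rw [h]; ring
  have hg : ∀ z, (1 - c⁻¹ • vecMulVec w (σ ∘ w)) *ᵥ z = z - (c⁻¹ * (z ⬝ᵥ (σ ∘ w))) • w := by
    intro z
    rw [sub_mulVec, one_mulVec, smul_mulVec, vecMulVec_mulVec', smul_smul, dotProduct_comm]
  refine ⟨1 - c⁻¹ • vecMulVec w (σ ∘ w), (preserves_herm_iff σ _).1 fun u v => ?_, ?_⟩
  · rw [hg, hg, hadd, sub_dotProduct, sub_dotProduct]
    have e1 := dot_smul_herm (σ := σ) 1 (c⁻¹ * (v ⬝ᵥ (σ ∘ w))) u w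
    have e2 := dot_smul_herm (σ := σ) (c⁻¹ * (u ⬝ᵥ (σ ∘ w))) 1 w v
    rw [one_smul] at e1 e2
    rw [e1, e2, dot_smul_herm, hww, map_mul, map_inv₀, herm_conj h2 v w, map_one]
    clear_value c
    have : σ c ≠ 0 := by simpa using hc
    field_simp
    ring
  · rw [hg, ← hc', inv_mul_cancel₀ hc, one_smul, hw, sub_sub_cancel]

theorem exists_unitary_map [Finite K] {ι : Type*} [Fintype ι] [DecidableEq ι] (h2 : orderOf σ = 2)
    {x y : ι → K} (hx : x ⬝ᵥ (σ ∘ x) = 1) (hy : y ⬝ᵥ (σ ∘ y) = 1) :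
    ∃ g : Matrix ι ι K, ct σ g * g = 1 ∧ g *ᵥ x = y := by
  have hadd : ∀ u v z : ι → K, u ⬝ᵥ (σ ∘ (v - z)) = u ⬝ᵥ (σ ∘ v) - u ⬝ᵥ (σ ∘ z) := by
    intro u v z
    simp [dotProduct, mul_sub]
  by_cases h : x ⬝ᵥ (σ ∘ y) = 1
  · obtain ⟨θ, hθ⟩ := exists_ne_of_orderOf h2
    have hθ0 : θ ≠ 0 := by rintro rfl; simp at hθ
    have hθ1 : σ θ ≠ 0 := by simpa using hθ0
    let l := θ / σ θ
    have hl : l * σ l = 1 := by
      simp only [l, map_div₀, invol_of_orderOf h2]; field_simp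
    have hl1 : σ l ≠ 1 := by
      simp only [l, map_div₀, invol_of_orderOf h2]
      rw [Ne, div_eq_one_iff_eq hθ0]
      exact fun h => hθ (by rw [h, sub_self])
    obtain ⟨g, hg1, hg2⟩ := exists_unitary_map_aux h2 (x := x) (y := l • y) (by
      have := dot_smul_herm (σ := σ) l l y y
      rw [this, hl, hx, hy, mul_one]) (by
      have := dot_smul_herm (σ := σ) 1 l x y
      rw [one_smul] at this
      rw [hadd, this, hx, h, one_mul, mul_one, sub_ne_zero]
      exact hl1.symm)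
    refine ⟨σ l • g, ?_, ?_⟩
    · rw [ct_smul, Matrix.smul_mul, Matrix.mul_smul, hg1, smul_smul, invol_of_orderOf h2, hl,
        one_smul]
    · rw [smul_mulVec, hg2, smul_smul, mul_comm, hl, one_smul]
  · exact exists_unitary_map_aux h2 (hx.trans hy.symm) (by
      rw [hadd, hx, sub_ne_zero]; exact Ne.symm h)

theorem ct_fromBlocks {ι κ : Type*} (A : Matrix ι ι K) (B : Matrix ι κ K) (C : Matrix κ ι K)
    (D : Matrix κ κ K) :
    ct σ (fromBlocks A B C D) = fromBlocks (ct σ A) (C.map σ)ᵀ (B.map σ)ᵀ (ct σ D) := by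
  rw [ct_apply, fromBlocks_map, fromBlocks_transpose]; rfl

theorem card_UM_succ [Finite K] {ι : Type*} [Fintype ι] [DecidableEq ι] (h2 : orderOf σ = 2) :
    Nat.card (UM σ (Unit ⊕ ι)) =
      Nat.card {v : Unit ⊕ ι → K // v ⬝ᵥ (σ ∘ v) = 1} * Nat.card (UM σ ι) := by
  let e : Unit ⊕ ι → K := Pi.single (.inl ()) 1
  have he : e ⬝ᵥ (σ ∘ e) = 1 := by simp [e]
  choose g hg1 hg2 using fun v : {v : Unit ⊕ ι → K // v ⬝ᵥ (σ ∘ v) = 1} =>
    exists_unitary_map h2 he v.2
  have hb : ∀ h : Matrix ι ι K, fromBlocks (1 : Matrix Unit Unit K) 0 0 h *ᵥ e = e := by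
    intro h
    ext (i | i) <;> simp [e, fromBlocks_mulVec, mulVec_single_one]
  rw [← Nat.card_prod]
  symm
  refine Nat.card_eq_of_bijective (fun x => ⟨g x.1 * fromBlocks 1 0 0 x.2.1, ?_⟩) ⟨?_, ?_⟩
  · rw [ct_mul, Matrix.mul_assoc, ← Matrix.mul_assoc (ct σ (g x.1)), hg1, one_mul, ct_fromBlocks,
      fromBlocks_multiply, x.2.2]
    simp [ct_one]
  · rintro ⟨v, h⟩ ⟨v', h'⟩ hh
    have h1 : g v * fromBlocks 1 0 0 h.1 = g v' * fromBlocks 1 0 0 h'.1 := congrArg Subtype.val hh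
    have h3 : v = v' := by
      have := congrArg (· *ᵥ e) h1
      simp only [← mulVec_mulVec, hb, hg2] at this
      exact Subtype.ext this
    subst h3
    have := congrArg (ct σ (g v) * ·) h1
    simp only [← Matrix.mul_assoc, hg1, one_mul] at this
    exact Prod.ext rfl (Subtype.ext (fromBlocks_inj.1 this).2.2.2)
  · rintro ⟨x, hx⟩
    let v : {v : Unit ⊕ ι → K // v ⬝ᵥ (σ ∘ v) = 1} :=
      ⟨x *ᵥ e, by rw [(preserves_herm_iff σ x).2 hx, he]⟩
    let y := ct σ (g v) * x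
    have hy : ct σ y * y = 1 := by
      rw [ct_mul, ct_ct h2, Matrix.mul_assoc, ← Matrix.mul_assoc (g v), mul_eq_one_comm.1 (hg1 v),
        one_mul, hx]
    have hye : y *ᵥ e = e := by
      rw [← mulVec_mulVec]
      change ct σ (g v) *ᵥ v.1 = e
      rw [← hg2, mulVec_mulVec, hg1, one_mulVec]
    have hye' : ct σ y *ᵥ e = e := by
      conv_lhs => rw [← hye]
      rw [mulVec_mulVec, hy, one_mulVec]
    have hyb : y = fromBlocks 1 0 0 y.toBlocks₂₂ := by
      ext (i | i) (j | j)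
      · simpa [e, mulVec_single_one] using congrFun hye (.inl i)
      · have := congrFun hye' (.inr j)
        simpa [e, mulVec_single_one, ct_apply] using this
      · simpa [e, mulVec_single_one] using congrFun hye (.inr i)
      · rfl
    refine ⟨(v, ⟨y.toBlocks₂₂, ?_⟩), Subtype.ext ?_⟩
    · rw [hyb, ct_fromBlocks, fromBlocks_multiply, ← fromBlocks_one] at hy
      simpa using (fromBlocks_inj.1 hy).2.2.2
    · change g v * fromBlocks 1 0 0 y.toBlocks₂₂ = x
      rw [← hyb, ← Matrix.mul_assoc, mul_eq_one_comm.1 (hg1 v), one_mul]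

/-- the order of the unitary group -/
def ordGU (q n : ℕ) : ℤ :=
  (q : ℤ) ^ (n * (n - 1) / 2) * ∏ i : Fin n, ((q : ℤ) ^ ((i : ℕ) + 1) - (-1) ^ ((i : ℕ) + 1))

theorem card_UM_fin [Fintype K] (h2 : orderOf σ = 2) {q : ℕ} (hK : Fintype.card K = q ^ 2)
    (n : ℕ) : (Nat.card (UM σ (Fin n)) : ℤ) = ordGU q n := by
  classical
  induction n with
  | zero =>
    haveI : Unique (UM σ (Fin 0)) := ⟨⟨⟨1, Subsingleton.elim _ _⟩⟩, fun _ => Subsingleton.elim _ _⟩
    simp [ordGU]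
  | succ n ih =>
    have e : Fin (n + 1) ≃ Unit ⊕ Fin n := Fintype.equivOfCardEq (by simp [add_comm])
    have h1 : Nat.card {v : Unit ⊕ Fin n → K // v ⬝ᵥ (σ ∘ v) = 1} = cntN σ (n + 1) 1 := by
      rw [cntN, ← Fintype.card_subtype, ← Nat.card_eq_fintype_card]
      refine Nat.card_congr (Equiv.subtypeEquiv (Equiv.arrowCongr e.symm (Equiv.refl K))
        fun v => ?_)
      rw [← comp_equiv_dotProduct_comp_equiv v _ e]
      rfl
    have h3 := (cntN_formula h2 hK (n + 1)).2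
    have hq := two_le_of_card_sq hK
    rw [pow_succ' (q : ℤ) n, mul_assoc] at h3
    have h4 := mul_left_cancel₀ (show (q : ℤ) ≠ 0 by omega) h3
    rw [card_UM_congr e, card_UM_succ h2, h1, Nat.cast_mul, ih, h4, ordGU, ordGU,
      Fin.prod_univ_castSucc, Nat.triangle_succ]
    simp only [Fin.val_castSucc, Fin.val_last]
    ring

theorem card_UM [Fintype K] (h2 : orderOf σ = 2) {q : ℕ} (hK : Fintype.card K = q ^ 2)
    (ι : Type*) [Fintype ι] [DecidableEq ι] :
    (Nat.card (UM σ ι) : ℤ) = ordGU q (Fintype.card ι) := by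
  rw [card_UM_congr (Fintype.equivFin ι), card_UM_fin h2 hK]

theorem card_GU [Fintype K] {q : ℕ} (hK : Fintype.card K = q ^ 2) (n : ℕ) :
    (Nat.card (Cfsg.GU n K q) : ℤ) = ordGU q n := by
  obtain ⟨σ, hσ, h2⟩ := exists_qfrob hK
  rw [← card_UM_fin h2 hK]
  congr 1
  refine Nat.card_eq_of_bijective (fun g => ⟨g.1.1, (mem_GU_iff hσ _).1 g.2⟩) ⟨?_, ?_⟩
  · intro a b h
    exact Subtype.ext (Units.ext (congrArg Subtype.val h))
  · rintro ⟨g, hg⟩
    exact ⟨⟨⟨g, ct σ g, mul_eq_one_comm.1 hg, hg⟩, (mem_GU_iff hσ _).2 hg⟩, rfl⟩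

end Order

end CfsgH1
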