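import Cfsg.Agent.H1.Jordan2
import Cfsg.Agent.H1.Cls

set_option autoImplicit false
set_option maxHeartbeats 400000
set_option linter.unusedSectionVars false

namespace CfsgH1

open Matrix Module

variable {F : Type*} [Field F]

theorem finrank_ker_pow_succ {V : Type*} [AddCommGroup V] [Module F V] [FiniteDimensional F V]
    (N : Module.End F V) (e : ℕ) :
    finrank F (LinearMap.ker (N ^ (e + 1))) = finrank F (LinearMap.ker (N ^ e)) +
      finrank F (LinearMap.ker N ⊓ LinearMap.range (N ^ e) : Submodule F V) := by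
  let φ : LinearMap.ker (N ^ (e + 1)) →ₗ[F] V := (N ^ e).domRestrict _
  have h1 := φ.finrank_range_add_finrank_ker
  have h2 : LinearMap.range φ = LinearMap.ker N ⊓ LinearMap.range (N ^ e) := by
    ext x
    constructor
    · rintro ⟨⟨y, hy⟩, rfl⟩
      refine ⟨?_, y, rfl⟩
      rw [pow_succ'] at hy
      exact hy
    · rintro ⟨hx, y, rfl⟩
      exact ⟨⟨y, by rw [pow_succ']; exact hx⟩, rfl⟩
  have h3 : LinearMap.ker φ = (LinearMap.ker (N ^ e)).comap (LinearMap.ker (N ^ (e + 1))).subtype := by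
    ext x; rfl
  have h4 : finrank F (LinearMap.ker φ) = finrank F (LinearMap.ker (N ^ e)) := by
    rw [h3]
    exact (Submodule.comapSubtypeEquivOfLe (N.iterateKer.monotone (Nat.le_succ e))).finrank_eq
  rw [h2, h4] at h1
  omega

variable {ι : Type*} [Fintype ι] [DecidableEq ι]

theorem exists_jordan_sizes {N : Matrix ι ι F} (hN : IsNilpotent N) :
    ∃ (t : ℕ) (d : Fin t → ℕ), (∀ k, 1 ≤ d k) ∧ ∀ e, (N ^ e).rank = ∑ k, (d k - e) := by
  classical
  let f := toLin' N
  let c : ℕ → ℕ := fun e => finrank F (LinearMap.ker f ⊓ LinearMap.range (f ^ e) : Submodule F _)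
  have hc : Antitone c := fun a b h =>
    Submodule.finrank_mono (inf_le_inf_left _ (f.iterateRange.monotone h))
  have hker : ∀ e, finrank F (LinearMap.ker (f ^ e)) = ∑ i ∈ Finset.range e, c i := by
    intro e
    induction e with
    | zero => simp [Module.End.one_eq_id]
    | succ e ih => rw [finrank_ker_pow_succ, ih, Finset.sum_range_succ]
  obtain ⟨n, hn⟩ := toLin'_isNilpotent hN
  have hex : ∀ k : ℕ, ∃ e, c e ≤ k := fun k => ⟨n, by
    have : c n = 0 := by
      simp only [c]
      rw [hn]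
      simp
    omega⟩
  let d : Fin (c 0) → ℕ := fun k => Nat.find (hex k)
  have hd : ∀ (k : Fin (c 0)) e, e < d k ↔ (k : ℕ) < c e := by
    intro k e
    simp only [d, Nat.lt_find_iff, not_le]
    exact ⟨fun h => h e le_rfl, fun h m hm => h.trans_le (hc hm)⟩
  have hmin : ∀ e, ∑ k, min (d k) e = ∑ i ∈ Finset.range e, c i := by
    intro e
    induction e with
    | zero => simp
    | succ e ih =>
      rw [Finset.sum_range_succ, ← ih]
      have : c e = ∑ k : Fin (c 0), if (k : ℕ) < c e then 1 else 0 := by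
        rw [Fin.sum_univ_eq_sum_range (fun k => if k < c e then 1 else 0), ← Finset.card_filter]
        have : (Finset.range (c 0)).filter (fun k => k < c e) = Finset.range (c e) := by
          ext k
          have := hc (Nat.zero_le e)
          simp; omega
        rw [this, Finset.card_range]
      rw [this, ← Finset.sum_add_distrib]
      refine Finset.sum_congr rfl fun k _ => ?_
      have := hd k e
      split_ifs with h <;> omega
  have hrank : ∀ e, (N ^ e).rank + ∑ k, min (d k) e = Fintype.card ι := by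
    intro e
    rw [hmin, ← hker, ← Matrix.toLin'_pow, CfsgH7.finrank_ker_toLin']
    have := rank_le_card_width (N ^ e)
    omega
  have hsum : ∑ k, d k = Fintype.card ι := by
    have h1 := hrank (n + ∑ k, d k)
    have h2 : N ^ n = 0 := toLin'.injective (by rw [Matrix.toLin'_pow, hn, map_zero])
    rw [pow_add, h2, zero_mul, rank_zero, zero_add] at h1
    rw [← h1]
    refine Finset.sum_congr rfl fun k _ => (min_eq_left ?_).symm
    have := Finset.single_le_sum (f := d) (fun _ _ => Nat.zero_le _) (Finset.mem_univ k)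
    omega
  refine ⟨c 0, d, fun k => (hd k 0).2 k.2, fun e => ?_⟩
  have h1 := hrank e
  have : ∑ k, d k = ∑ k, min (d k) e + ∑ k, (d k - e) := by
    rw [← Finset.sum_add_distrib]
    exact Finset.sum_congr rfl fun k _ => by omega
  omega

/-- the unipotent matrix `u` has Jordan type `s` -/
def IsJType (u : Matrix ι ι F) (s : Multiset ℕ) : Prop :=
  (∀ a ∈ s, 0 < a) ∧ ∀ e, ((u - 1) ^ e).rank = (s.map (· - e)).sum

theorem exists_jtype {u : Matrix ι ι F} (h : IsNilpotent (u - 1)) : ∃ s, IsJType u s := by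
  obtain ⟨t, d, hd, h⟩ := exists_jordan_sizes h
  refine ⟨Finset.univ.val.map d, ?_, fun e => ?_⟩
  · intro a ha
    obtain ⟨k, -, rfl⟩ := Multiset.mem_map.1 ha
    exact hd k
  · rw [h, Multiset.map_map]; rfl

theorem count_eq_of_sub_sum (s : Multiset ℕ) (j : ℕ) :
    (s.map (· - j)).sum + (s.map (· - (j + 2))).sum =
      2 * (s.map (· - (j + 1))).sum + s.count (j + 1) := by
  induction s using Multiset.induction_on with
  | empty => simp
  | cons a s ih =>
    simp only [Multiset.map_cons, Multiset.sum_cons, Multiset.count_cons]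
    split_ifs <;> omega

theorem IsJType.unique {κ : Type*} [Fintype κ] [DecidableEq κ] {u : Matrix ι ι F}
    {u' : Matrix κ κ F} {s s' : Multiset ℕ} (h : IsJType u s) (h' : IsJType u' s')
    (hr : ∀ e, ((u - 1) ^ e).rank = ((u' - 1) ^ e).rank) : s = s' := by
  ext j
  rcases j with _ | j
  · rw [Multiset.count_eq_zero.2 (fun h0 => (h.1 0 h0).false),
      Multiset.count_eq_zero.2 (fun h0 => (h'.1 0 h0).false)]
  · have h1 := count_eq_of_sub_sum s j
    have h2 := count_eq_of_sub_sum s' j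
    rw [← h.2, ← h.2, ← h.2] at h1
    rw [← h'.2, ← h'.2, ← h'.2, ← hr, ← hr, ← hr] at h2
    omega

theorem IsJType.sum_eq {u : Matrix ι ι F} {s : Multiset ℕ} (h : IsJType u s) :
    s.sum = Fintype.card ι := by
  have := h.2 0
  simpa using this.symm

theorem rank_eq_zero_iff' {A : Matrix ι ι F} : A.rank = 0 ↔ A = 0 := by
  refine ⟨fun h => ?_, fun h => by rw [h, rank_zero]⟩
  apply toLin'.injective
  rw [map_zero, ← LinearMap.range_eq_bot]
  exact Submodule.finrank_eq_zero.1 h

theorem IsJType.pow_eq_zero_iff {u : Matrix ι ι F} {s : Multiset ℕ} (h : IsJType u s) (e : ℕ) :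
    (u - 1) ^ e = 0 ↔ ∀ a ∈ s, a ≤ e := by
  rw [← rank_eq_zero_iff', h.2, Multiset.sum_eq_zero_iff]
  simp only [Multiset.mem_map, forall_exists_index, and_imp, forall_apply_eq_imp_iff₂]
  exact forall₂_congr fun a _ => Nat.sub_eq_zero_iff_le

theorem IsJType.pow_sum {u : Matrix ι ι F} {s : Multiset ℕ} (h : IsJType u s) :
    (u - 1) ^ s.sum = 0 :=
  (h.pow_eq_zero_iff _).2 fun _ ha => Multiset.single_le_sum (fun _ _ => Nat.zero_le _) _ ha

theorem IsJType.isNilpotent {u : Matrix ι ι F} {s : Multiset ℕ} (h : IsJType u s) :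
    IsNilpotent (u - 1) := ⟨_, h.pow_sum⟩

theorem IsJType.isUnit {u : Matrix ι ι F} {s : Multiset ℕ} (h : IsJType u s) : IsUnit u := by
  simpa using h.isNilpotent.isUnit_add_one

theorem IsJType.isConj [Finite F] {u u' : Matrix ι ι F} {s : Multiset ℕ} (h : IsJType u s)
    (h' : IsJType u' s) : IsConj u u' :=
  CfsgH7.isConj_of_unipotent u u' _ h.pow_sum h'.pow_sum fun e => by rw [h.2, h'.2]

theorem IsJType.of_isConj {u u' : Matrix ι ι F} {s : Multiset ℕ} (h : IsJType u s)
    (h' : IsConj u u') : IsJType u' s :=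
  ⟨h.1, fun e => by rw [← CfsgH7.rank_pow_sub_one_of_isConj h', h.2]⟩

theorem IsJType.eq_of_isConj {u u' : Matrix ι ι F} {s s' : Multiset ℕ} (h : IsJType u s)
    (h' : IsJType u' s') (hc : IsConj u u') : s = s' :=
  h.unique h' (CfsgH7.rank_pow_sub_one_of_isConj hc)

theorem IsJType.reindex {κ : Type*} [Fintype κ] [DecidableEq κ] {u : Matrix ι ι F}
    {s : Multiset ℕ} (h : IsJType u s) (e : ι ≃ κ) : IsJType (Matrix.reindex e e u) s := by
  refine ⟨h.1, fun k => ?_⟩
  rw [← h.2, ← rank_reindex e e]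
  congr 1
  change (reindexAlgEquiv F F e u - 1) ^ k = reindexAlgEquiv F F e _
  rw [map_pow, map_sub, map_one]

theorem isJType_nilJ {κ : Type*} [Fintype κ] [DecidableEq κ] {d : κ → ℕ} (hd : ∀ k, 1 ≤ d k) :
    IsJType (1 + nilJ d F) (Finset.univ.val.map d) := by
  refine ⟨?_, fun e => ?_⟩
  · intro a ha
    obtain ⟨k, -, rfl⟩ := Multiset.mem_map.1 ha
    exact hd k
  · rw [add_sub_cancel_left, nilJ_pow, rank_shJ, Multiset.map_map]; rfl

theorem exists_fin_map_eq (s : Multiset ℕ) :
    ∃ (t : ℕ) (d : Fin t → ℕ), Finset.univ.val.map d = s := by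
  induction s using Quotient.inductionOn with
  | _ l => exact ⟨l.length, l.get, by simp⟩

/-- every Jordan type is realised by a Jordan matrix -/
theorem exists_model (s : Multiset ℕ) (hs : ∀ a ∈ s, 0 < a) (h : s.sum = Fintype.card ι) :
    ∃ (t : ℕ) (d : Fin t → ℕ) (_ : JI d ≃ ι), (∀ k, 1 ≤ d k) ∧ Finset.univ.val.map d = s := by
  obtain ⟨t, d, rfl⟩ := exists_fin_map_eq s
  refine ⟨t, d, Fintype.equivOfCardEq ?_, fun k => hs _ (Multiset.mem_map_of_mem _ (by simp)), rfl⟩
  rw [card_JI, ← h]; rfl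

theorem exists_isJType (s : Multiset ℕ) (hs : ∀ a ∈ s, 0 < a) (h : s.sum = Fintype.card ι) :
    ∃ u : Matrix ι ι F, IsJType u s := by
  obtain ⟨t, d, e, hd, rfl⟩ := exists_model s hs h
  exact ⟨_, (isJType_nilJ hd).reindex e⟩

theorem pow_char_eq_one_iff (p : ℕ) [Fact p.Prime] [CharP F p] (u : Matrix ι ι F) :
    u ^ p = 1 ↔ (u - 1) ^ p = 0 := by
  cases isEmpty_or_nonempty ι
  · simp [Subsingleton.elim (u ^ p) 1, Subsingleton.elim ((u - 1) ^ p) 0]
  rw [sub_pow_char_of_commute p (Commute.one_right u), one_pow, sub_eq_zero]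

theorem IsJType.eq_one_iff {u : Matrix ι ι F} {s : Multiset ℕ} (h : IsJType u s) :
    u = 1 ↔ ∀ a ∈ s, a ≤ 1 := by
  rw [← h.pow_eq_zero_iff, pow_one, sub_eq_zero]

theorem orderOf_eq_prime_iff' {G : Type*} [Monoid G] {p : ℕ} [Fact p.Prime] {g : G} :
    orderOf g = p ↔ g ^ p = 1 ∧ g ≠ 1 :=
  ⟨fun h => ⟨h ▸ pow_orderOf_eq_one g, fun h1 => by
    rw [h1, orderOf_one] at h; exact (Fact.out : p.Prime).one_lt.ne h⟩,
    fun h => orderOf_eq_prime h.1 h.2⟩

theorem rank_pow_of_regular {N : Matrix ι ι F} {n : ℕ} (hn : Fintype.card ι = n)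
    (hN : IsNilpotent N) (hreg : N.rank = n - 1) (e : ℕ) : (N ^ e).rank = n - e := by
  have hk : finrank F (LinearMap.ker (toLin' N)) ≤ 1 := by
    rw [CfsgH7.finrank_ker_toLin', hreg, hn]; omega
  have hk' : ∀ e, finrank F (LinearMap.ker (toLin' N ^ e)) ≤ e := fun e =>
    (finrank_ker_pow_le _ e).trans ((Nat.mul_le_mul_left _ hk).trans (mul_one _).le)
  rcases le_or_gt n e with h | h
  · rw [pow_eq_zero_of_le (hn ▸ h) (pow_card_eq_zero hN), rank_zero]; omega
  have h1 := finrank_ker_comp_le (toLin' N ^ e) (toLin' N ^ (n - e))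
  have h2 : (toLin' N ^ e) ∘ₗ (toLin' N ^ (n - e)) = 0 := by
    change toLin' N ^ e * toLin' N ^ (n - e) = 0
    rw [← pow_add, Nat.add_sub_cancel' h.le, ← Matrix.toLin'_pow, ← hn, pow_card_eq_zero hN,
      map_zero]
  rw [h2, LinearMap.ker_zero, finrank_top, finrank_fintype_fun_eq_card, hn] at h1
  have h3 := hk' e
  have h4 := hk' (n - e)
  have h5 := CfsgH7.finrank_ker_toLin' (N ^ e)
  have h6 := rank_le_card_width (N ^ e)
  rw [Matrix.toLin'_pow] at h5
  omega

theorem isJType_regular {u : Matrix ι ι F} {n : ℕ} (hn : Fintype.card ι = n) (h0 : 0 < n)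
    (hN : IsNilpotent (u - 1)) (hreg : (u - 1).rank = n - 1) : IsJType u {n} :=
  ⟨by simpa using h0, fun e => by simpa using rank_pow_of_regular hn hN hreg e⟩

theorem card_cent_reindex {κ : Type*} [Fintype κ] [DecidableEq κ] (e : κ ≃ ι) {u : Matrix κ κ F}
    {u' : Matrix ι ι F} (h : IsConj (Matrix.reindex e e u) u') :
    Nat.card {g : GL ι F // (g : Matrix ι ι F) * u' = u' * g} =
      Nat.card {g : GL κ F // (g : Matrix κ κ F) * u = u * g} := by
  obtain ⟨c, hc⟩ := h
  symm
  refine Nat.card_congr (Equiv.subtypeEquiv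
    ((Units.mapEquiv (reindexAlgEquiv F F e).toMulEquiv).trans (MulAut.conj c)).toEquiv fun g => ?_)
  have hu' : u' = c * reindexAlgEquiv F F e u * (c⁻¹).1 := by
    have : (c : Matrix ι ι F) * reindexAlgEquiv F F e u = u' * c := hc
    rw [this, mul_assoc, Units.mul_inv, mul_one]
  change _ ↔ (c : Matrix ι ι F) * reindexAlgEquiv F F e g * (c⁻¹).1 * u' =
    u' * (c * reindexAlgEquiv F F e g * (c⁻¹).1)
  rw [hu']
  simp only [mul_assoc, Units.inv_mul_cancel_left, Units.mul_right_inj]
  rw [← mul_assoc, ← mul_assoc, Units.mul_left_inj, ← map_mul, ← map_mul,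
    (reindexAlgEquiv F F e).injective.eq_iff]

theorem card_centralizer_GL (u : GL ι F) :
    Nat.card (Subgroup.centralizer {u}) =
      Nat.card {g : GL ι F // (g : Matrix ι ι F) * u = u * g} :=
  Nat.card_congr (Equiv.subtypeEquivRight fun g => by
    rw [Subgroup.mem_centralizer_singleton_iff, Units.ext_iff]; rfl)

theorem card_centralizer_of_jtype [Fintype F] {κ : Type*} [Fintype κ] [DecidableEq κ]
    {d : κ → ℕ} (hd : ∀ k, 1 ≤ d k) {I : Finset ℕ} (hI : ∀ k, d k ∈ I) (u : GL ι F)
    (hu : IsJType (u : Matrix ι ι F) (Finset.univ.val.map d)) :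
    Nat.card (Subgroup.centralizer {u}) =
      Fintype.card F ^ gamJ d I * ∏ i ∈ I, Nat.card (GL (Fb d i) F) := by
  have e : JI d ≃ ι := Fintype.equivOfCardEq (by rw [card_JI, ← hu.sum_eq]; rfl)
  rw [card_centralizer_GL, card_cent_reindex e (((isJType_nilJ hd).reindex e).isConj hu),
    card_cent_unip hd hI]

/-- partitions with parts at most `p` other than the trivial one -/
theorem card_partition_sub_one {n : ℕ} (P : n.Partition → Prop) [DecidablePred P]
    (hP : ∀ μ : n.Partition, (∀ a ∈ μ.parts, a ≤ 1) → P μ) :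
    Nat.card {μ : n.Partition // P μ ∧ ¬ ∀ a ∈ μ.parts, a ≤ 1} =
      (Finset.univ.filter P).card - 1 := by
  classical
  let o : n.Partition := ⟨Multiset.replicate n 1, fun h => by
    rw [Multiset.eq_of_mem_replicate h]; exact one_pos, by simp⟩
  have ho : ∀ μ : n.Partition, (∀ a ∈ μ.parts, a ≤ 1) ↔ μ = o := by
    intro μ
    constructor
    · intro h
      have h1 : μ.parts = Multiset.replicate μ.parts.card 1 :=
        Multiset.eq_replicate.2 ⟨rfl, fun b hb => le_antisymm (h b hb) (μ.parts_pos hb)⟩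
      have h2 := μ.parts_sum
      rw [h1] at h2
      simp only [Multiset.sum_replicate, smul_eq_mul, mul_one] at h2
      ext1
      rw [h1, h2]
    · rintro rfl a ha
      exact (Multiset.eq_of_mem_replicate ha).le
  rw [← Finset.card_erase_of_mem (a := o) (by simp [hP o ((ho o).2 rfl)]),
    Nat.card_eq_fintype_card, Fintype.card_subtype]
  congr 1
  ext μ
  simp [ho, and_comm]

end CfsgH1
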