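import Cfsg.Agent.H1.GL2
import Cfsg.Prelude.Def_JordanBlocks

set_option autoImplicit false
set_option linter.unusedSectionVars false

namespace CfsgH1

open Matrix Module

variable {κ : Type*} [Fintype κ] [DecidableEq κ]

/-- index type of a Jordan type matrix -/
abbrev JI (d : κ → ℕ) : Type _ := (k : κ) × Fin (d k)

theorem JI.ext' {d : κ → ℕ} {a b : JI d} (h1 : a.1 = b.1) (h2 : (a.2 : ℕ) = b.2) : a = b := by
  obtain ⟨k, i⟩ := a
  obtain ⟨l, j⟩ := b
  dsimp only at h1 h2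
  subst h1
  rw [Fin.ext h2]

theorem JI.eq_iff {d : κ → ℕ} {a b : JI d} : a = b ↔ a.1 = b.1 ∧ (a.2 : ℕ) = b.2 :=
  ⟨fun h => by subst h; exact ⟨rfl, rfl⟩, fun h => JI.ext' h.1 h.2⟩

theorem card_JI (d : κ → ℕ) : Fintype.card (JI d) = ∑ k, d k := by simp

variable (d : κ → ℕ) (F : Type*) [Field F]

/-- shift matrices -/
def shJ (e : ℕ) : Matrix (JI d) (JI d) F :=
  Matrix.of fun a b => if a.1 = b.1 ∧ (a.2 : ℕ) = b.2 + e then 1 else 0

/-- the nilpotent Jordan matrix -/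
abbrev nilJ : Matrix (JI d) (JI d) F := shJ d F 1

variable {d F}

theorem shJ_apply (e : ℕ) (a b : JI d) :
    shJ d F e a b = if a.1 = b.1 ∧ (a.2 : ℕ) = b.2 + e then 1 else 0 := rfl

theorem shJ_zero : shJ d F 0 = 1 := by
  ext a b
  simp [shJ_apply, one_apply, JI.eq_iff]

theorem shJ_mulVec (e : ℕ) (v : JI d → F) (a : JI d) :
    (shJ d F e *ᵥ v) a = if h : e ≤ a.2 then v ⟨a.1, ⟨a.2 - e, by have := a.2.2; omega⟩⟩ else 0 := by
  simp only [mulVec, dotProduct, shJ_apply]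
  split_ifs with h
  · rw [Finset.sum_eq_single (⟨a.1, ⟨a.2 - e, by have := a.2.2; omega⟩⟩ : JI d)]
    · rw [if_pos ⟨rfl, by simp; omega⟩, one_mul]
    · intro b _ hb
      rw [if_neg, zero_mul]
      rintro ⟨h1, h2⟩
      exact hb (JI.ext' h1.symm (by simp; omega))
    · simp
  · refine Finset.sum_eq_zero fun b _ => ?_
    rw [if_neg, zero_mul]
    rintro ⟨-, h2⟩
    omega

theorem shJ_mul {μ : Type*} (e : ℕ) (g : Matrix (JI d) μ F) (a : JI d) (b : μ) :
    (shJ d F e * g) a b =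
      if h : e ≤ a.2 then g ⟨a.1, ⟨a.2 - e, by have := a.2.2; omega⟩⟩ b else 0 :=
  shJ_mulVec e (fun x => g x b) a

theorem mul_shJ {μ : Type*} (e : ℕ) (g : Matrix μ (JI d) F) (a : μ) (b : JI d) :
    (g * shJ d F e) a b = if h : b.2 + e < d b.1 then g a ⟨b.1, ⟨b.2 + e, h⟩⟩ else 0 := by
  simp only [mul_apply, shJ_apply]
  split_ifs with h
  · rw [Finset.sum_eq_single (⟨b.1, ⟨b.2 + e, h⟩⟩ : JI d)]
    · rw [if_pos ⟨rfl, rfl⟩, mul_one]
    · intro c _ hc
      rw [if_neg, mul_zero]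
      rintro ⟨h1, h2⟩
      exact hc (JI.ext' h1 h2)
    · simp
  · refine Finset.sum_eq_zero fun c _ => ?_
    rw [if_neg, mul_zero]
    rintro ⟨h1, h2⟩
    apply h
    have := c.2.2
    have h3 := congrArg d h1
    omega

theorem shJ_add (e f : ℕ) : shJ d F e * shJ d F f = shJ d F (e + f) := by
  ext a b
  rw [shJ_mul]
  simp only [shJ_apply]
  split_ifs with h1 h2 h3 h3 h2
  · rfl
  · exact absurd ⟨h2.1, by omega⟩ h3
  · exact absurd ⟨h3.1, by omega⟩ h2
  · rfl
  · omega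
  · rfl

theorem nilJ_pow (e : ℕ) : nilJ d F ^ e = shJ d F e := by
  induction e with
  | zero => rw [pow_zero, shJ_zero]
  | succ e ih => rw [pow_succ, ih, shJ_add]

theorem shJ_eq_zero {e : ℕ} (h : ∀ k, d k ≤ e) : shJ d F e = 0 := by
  ext a b
  rw [shJ_apply, if_neg, Matrix.zero_apply]
  rintro ⟨-, h2⟩
  have := a.2.2
  have := h a.1
  omega

theorem nilJ_isNilpotent : IsNilpotent (nilJ d F) :=
  ⟨∑ k, d k, by
    rw [nilJ_pow]
    exact shJ_eq_zero fun k => Finset.single_le_sum (fun _ _ => Nat.zero_le _) (Finset.mem_univ k)⟩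

theorem rank_shJ (e : ℕ) : (shJ d F e).rank = ∑ k, (d k - e) := by
  classical
  let w : JI d → F := fun b => if b.2 + e < d b.1 then 1 else 0
  have h1 : (shJ d F e)ᵀ * shJ d F e = diagonal w := by
    ext a b
    rw [mul_shJ, diagonal_apply]
    simp only [transpose_apply, shJ_apply, w, JI.eq_iff]
    by_cases h : a.1 = b.1 ∧ (a.2 : ℕ) = b.2
    · obtain rfl := JI.ext' h.1 h.2
      simp
    · rw [if_neg h]
      split_ifs with h2 h3
      · exact absurd ⟨h3.1.symm, by omega⟩ h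
      · rfl
      · rfl
  have h2 : shJ d F e * diagonal w = shJ d F e := by
    ext a b
    rw [mul_diagonal, shJ_apply]
    split_ifs with h
    · have := a.2.2
      simp only [w]
      rw [if_pos (by have h3 := congrArg d h.1; omega), one_mul]
    · rw [zero_mul]
  have h3 : (shJ d F e).rank = (diagonal w).rank := by
    apply le_antisymm
    · rw [← h2]; exact rank_mul_le_right _ _
    · rw [← h1]; exact rank_mul_le_right _ _
  rw [h3, rank_diagonal, Fintype.card_subtype, Finset.card_filter, Fintype.sum_sigma]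
  refine Finset.sum_congr rfl fun k _ => ?_
  simp only [w, ne_eq, ite_eq_right_iff, one_ne_zero, imp_false, not_not]
  rw [Fin.sum_univ_eq_sum_range (fun i => if i + e < d k then 1 else 0), ← Finset.card_filter]
  have : (Finset.range (d k)).filter (fun i => i + e < d k) = Finset.range (d k - e) := by
    ext i; simp; omega
  rw [this, Finset.card_range]

theorem jordanTypeMatrix_eq {t : ℕ} (d : Fin t → ℕ) :
    Cfsg.jordanTypeMatrix d F = 1 + nilJ d F := by
  ext ⟨k, i⟩ ⟨l, j⟩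
  simp only [Cfsg.jordanTypeMatrix, Matrix.add_apply, shJ_apply, one_apply, JI.eq_iff]
  by_cases h : k = l
  · subst h
    rw [blockDiagonal'_apply_eq]
    simp only [Cfsg.jordanBlock, of_apply, true_and]
    split_ifs <;> first | omega | simp
  · rw [blockDiagonal'_apply_ne _ _ _ h]
    simp [h]

/-- the generator of the `l`-th block -/
def genJ (d : κ → ℕ) (F : Type*) [Field F] (l : κ) : JI d → F :=
  fun a => if a.1 = l ∧ (a.2 : ℕ) = 0 then 1 else 0

theorem shJ_genJ (b : JI d) : shJ d F b.2 *ᵥ genJ d F b.1 = Pi.single b 1 := by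
  ext a
  rw [shJ_mulVec, Pi.single_apply]
  simp only [genJ, JI.eq_iff]
  split_ifs with h1 h2 h3 h3 h2
  · rfl
  · exact absurd ⟨h2.1, by omega⟩ h3
  · exact absurd ⟨h3.1, by omega⟩ h2
  · rfl
  · omega
  · rfl

theorem shJ_genJ_eq_zero (l : κ) : shJ d F (d l) *ᵥ genJ d F l = 0 := by
  ext a
  rw [shJ_mulVec]
  simp only [genJ]
  have := a.2.2
  split_ifs with h1 h2
  · rw [← h2.1] at h1; omega
  · rfl
  · rfl

theorem genJ_eq_single {l : κ} (h : 0 < d l) :
    genJ d F l = Pi.single (⟨l, ⟨0, h⟩⟩ : JI d) 1 := by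
  ext a
  simp [genJ, Pi.single_apply, JI.eq_iff]

/-- the matrix with columns `M ^ j * v l` -/
def colMat {μ : Type*} [Fintype μ] [DecidableEq μ] (d : κ → ℕ) (M : Matrix μ μ F) (v : κ → μ → F) :
    Matrix μ (JI d) F :=
  Matrix.of fun a b => ((M ^ (b.2 : ℕ)) *ᵥ v b.1) a

theorem colMat_mul_nilJ {μ : Type*} [Fintype μ] [DecidableEq μ] (M : Matrix μ μ F)
    (v : κ → μ → F) (hv : ∀ l, (M ^ d l) *ᵥ v l = 0) :
    colMat d M v * nilJ d F = M * colMat d M v := by
  ext a b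
  rw [mul_shJ]
  have : (M * colMat d M v) a b = ((M ^ ((b.2 : ℕ) + 1)) *ᵥ v b.1) a := by
    rw [pow_succ', ← mulVec_mulVec]; rfl
  rw [this]
  split_ifs with h
  · rfl
  · have := b.2.2
    rw [show (b.2 : ℕ) + 1 = d b.1 by omega, hv]; rfl

theorem colMat_genJ {μ : Type*} [Fintype μ] [DecidableEq μ] (M : Matrix μ μ F)
    (v : κ → μ → F) {l : κ} (h : 0 < d l) : colMat d M v *ᵥ genJ d F l = v l := by
  rw [genJ_eq_single h, mulVec_single_one]
  ext a
  simp [colMat]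

theorem eq_colMat {μ : Type*} [Fintype μ] [DecidableEq μ] {M : Matrix μ μ F}
    {g : Matrix μ (JI d) F} (hg : g * nilJ d F = M * g) :
    g = colMat d M (fun l => g *ᵥ genJ d F l) := by
  have h1 : ∀ e, g * shJ d F e = M ^ e * g := by
    intro e
    induction e with
    | zero => rw [shJ_zero, pow_zero, Matrix.mul_one, Matrix.one_mul]
    | succ e ih =>
      rw [← shJ_add, ← Matrix.mul_assoc, ih, Matrix.mul_assoc, hg, pow_succ, Matrix.mul_assoc]
  ext a b
  simp only [colMat, of_apply]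
  rw [mulVec_mulVec, ← h1, ← mulVec_mulVec, shJ_genJ, mulVec_single_one]
  rfl

/-- the commutant of the nilpotent Jordan matrix -/
abbrev comJ (d : κ → ℕ) (F : Type*) [Field F] : Subalgebra F (Matrix (JI d) (JI d) F) :=
  Subalgebra.centralizer F {nilJ d F}

theorem mem_comJ {g : Matrix (JI d) (JI d) F} : g ∈ comJ d F ↔ nilJ d F * g = g * nilJ d F :=
  mem_centralizer_single

theorem finrank_ker_shJ (e : ℕ) :
    finrank F (LinearMap.ker (toLin' (shJ d F e))) = ∑ k, min (d k) e := by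
  rw [CfsgH7.finrank_ker_toLin', rank_shJ, card_JI]
  have : ∑ k, d k = ∑ k, min (d k) e + ∑ k, (d k - e) := by
    rw [← Finset.sum_add_distrib]
    exact Finset.sum_congr rfl fun k _ => by omega
  omega

theorem card_comJ [Fintype F] (hd : ∀ k, 1 ≤ d k) :
    Nat.card (comJ d F) = Fintype.card F ^ ∑ l, ∑ k, min (d k) (d l) := by
  have : Nat.card (comJ d F) = Nat.card (∀ l, LinearMap.ker (toLin' (shJ d F (d l)))) := by
    refine Nat.card_congr
      { toFun := fun g l => ⟨g.1 *ᵥ genJ d F l, ?_⟩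
        invFun := fun v => ⟨colMat d (nilJ d F) (fun l => (v l).1), ?_⟩
        left_inv := fun g => Subtype.ext (eq_colMat (mem_comJ.1 g.2).symm).symm
        right_inv := fun v => funext fun l => Subtype.ext
          (colMat_genJ (nilJ d F) (fun l => (v l).1) (hd l)) }
    · rw [LinearMap.mem_ker, toLin'_apply, mulVec_mulVec, ← nilJ_pow,
        (Commute.pow_left (mem_comJ.1 g.2) _).eq, ← mulVec_mulVec, nilJ_pow, shJ_genJ_eq_zero,
        mulVec_zero]
    · rw [mem_comJ]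
      refine (colMat_mul_nilJ _ _ fun l => ?_).symm
      rw [nilJ_pow]
      exact (v l).2
  rw [this, Nat.card_pi, ← Finset.prod_pow_eq_pow_sum]
  refine Finset.prod_congr rfl fun l _ => ?_
  rw [Module.natCard_eq_pow_finrank (K := F), finrank_ker_shJ, Nat.card_eq_fintype_card]

section Toeplitz
variable {g : Matrix (JI d) (JI d) F}

theorem comJ_rule (hg : g ∈ comJ d F) (a b : JI d) :
    (if h : 1 ≤ (a.2 : ℕ) then g ⟨a.1, ⟨a.2 - 1, by have := a.2.2; omega⟩⟩ b else 0) =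
      if h : b.2 + 1 < d b.1 then g a ⟨b.1, ⟨b.2 + 1, h⟩⟩ else 0 := by
  rw [← shJ_mul, ← mul_shJ, mem_comJ.1 hg]

theorem comJ_succ (hg : g ∈ comJ d F) {k l : κ} {i j : ℕ} (hi : i + 1 < d k) (hj : j + 1 < d l) :
    g ⟨k, ⟨i + 1, hi⟩⟩ ⟨l, ⟨j + 1, hj⟩⟩ = g ⟨k, ⟨i, by omega⟩⟩ ⟨l, ⟨j, by omega⟩⟩ := by
  have := comJ_rule hg ⟨k, ⟨i + 1, hi⟩⟩ ⟨l, ⟨j, by omega⟩⟩
  rw [dif_pos (by simp), dif_pos hj] at this
  exact this.symm

theorem comJ_lt (hg : g ∈ comJ d F) {k l : κ} {i j : ℕ} (hi : i < d k) (hj : j < d l)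
    (h : i < j) : g ⟨k, ⟨i, hi⟩⟩ ⟨l, ⟨j, hj⟩⟩ = 0 := by
  induction i generalizing j with
  | zero =>
    obtain ⟨j, rfl⟩ : ∃ j', j = j' + 1 := ⟨j - 1, by omega⟩
    have := comJ_rule hg ⟨k, ⟨0, hi⟩⟩ ⟨l, ⟨j, by omega⟩⟩
    rw [dif_neg (by simp), dif_pos hj] at this
    exact this.symm
  | succ i ih =>
    obtain ⟨j, rfl⟩ : ∃ j', j = j' + 1 := ⟨j - 1, by omega⟩
    rw [comJ_succ hg]
    exact ih _ _ (by omega)

theorem comJ_lt' (hg : g ∈ comJ d F) {k l : κ} {i j : ℕ} (hi : i < d k) (hj : j < d l)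
    (h : i + d l < j + d k) : g ⟨k, ⟨i, hi⟩⟩ ⟨l, ⟨j, hj⟩⟩ = 0 := by
  induction hn : d l - j generalizing i j with
  | zero => omega
  | succ n ih =>
    have := comJ_rule hg ⟨k, ⟨i + 1, by omega⟩⟩ ⟨l, ⟨j, hj⟩⟩
    rw [dif_pos (by simp)] at this
    refine Eq.trans ?_ (this.trans ?_)
    · rfl
    · split_ifs with h2
      · exact ih _ _ (by dsimp only; omega) (by dsimp only; omega)
      · rfl

theorem comJ_diag (hg : g ∈ comJ d F) {k l : κ} {i : ℕ} (hi : i < d k) (hj : i < d l) :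
    g ⟨k, ⟨i, hi⟩⟩ ⟨l, ⟨i, hj⟩⟩ = g ⟨k, ⟨0, by omega⟩⟩ ⟨l, ⟨0, by omega⟩⟩ := by
  induction i with
  | zero => rfl
  | succ i ih => rw [comJ_succ hg, ih]

end Toeplitz

theorem isNilpotent_of_weight {ι R : Type*} [Fintype ι] [DecidableEq ι] [Ring R]
    (w : ι → ℤ) {x : Matrix ι ι R} (hx : ∀ a b, w a ≤ w b → x a b = 0) : IsNilpotent x := by
  have h1 : ∀ (n : ℕ) a b, w a < w b + n → (x ^ n) a b = 0 := by
    intro n
    induction n with
    | zero =>
      intro a b h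
      rw [pow_zero, one_apply_ne]
      rintro rfl
      simp at h
    | succ n ih =>
      intro a b h
      rw [pow_succ, mul_apply]
      refine Finset.sum_eq_zero fun c _ => ?_
      by_cases hc : w c ≤ w b
      · rw [hx c b hc, mul_zero]
      · rw [ih a c (by push_cast at h; omega), zero_mul]
  refine ⟨2 * ∑ a, (w a).natAbs + 1, ?_⟩
  ext a b
  apply h1
  have ha : (w a).natAbs ≤ ∑ a, (w a).natAbs :=
    Finset.single_le_sum (f := fun a => (w a).natAbs) (fun _ _ => Nat.zero_le _) (Finset.mem_univ a)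
  have hb : (w b).natAbs ≤ ∑ a, (w a).natAbs :=
    Finset.single_le_sum (f := fun a => (w a).natAbs) (fun _ _ => Nat.zero_le _) (Finset.mem_univ b)
  omega

end CfsgH1
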