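import Cfsg.Agent.H1.Jordan

set_option autoImplicit false
set_option maxHeartbeats 400000
set_option linter.unusedSectionVars false

namespace CfsgH1

open Matrix Module

section Card

theorem card_preimage_addHom {A B : Type*} [AddGroup A] [AddGroup B] (f : A →+ B)
    (hf : Function.Surjective f) (P : B → Prop) :
    Nat.card {x // P (f x)} = Nat.card {y // P y} * Nat.card f.ker := by
  choose s hs using hf
  rw [← Nat.card_prod]
  refine Nat.card_congr
    { toFun := fun x => (⟨f x.1, x.2⟩, ⟨-s (f x.1) + x.1, by simp [AddMonoidHom.mem_ker, hs]⟩)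
      invFun := fun y => ⟨s y.1.1 + y.2.1, by
        rw [map_add, hs, (AddMonoidHom.mem_ker).1 y.2.2, add_zero]; exact y.1.2⟩
      left_inv := fun x => Subtype.ext (by simp)
      right_inv := fun y => ?_ }
  have : f (s y.1.1 + y.2.1) = y.1.1 := by
    rw [map_add, hs, (AddMonoidHom.mem_ker).1 y.2.2, add_zero]
  refine Prod.ext (Subtype.ext this) (Subtype.ext ?_)
  simp only [this]
  simp

theorem card_eq_mul_ker_addHom {A B : Type*} [AddGroup A] [AddGroup B] (f : A →+ B)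
    (hf : Function.Surjective f) : Nat.card A = Nat.card B * Nat.card f.ker := by
  have := card_preimage_addHom f hf (fun _ => True)
  rwa [Nat.card_congr (Equiv.subtypeUnivEquiv fun _ => trivial),
    Nat.card_congr (Equiv.subtypeUnivEquiv fun _ => trivial)] at this

theorem card_isUnit (R : Type*) [Monoid R] : Nat.card {x : R // IsUnit x} = Nat.card Rˣ := by
  symm
  refine Nat.card_eq_of_bijective (fun u => ⟨u, u.isUnit⟩) ⟨fun a b h => ?_, ?_⟩
  · exact Units.ext (congrArg Subtype.val h)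
  · rintro ⟨_, u, rfl⟩
    exact ⟨u, rfl⟩

theorem isUnit_of_map_of_nilpotent {R S : Type*} [Ring R] [Ring S] (f : R →+* S)
    (hf : Function.Surjective f) (hk : ∀ x, f x = 0 → IsNilpotent x) {x : R}
    (hx : IsUnit (f x)) : IsUnit x := by
  obtain ⟨u, hu⟩ := hx
  obtain ⟨y, hy⟩ := hf ↑u⁻¹
  have h1 : IsUnit (x * y) := by
    have := (hk (x * y - 1) (by rw [map_sub, map_mul, ← hu, hy]; simp)).isUnit_add_one
    simpa using this
  have h2 : IsUnit (y * x) := by
    have := (hk (y * x - 1) (by rw [map_sub, map_mul, ← hu, hy]; simp)).isUnit_add_one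
    simpa using this
  obtain ⟨a, ha⟩ := h1.exists_right_inv
  obtain ⟨b, hb⟩ := h2.exists_left_inv
  rw [mul_assoc] at ha
  rw [← mul_assoc] at hb
  exact ⟨⟨x, y * a, ha, by rw [← left_inv_eq_right_inv hb ha]; exact hb⟩, rfl⟩

end Card

variable {κ : Type*} [Fintype κ] [DecidableEq κ] {d : κ → ℕ} {F : Type*} [Field F]

/-- blocks of a given size -/
abbrev Fb (d : κ → ℕ) (i : ℕ) : Type _ := {k // d k = i}

/-- top index of a block -/
def topJ (hd : ∀ k, 1 ≤ d k) (k : κ) : JI d := ⟨k, ⟨0, hd k⟩⟩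

/-- the Levi component -/
def piM (hd : ∀ k, 1 ≤ d k) (g : Matrix (JI d) (JI d) F) (i : ℕ) : Matrix (Fb d i) (Fb d i) F :=
  Matrix.of fun a b => g (topJ hd a.1) (topJ hd b.1)

theorem piM_apply (hd : ∀ k, 1 ≤ d k) (g : Matrix (JI d) (JI d) F) (i : ℕ) (a b : Fb d i) :
    piM hd g i a b = g (topJ hd a.1) (topJ hd b.1) := rfl

theorem piM_mul (hd : ∀ k, 1 ≤ d k) {g h : Matrix (JI d) (JI d) F} (hg : g ∈ comJ d F)
    (hh : h ∈ comJ d F) (i : ℕ) : piM hd (g * h) i = piM hd g i * piM hd h i := by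
  ext a b
  rw [piM_apply, mul_apply, mul_apply]
  symm
  refine Fintype.sum_of_injective (fun c : Fb d i => topJ hd c.1) ?_ _ _ ?_ (fun c => rfl)
  · intro x y hxy
    exact Subtype.ext (congrArg Sigma.fst hxy)
  · rintro ⟨m, j, hj⟩ hc
    rcases Nat.eq_zero_or_pos j with rfl | h0
    · have hm : d m ≠ i := fun h => hc ⟨⟨m, h⟩, rfl⟩
      rcases lt_or_gt_of_ne hm with h1 | h1
      · rw [show g (topJ hd a.1) ⟨m, 0, hj⟩ = 0 from comJ_lt' hg _ _ (by have := a.2; omega),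
          zero_mul]
      · rw [show h ⟨m, 0, hj⟩ (topJ hd b.1) = 0 from comJ_lt' hh _ _ (by have := b.2; omega),
          mul_zero]
    · rw [show g (topJ hd a.1) ⟨m, j, hj⟩ = 0 from comJ_lt hg _ _ h0, zero_mul]

theorem piM_one (hd : ∀ k, 1 ≤ d k) (i : ℕ) : piM hd (1 : Matrix (JI d) (JI d) F) i = 1 := by
  ext a b
  simp only [piM_apply, one_apply, JI.eq_iff, Subtype.ext_iff]
  simp [topJ]

/-- the Levi factor -/
abbrev LevJ (d : κ → ℕ) (I : Finset ℕ) (F : Type*) : Type _ :=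
  ∀ i : I, Matrix (Fb d i) (Fb d i) F

/-- the projection to the Levi factor -/
def piJ (hd : ∀ k, 1 ≤ d k) (I : Finset ℕ) : comJ d F →+* LevJ d I F where
  toFun g i := piM hd g.1 i
  map_one' := funext fun i => piM_one hd i
  map_mul' g h := funext fun i => piM_mul hd g.2 h.2 i
  map_zero' := rfl
  map_add' _ _ := rfl

theorem piJ_apply (hd : ∀ k, 1 ≤ d k) (I : Finset ℕ) (g : comJ d F) (i : I) :
    piJ hd I g i = piM hd g.1 i := rfl

/-- section of the Levi projection -/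
def secM (d : κ → ℕ) (Y : Matrix κ κ F) : Matrix (JI d) (JI d) F :=
  Matrix.of fun a b => if d a.1 = d b.1 ∧ (a.2 : ℕ) = b.2 then Y a.1 b.1 else 0

theorem secM_mem (Y : Matrix κ κ F) : secM d Y ∈ comJ d F := by
  rw [mem_comJ]
  ext a b
  rw [shJ_mul, mul_shJ]
  have := a.2.2
  have := b.2.2
  simp only [secM, of_apply]
  split_ifs <;> first | rfl | omega

theorem piM_secM (hd : ∀ k, 1 ≤ d k) (Y : Matrix κ κ F) (i : ℕ) (a b : Fb d i) :
    piM hd (secM d Y) i a b = Y a.1 b.1 := by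
  simp [piM_apply, secM, topJ, a.2, b.2]

theorem exists_glue {I : Finset ℕ} (hI : ∀ k, d k ∈ I) (X : LevJ d I F) :
    ∃ Y : Matrix κ κ F, ∀ (i : I) (a b : Fb d i), Y a.1 b.1 = X i a b := by
  refine ⟨Matrix.of fun k l => if h : d l = d k then X ⟨d k, hI k⟩ ⟨k, rfl⟩ ⟨l, h⟩ else 0, ?_⟩
  rintro ⟨i, hi⟩ ⟨k, hk⟩ ⟨l, hl⟩
  dsimp only at hk hl
  subst hk
  simp [hl]

theorem piJ_surjective (hd : ∀ k, 1 ≤ d k) {I : Finset ℕ} (hI : ∀ k, d k ∈ I) :
    Function.Surjective (piJ (F := F) hd I) := by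
  intro X
  obtain ⟨Y, hY⟩ := exists_glue hI X
  refine ⟨⟨secM d Y, secM_mem Y⟩, funext fun i => ?_⟩
  ext a b
  rw [piJ_apply, piM_secM, hY]

theorem isNilpotent_of_piM (hd : ∀ k, 1 ≤ d k) {g : Matrix (JI d) (JI d) F} (hg : g ∈ comJ d F)
    (h : ∀ k l, d k = d l → g (topJ hd k) (topJ hd l) = 0) : IsNilpotent g := by
  apply isNilpotent_of_weight (fun a : JI d => 2 * ((a.2 : ℕ) : ℤ) - d a.1)
  rintro ⟨k, i, hi⟩ ⟨l, j, hj⟩ hw
  dsimp only at hw
  by_cases h1 : i < j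
  · exact comJ_lt hg _ _ h1
  by_cases h2 : i + d l < j + d k
  · exact comJ_lt' hg _ _ h2
  obtain rfl : i = j := by omega
  rw [comJ_diag hg]
  exact h k l (by omega)

theorem isNilpotent_of_piJ (hd : ∀ k, 1 ≤ d k) {I : Finset ℕ} (hI : ∀ k, d k ∈ I)
    (g : comJ d F) (h : piJ hd I g = 0) : IsNilpotent g := by
  obtain ⟨n, hn⟩ := isNilpotent_of_piM hd g.2 (fun k l hkl =>
    congrFun (congrFun (congrFun h ⟨d k, hI k⟩) ⟨k, rfl⟩) ⟨l, hkl.symm⟩)
  exact ⟨n, Subtype.ext hn⟩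

theorem isUnit_comJ_iff {g : comJ d F} : IsUnit g ↔ IsUnit g.1 := by
  refine ⟨fun h => h.map (comJ d F).val, fun h => ?_⟩
  obtain ⟨u, hu⟩ := h
  have : (↑u⁻¹ : Matrix (JI d) (JI d) F) ∈ comJ d F := by
    rw [mem_comJ]
    have h1 := mem_comJ.1 g.2
    rw [← hu] at h1
    exact (Commute.units_inv_right h1).eq
  exact ⟨⟨g, ⟨_, this⟩, Subtype.ext (by change g.1 * _ = 1; rw [← hu]; simp),
    Subtype.ext (by change _ * g.1 = 1; rw [← hu]; simp)⟩, rfl⟩

theorem isUnit_iff_piJ (hd : ∀ k, 1 ≤ d k) {I : Finset ℕ} (hI : ∀ k, d k ∈ I) (g : comJ d F) :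
    IsUnit g ↔ IsUnit (piJ hd I g) :=
  ⟨fun h => h.map (piJ hd I), fun h => isUnit_of_map_of_nilpotent (R := comJ d F)
    (S := LevJ d I F) (piJ hd I) (piJ_surjective hd hI) (isNilpotent_of_piJ hd hI) h⟩

theorem isUnit_iff_piM (hd : ∀ k, 1 ≤ d k) {g : Matrix (JI d) (JI d) F} (hg : g ∈ comJ d F) :
    IsUnit g ↔ ∀ i, IsUnit (piM hd g i) := by
  constructor
  · intro h i
    have := (isUnit_comJ_iff (g := ⟨g, hg⟩)).2 h
    exact Pi.isUnit_iff.1 (this.map (piJ hd {i})) ⟨i, Finset.mem_singleton_self i⟩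
  · intro h
    rw [← isUnit_comJ_iff (g := ⟨g, hg⟩), isUnit_iff_piJ hd (I := Finset.univ.image d)
      (fun k => Finset.mem_image_of_mem _ (Finset.mem_univ k)), Pi.isUnit_iff]
    exact fun i => h i

/-- multiplicity of a block size -/
abbrev mulJ (d : κ → ℕ) (i : ℕ) : ℕ := (Finset.univ.filter (fun k => d k = i)).card

theorem card_Fb (i : ℕ) : Fintype.card (Fb d i) = mulJ d i := Fintype.card_subtype _

/-- the exponent `γ` -/
def gamJ (d : κ → ℕ) (I : Finset ℕ) : ℕ :=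
  2 * (∑ i ∈ I, ∑ j ∈ I, if i < j then i * mulJ d i * mulJ d j else 0) +
    ∑ i ∈ I, (i - 1) * mulJ d i ^ 2

theorem sum_eq_sum_mulJ {I : Finset ℕ} (hI : ∀ k, d k ∈ I) (f : ℕ → ℕ) :
    ∑ k, f (d k) = ∑ i ∈ I, mulJ d i * f i := by
  rw [← Finset.sum_fiberwise_of_maps_to (s := Finset.univ) (t := I) (g := d) (fun k _ => hI k)]
  refine Finset.sum_congr rfl fun i _ => ?_
  rw [Finset.sum_congr rfl (g := fun _ => f i) (fun k hk => by rw [(Finset.mem_filter.1 hk).2])]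
  simp

theorem sum_min_eq (hd : ∀ k, 1 ≤ d k) {I : Finset ℕ} (hI : ∀ k, d k ∈ I) :
    ∑ l, ∑ k, min (d k) (d l) = ∑ i ∈ I, mulJ d i ^ 2 + gamJ d I := by
  have h0 : mulJ d 0 = 0 := by
    rw [Finset.card_eq_zero, Finset.filter_eq_empty_iff]
    intro k _
    have := hd k
    omega
  rw [sum_eq_sum_mulJ hI (fun j => ∑ k, min (d k) j)]
  simp_rw [fun j => sum_eq_sum_mulJ hI (fun i => min i j), Finset.mul_sum]
  have h1 : ∀ i j : ℕ, mulJ d j * (mulJ d i * min i j) =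
      (if i < j then i * mulJ d i * mulJ d j else 0) + (if j < i then j * mulJ d j * mulJ d i else 0)
        + if i = j then i * mulJ d i ^ 2 else 0 := by
    intro i j
    rcases lt_trichotomy i j with h | rfl | h
    · rw [if_pos h, if_neg h.not_gt, if_neg h.ne, min_eq_left h.le]; ring
    · simp; ring
    · rw [if_neg h.not_gt, if_pos h, if_neg h.ne', min_eq_right h.le]; ring
  simp_rw [h1, Finset.sum_add_distrib]
  rw [Finset.sum_comm, gamJ, two_mul, add_comm (∑ i ∈ I, mulJ d i ^ 2), add_assoc _ _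
    (∑ i ∈ I, mulJ d i ^ 2)]
  congr 1
  rw [← Finset.sum_add_distrib]
  refine Finset.sum_congr rfl fun j hj => ?_
  rw [Finset.sum_ite_eq', if_pos hj]
  rcases Nat.eq_zero_or_pos j with rfl | h
  · simp [h0]
  · obtain ⟨j, rfl⟩ : ∃ j', j = j' + 1 := ⟨j - 1, by omega⟩
    simp; ring

theorem card_LevJ [Fintype F] (I : Finset ℕ) :
    Nat.card (LevJ d I F) = Fintype.card F ^ ∑ i ∈ I, mulJ d i ^ 2 := by
  rw [Nat.card_pi, ← Finset.prod_pow_eq_pow_sum, ← Finset.prod_coe_sort I]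
  refine Finset.prod_congr rfl fun i _ => ?_
  rw [Nat.card_eq_fintype_card]
  change Fintype.card (Fb d i → Fb d i → F) = _
  rw [Fintype.card_fun, Fintype.card_fun, card_Fb, ← pow_mul, sq]

theorem card_ker_piJ [Fintype F] (hd : ∀ k, 1 ≤ d k) {I : Finset ℕ} (hI : ∀ k, d k ∈ I) :
    Nat.card (piJ (F := F) hd I).toAddMonoidHom.ker = Fintype.card F ^ gamJ d I := by
  have := card_eq_mul_ker_addHom (piJ (F := F) hd I).toAddMonoidHom (piJ_surjective hd hI)
  rw [card_comJ hd, sum_min_eq hd hI, card_LevJ, pow_add] at this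
  exact (Nat.eq_of_mul_eq_mul_left (pow_pos Fintype.card_pos _) this).symm

theorem card_GL_eq {ι : Type*} [Fintype ι] [DecidableEq ι] [Fintype F] :
    Nat.card (GL ι F) = ∏ j : Fin (Fintype.card ι),
      (Fintype.card F ^ Fintype.card ι - Fintype.card F ^ (j : ℕ)) := by
  rw [← Matrix.card_GL_field]
  exact Nat.card_congr (Units.mapEquiv
    (Matrix.reindexAlgEquiv F F (Fintype.equivFin ι)).toMulEquiv).toEquiv

theorem card_isUnit_comJ [Fintype F] (hd : ∀ k, 1 ≤ d k) {I : Finset ℕ} (hI : ∀ k, d k ∈ I) :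
    Nat.card {g : comJ d F // IsUnit g} =
      Fintype.card F ^ gamJ d I * ∏ i ∈ I, Nat.card (GL (Fb d i) F) := by
  have := card_preimage_addHom (piJ (F := F) hd I).toAddMonoidHom (piJ_surjective hd hI) IsUnit
  rw [card_ker_piJ hd hI, card_isUnit, Nat.card_congr MulEquiv.piUnits.toEquiv, Nat.card_pi,
    Finset.prod_coe_sort I (fun i => Nat.card (Matrix (Fb d i) (Fb d i) F)ˣ), mul_comm] at this
  rw [← this]
  exact Nat.card_congr (Equiv.subtypeEquivRight fun g => isUnit_iff_piJ hd hI g)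

theorem card_cent_GL {ι : Type*} [Fintype ι] [DecidableEq ι] (u : Matrix ι ι F) :
    Nat.card {g : GL ι F // (g : Matrix ι ι F) * u = u * g} =
      Nat.card {g : Subalgebra.centralizer F {u} // IsUnit g.1} := by
  refine Nat.card_eq_of_bijective
    (fun g => ⟨⟨g.1.1, mem_centralizer_single.2 g.2.symm⟩, g.1.isUnit⟩) ⟨fun a b h => ?_, ?_⟩
  · exact Subtype.ext (Units.ext (congrArg (fun x => x.1.1) h))
  · rintro ⟨⟨x, hg⟩, g, hx⟩
    obtain rfl : g = x := hx
    exact ⟨⟨g, (mem_centralizer_single.1 hg).symm⟩, rfl⟩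

theorem card_cent_unip [Fintype F] (hd : ∀ k, 1 ≤ d k) {I : Finset ℕ} (hI : ∀ k, d k ∈ I) :
    Nat.card {g : GL (JI d) F // (g : Matrix (JI d) (JI d) F) * (1 + nilJ d F) =
      (1 + nilJ d F) * g} = Fintype.card F ^ gamJ d I * ∏ i ∈ I, Nat.card (GL (Fb d i) F) := by
  rw [← card_isUnit_comJ hd hI, Nat.card_congr (Equiv.subtypeEquivRight (fun g =>
    (isUnit_comJ_iff (g := g)))), ← card_cent_GL]
  refine Nat.card_congr (Equiv.subtypeEquivRight fun g => ?_)
  rw [mul_add, add_mul, mul_one, one_mul, add_right_inj]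

end CfsgH1
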