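import Cfsg.Agent.H1.JType
import Cfsg.Agent.H7.Symp

set_option autoImplicit false
set_option maxHeartbeats 400000
set_option linter.unusedSectionVars false

namespace CfsgH1

open Matrix Module CfsgH7

section Count

theorem card_eq_mul_of_fibers {A B : Type*} (f : A → B) {c : ℕ}
    (h : ∀ b, Nat.card {a // f a = b} = c) [Finite A] [Finite B] :
    Nat.card A = Nat.card B * c := by
  haveI := Fintype.ofFinite B
  rw [← Nat.card_congr (Equiv.sigmaFiberEquiv f), Nat.card_sigma]
  simp [h]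

theorem card_subgroup_eq_orbit {G X : Type*} [Group G] (a : G → X → X)
    (h1 : ∀ x, a 1 x = x) (hm : ∀ g h x, a (g * h) x = a g (a h x)) (x : X) (H : Subgroup G)
    (hH : ∀ g, a g x = x → g ∈ H) (Y : X → Prop) (hY : ∀ y, Y y ↔ ∃ h ∈ H, a h x = y) :
    Nat.card H = Nat.card {y // Y y} * Nat.card {g // a g x = x} := by
  letI : MulAction G X := { smul := a, one_smul := h1, mul_smul := hm }
  rw [← Nat.card_congr (MulAction.orbitProdStabilizerEquivGroup H x), Nat.card_prod]
  congr 1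
  · refine Nat.card_congr (Equiv.subtypeEquivRight fun y => ?_)
    rw [hY]
    exact ⟨fun ⟨h, e⟩ => ⟨h.1, h.2, e⟩, fun ⟨h, hh, e⟩ => ⟨⟨h, hh⟩, e⟩⟩
  · exact Nat.card_congr ⟨fun g => ⟨g.1.1, g.2⟩, fun g => ⟨⟨g.1, hH _ g.2⟩, g.2⟩,
      fun _ => rfl, fun _ => rfl⟩

theorem card_group_eq_orbit {G X : Type*} [Group G] (a : G → X → X)
    (h1 : ∀ x, a 1 x = x) (hm : ∀ g h x, a (g * h) x = a g (a h x)) (x : X)
    (Y : X → Prop) (hY : ∀ y, Y y ↔ ∃ h, a h x = y) :
    Nat.card G = Nat.card {y // Y y} * Nat.card {g // a g x = x} := by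
  rw [← card_subgroup_eq_orbit a h1 hm x ⊤ (fun _ _ => trivial) Y (by simpa using hY)]
  simp

theorem card_cons_family {X : Type*} [Finite X] {k : ℕ} (P : (Fin k → X) → Prop)
    (P' : (Fin (k + 1) → X) → Prop) (R : (Fin k → X) → X → Prop)
    (h : ∀ x f, P' (Fin.cons x f) ↔ P f ∧ R f x) {c : ℕ}
    (hc : ∀ f, P f → Nat.card {x // R f x} = c) :
    Nat.card {f // P' f} = Nat.card {f // P f} * c := by
  refine card_eq_mul_of_fibers (fun f => ⟨Fin.tail f.1, ((h (f.1 0) _).1 (by
    rw [Fin.cons_self_tail]; exact f.2)).1⟩) fun g => ?_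
  rw [← hc g.1 g.2]
  refine Nat.card_congr ⟨fun f => ⟨f.1.1 0, ?_⟩,
    fun x => ⟨⟨Fin.cons x.1 g.1, (h _ _).2 ⟨g.2, x.2⟩⟩, rfl⟩, fun f => ?_, fun x => rfl⟩
  · have := ((h (f.1.1 0) _).1 (by rw [Fin.cons_self_tail]; exact f.1.2)).2
    rwa [show Fin.tail f.1.1 = g.1 from congrArg Subtype.val f.2] at this
  · refine Subtype.ext (Subtype.ext ?_)
    change Fin.cons (f.1.1 0) g.1 = f.1.1
    rw [← show Fin.tail f.1.1 = g.1 from congrArg Subtype.val f.2, Fin.cons_self_tail]

theorem card_fiber_functional {F V : Type*} [Field F] [Finite F] [AddCommGroup V] [Module F V]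
    (φ : V →ₗ[F] F) (h : ∃ y, φ y = 1) (c : F) :
    Nat.card F * Nat.card {y // φ y = c} = Nat.card V := by
  obtain ⟨y, hy⟩ := h
  have hs : Function.Surjective φ.toAddMonoidHom := fun c => ⟨c • y, by simp [hy]⟩
  rw [card_eq_mul_ker_addHom _ hs]
  have := card_preimage_addHom _ hs (fun x => x = c)
  rw [Nat.card_unique (α := {y // y = c}), one_mul] at this
  rw [← this]
  rfl

end Count

section Abstract
variable {F V : Type*} [Field F] [AddCommGroup V] [Module F V] [FiniteDimensional F V]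
  {B : LinearMap.BilinForm F V}

theorem alt_nondegenerate (halt : B.IsAlt) (hnd : ∀ x, (∀ y, B x y = 0) → x = 0) :
    B.Nondegenerate :=
  ⟨hnd, fun x hx => hnd x fun y => by rw [← halt.neg_eq, hx, neg_zero]⟩

theorem alt_witt_step (halt : B.IsAlt) (H : Submodule F V) {x y : V}
    (hp : ∀ h ∈ H, B h x = B h y) (hxy : B x y ≠ 0) :
    ∃ g : V →ₗ[F] V, (∀ u v, B (g u) (g v) = B u v) ∧ (∀ h ∈ H, g h = h) ∧ g x = y := by
  refine ⟨LinearMap.id + (B x y)⁻¹ • (B.flip (x - y)).smulRight (x - y), fun u v => ?_,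
    fun h hh => ?_, ?_⟩
  · have := halt.self_eq_zero (x - y)
    generalize x - y = w at this
    simp [this, ← halt.neg_eq w u, ← halt.neg_eq w v]
    ring
  · simp [hp h hh]
  · simp [halt.self_eq_zero, smul_smul, hxy]

theorem alt_witt_aux (halt : B.IsAlt) (hnd : ∀ x, (∀ y, B x y = 0) → x = 0) (H : Submodule F V)
    {x y : V} (hx : x ∉ H) (hy : y ∉ H) (hp : ∀ h ∈ H, B h x = B h y) :
    ∃ g : V →ₗ[F] V, (∀ u v, B (g u) (g v) = B u v) ∧ (∀ h ∈ H, g h = h) ∧ g x = y := by
  by_cases hxy : B x y ≠ 0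
  · exact alt_witt_step halt H hp hxy
  push Not at hxy
  have key : ∀ x, x ∉ H → ∃ u, (∀ h ∈ H, B h u = 0) ∧ B x u ≠ 0 := by
    intro x hx
    rw [← LinearMap.BilinForm.orthogonal_orthogonal (alt_nondegenerate halt hnd) halt.isRefl H,
      LinearMap.BilinForm.mem_orthogonal_iff] at hx
    push Not at hx
    obtain ⟨u, hu, hux⟩ := hx
    exact ⟨u, hu, fun h => hux (halt.isRefl _ _ h)⟩
  obtain ⟨u, hu, hux, huy⟩ : ∃ u, (∀ h ∈ H, B h u = 0) ∧ B x u ≠ 0 ∧ B y u ≠ 0 := by
    obtain ⟨u, hu, hux⟩ := key x hx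
    obtain ⟨v, hv, hvy⟩ := key y hy
    by_cases h1 : B y u = 0
    · by_cases h2 : B x v = 0
      · exact ⟨u + v, fun h hh => by simp [hu h hh, hv h hh], by simp [h2, hux], by simp [h1, hvy]⟩
      · exact ⟨v, hv, h2, hvy⟩
    · exact ⟨u, hu, hux, h1⟩
  obtain ⟨g, hg, hgH, hgx⟩ := alt_witt_step halt H (x := x) (y := x + u)
    (fun h hh => by simp [hu h hh]) (by simp [halt.self_eq_zero, hux])
  obtain ⟨g', hg', hgH', hgx'⟩ := alt_witt_step halt H (x := x + u) (y := y)
    (fun h hh => by simp [hu h hh, hp h hh]) (by simp [hxy, ← halt.neg_eq y u, huy])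
  exact ⟨g' ∘ₗ g, fun u v => by simp [hg, hg'], fun h hh => by simp [hgH h hh, hgH' h hh],
    by simp [hgx, ← hgx']⟩

theorem isom_injective (hnd : ∀ x, (∀ y, B x y = 0) → x = 0) {W : Type*} [AddCommGroup W]
    [Module F W] {B' : LinearMap.BilinForm F W} {g : V →ₗ[F] W}
    (hg : ∀ u v, B' (g u) (g v) = B u v) : Function.Injective g := by
  rw [injective_iff_map_eq_zero]
  intro x hx
  exact hnd x fun y => by rw [← hg, hx]; simp

/-- Witt's theorem for alternating forms -/
theorem alt_witt (halt : B.IsAlt) (hnd : ∀ x, (∀ y, B x y = 0) → x = 0) {W : Type*}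
    [AddCommGroup W] [Module F W] (f₁ f₂ : W →ₗ[F] V) (h₁ : Function.Injective f₁)
    (h₂ : Function.Injective f₂) (hp : ∀ w w', B (f₁ w) (f₁ w') = B (f₂ w) (f₂ w')) :
    ∃ g : V →ₗ[F] V, (∀ u v, B (g u) (g v) = B u v) ∧ ∀ w, g (f₁ w) = f₂ w := by
  classical
  have : FiniteDimensional F W := FiniteDimensional.of_injective f₁ h₁
  have key : ∀ s : Finset W, ∃ g : V →ₗ[F] V, (∀ u v, B (g u) (g v) = B u v) ∧
      ∀ w ∈ Submodule.span F (s : Set W), g (f₁ w) = f₂ w := by
    intro s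
    induction s using Finset.induction_on with
    | empty => exact ⟨LinearMap.id, fun _ _ => rfl, by simp⟩
    | insert a s _ ih =>
      obtain ⟨g, hgB, hg⟩ := ih
      by_cases ha : a ∈ Submodule.span F (s : Set W)
      · refine ⟨g, hgB, fun w hw => hg w ?_⟩
        rwa [Finset.coe_insert, Submodule.span_insert_eq_span ha] at hw
      · obtain ⟨g', hg'0, hg'1, hg'2⟩ := alt_witt_aux halt hnd
          ((Submodule.span F (s : Set W)).map f₂) (x := g (f₁ a)) (y := f₂ a) (by
            rintro ⟨z, hz, hze⟩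
            rw [← hg z hz] at hze
            exact ha (h₁ (isom_injective hnd hgB hze) ▸ hz)) (by
            rintro ⟨z, hz, hze⟩
            exact ha (h₂ hze ▸ hz)) (by
            rintro _ ⟨z, hz, rfl⟩
            rw [← hp, ← hg z hz, hgB])
        refine ⟨g' ∘ₗ g, fun u v => by simp [hgB, hg'0], fun w hw => ?_⟩
        rw [Finset.coe_insert, Submodule.mem_span_insert] at hw
        obtain ⟨c, z, hz, rfl⟩ := hw
        simp only [LinearMap.comp_apply, map_add, map_smul, hg'2, hg z hz,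
          hg'1 _ (Submodule.mem_map_of_mem hz)]
  obtain ⟨s, hs⟩ := Module.Finite.fg_top (R := F) (M := W)
  obtain ⟨g, hgB, hg⟩ := key s
  exact ⟨g, hgB, fun w => hg w (hs ▸ Submodule.mem_top)⟩

theorem sympForm_eq {m : ℕ} (x y : Fin m ⊕ Fin m → F) : Cfsg.sympForm m F x y =
    ∑ i, (x (.inr i) * y (.inl i) - x (.inl i) * y (.inr i)) := by
  simp only [Cfsg.sympForm, J, fromBlocks_mulVec, dotProduct, Fintype.sum_sum_type,
    ← Finset.sum_add_distrib]
  refine Finset.sum_congr rfl fun i _ => ?_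
  simp [neg_mulVec]
  ring

theorem toBilin'_J {m : ℕ} (x y : Fin m ⊕ Fin m → F) :
    Matrix.toBilin' (J (Fin m) F) x y = Cfsg.sympForm m F x y := Matrix.toBilin'_apply' _ _ _

theorem SympFam.exists_map (halt : B.IsAlt) {m : ℕ} {u v : Fin m → V} (h : SympFam B u v) :
    ∃ T : (Fin m ⊕ Fin m → F) →ₗ[F] V,
      ∀ x y, B (T x) (T y) = Matrix.toBilin' (J (Fin m) F) x y := by
  refine ⟨Fintype.linearCombination F (Sum.elim v u), fun x y => ?_⟩
  have : B.compl₁₂ (Fintype.linearCombination F (Sum.elim v u))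
      (Fintype.linearCombination F (Sum.elim v u)) = Matrix.toBilin' (J (Fin m) F) := by
    apply LinearMap.BilinForm.ext_basis (Pi.basisFun F _)
    rintro (i | i) (j | j) <;>
      simp [h.1, h.2.1, h.2.2, ← halt.neg_eq (u _) (v _), J, one_apply, eq_comm]
  exact LinearMap.congr_fun₂ this x y

theorem even_finrank_of_alt (halt : B.IsAlt) (hnd : ∀ x, (∀ y, B x y = 0) → x = 0) :
    Even (finrank F V) := by
  by_contra h
  obtain ⟨k, hk⟩ := Nat.not_even_iff_odd.1 h
  obtain ⟨u, v, huv⟩ := exists_sympFam halt hnd (k + 1) (by omega)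
  obtain ⟨T, hT⟩ := SympFam.exists_map halt huv
  have := LinearMap.finrank_le_finrank_of_injective (isom_injective (toBilin'_nondeg isUnit_J) hT)
  simp at this
  omega

theorem exists_symp_equiv (halt : B.IsAlt) (hnd : ∀ x, (∀ y, B x y = 0) → x = 0) {m : ℕ}
    (hm : finrank F V = 2 * m) : ∃ e : (Fin m ⊕ Fin m → F) ≃ₗ[F] V,
      ∀ x y, B (e x) (e y) = Matrix.toBilin' (J (Fin m) F) x y := by
  obtain ⟨u, v, huv⟩ := exists_sympFam halt hnd m (by omega)
  obtain ⟨T, hT⟩ := SympFam.exists_map halt huv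
  exact ⟨LinearMap.linearEquivOfInjective T (isom_injective (toBilin'_nondeg isUnit_J) hT)
    (by simp; omega), hT⟩

theorem exists_alt_equiv (halt : B.IsAlt) (hnd : ∀ x, (∀ y, B x y = 0) → x = 0)
    {W : Type*} [AddCommGroup W] [Module F W] [FiniteDimensional F W]
    {B' : LinearMap.BilinForm F W} (halt' : B'.IsAlt) (hnd' : ∀ x, (∀ y, B' x y = 0) → x = 0)
    (h : finrank F V = finrank F W) : ∃ e : V ≃ₗ[F] W, ∀ x y, B' (e x) (e y) = B x y := by
  obtain ⟨m, hm⟩ := even_finrank_of_alt halt hnd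
  obtain ⟨e, he⟩ := exists_symp_equiv halt hnd (m := m) (by omega)
  obtain ⟨e', he'⟩ := exists_symp_equiv halt' hnd' (m := m) (by omega)
  refine ⟨e.symm.trans e', fun x y => ?_⟩
  rw [LinearEquiv.trans_apply, LinearEquiv.trans_apply, he', ← he]
  simp

theorem exists_embed_Sp (halt : B.IsAlt) (hnd : ∀ x, (∀ y, B x y = 0) → x = 0) {m : ℕ}
    (hm : finrank F V = 2 * m) {G : Type*} [Group G] (ρ : G →* Module.End F V)
    (hρ : Function.Injective ρ) (hB : ∀ g x y, B (ρ g x) (ρ g y) = B x y) :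
    ∃ φ : G →* Matrix.symplecticGroup (Fin m) F, Function.Injective φ := by
  obtain ⟨e, he⟩ := exists_symp_equiv halt hnd hm
  let ψ : G →* Matrix (Fin m ⊕ Fin m) (Fin m ⊕ Fin m) F :=
    ((LinearMap.toMatrixAlgEquiv' (R := F)).toMonoidHom.comp
      (e.symm.conjAlgEquiv F).toMonoidHom).comp ρ
  have hψ : ∀ g v, ψ g *ᵥ v = e.symm (ρ g (e v)) := fun g v => by
    change LinearMap.toMatrix' (e.symm.conjAlgEquiv F (ρ g)) *ᵥ v = _
    rw [← Matrix.toLin'_apply, toLin'_toMatrix']
    rfl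
  refine ⟨ψ.codRestrict _ (fun g => (mem_Sp_iff_form _).2 fun u v => ?_), fun a b h => ?_⟩
  · rw [hψ, hψ, ← toBilin'_J, ← toBilin'_J, ← he, ← he]
    simp [hB]
  · apply hρ
    have h1 : ψ a = ψ b := congrArg Subtype.val h
    ext v
    obtain ⟨v, rfl⟩ := e.surjective v
    apply e.symm.injective
    rw [← hψ, ← hψ, h1]

theorem finrank_perp_family (halt : B.IsAlt) (hnd : ∀ x, (∀ y, B x y = 0) → x = 0)
    {κ : Type*} [Fintype κ] {w : κ → V} (hw : LinearIndependent F w) :
    finrank F (B.orthogonal (Submodule.span F (Set.range w))) = finrank F V - Fintype.card κ := by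
  rw [LinearMap.BilinForm.finrank_orthogonal (alt_nondegenerate halt hnd), finrank_span_eq_card hw]

theorem mem_perp_family (halt : B.IsAlt) {κ : Type*} {w : κ → V} {x : V} :
    x ∈ B.orthogonal (Submodule.span F (Set.range w)) ↔ ∀ i, B x (w i) = 0 := by
  rw [LinearMap.BilinForm.mem_orthogonal_iff]
  constructor
  · intro h i
    exact halt.isRefl _ _ (h _ (Submodule.subset_span ⟨i, rfl⟩))
  · intro h n hn
    apply halt.isRefl
    have : Submodule.span F (Set.range w) ≤ LinearMap.ker (B x) :=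
      Submodule.span_le.2 (by rintro _ ⟨i, rfl⟩; exact h i)
    exact this hn

theorem SympFam.linearIndependent (halt : B.IsAlt) {m : ℕ} {u v : Fin m → V}
    (h : SympFam B u v) : LinearIndependent F (Sum.elim u v) := by
  rw [Fintype.linearIndependent_iff]
  intro c hc
  rintro (i | i)
  · have := congrArg (fun x => B x (v i)) hc
    simpa [Fintype.sum_sum_type, h.2.1, h.2.2] using this
  · have := congrArg (fun x => B (u i) x) hc
    simpa [Fintype.sum_sum_type, h.1, h.2.2] using this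

theorem card_hyp_pairs [Fintype F] (halt : B.IsAlt) (hnd : ∀ x, (∀ y, B x y = 0) → x = 0)
    {k : ℕ} {u v : Fin k → V} (h : SympFam B u v) {n : ℕ} (hn : finrank F V = 2 * k + (n + 1)) :
    Nat.card {x : V × V // (∀ i, B x.1 (u i) = 0) ∧ (∀ i, B x.1 (v i) = 0) ∧
      (∀ i, B x.2 (u i) = 0) ∧ (∀ i, B x.2 (v i) = 0) ∧ B x.1 x.2 = 1} =
      (Fintype.card F ^ (n + 1) - 1) * Fintype.card F ^ n := by
  classical
  haveI : Finite V := Module.finite_of_finite F
  set P := B.orthogonal (Submodule.span F (Set.range (Sum.elim u v))) with hP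
  have hmem : ∀ x, x ∈ P ↔ (∀ i, B x (u i) = 0) ∧ (∀ i, B x (v i) = 0) := fun x => by
    rw [hP, mem_perp_family halt, Sum.forall]; rfl
  have hdim : finrank F P = n + 1 := by
    rw [hP, finrank_perp_family halt hnd (SympFam.linearIndependent halt h)]
    simp; omega
  have hcard : Nat.card P = Fintype.card F ^ (n + 1) := by
    rw [Module.natCard_eq_pow_finrank (K := F), hdim, Nat.card_eq_fintype_card]
  have h1 : Nat.card {x : P // x ≠ 0} = Fintype.card F ^ (n + 1) - 1 := by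
    haveI := Fintype.ofFinite P
    rw [← hcard, Nat.card_eq_fintype_card, Nat.card_eq_fintype_card, Fintype.card_subtype_compl]
    simp
  rw [← h1]
  refine card_eq_mul_of_fibers (fun x => ⟨⟨x.1.1, (hmem _).2 ⟨x.2.1, x.2.2.1⟩⟩, fun h0 => by
    have h2 := x.2.2.2.2.2
    rw [show x.1.1 = 0 from congrArg Subtype.val h0] at h2
    simp at h2⟩) ?_
  · rintro ⟨⟨x, hx⟩, hx0⟩
    have hx0' : x ≠ 0 := fun h => hx0 (Subtype.ext h)
    obtain ⟨y, hy⟩ := exists_B_eq_one hnd hx0'
    obtain ⟨y', h1, h2, h3⟩ := h.exists_proj halt y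
    have := card_fiber_functional ((B x).domRestrict P) ⟨⟨y', (hmem _).2 ⟨h1, h2⟩⟩, by
      rw [LinearMap.domRestrict_apply, h3 x ((hmem _).1 hx).1 ((hmem _).1 hx).2, hy]⟩ 1
    rw [hcard, pow_succ', Nat.card_eq_fintype_card] at this
    rw [← Nat.eq_of_mul_eq_mul_left Fintype.card_pos this]
    refine Nat.card_congr ⟨fun z => ⟨⟨z.1.1.2, (hmem _).2 ⟨z.1.2.2.2.1, z.1.2.2.2.2.1⟩⟩, ?_⟩,
      fun z => ⟨⟨(x, z.1.1), ((hmem _).1 hx).1, ((hmem _).1 hx).2, ((hmem _).1 z.1.2).1,
        ((hmem _).1 z.1.2).2, z.2⟩, rfl⟩, fun z => ?_, fun z => rfl⟩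
    · have := z.1.2.2.2.2.2
      rwa [show z.1.1.1 = x from congrArg (fun t => t.1.1) z.2] at this
    · exact Subtype.ext (Subtype.ext (Prod.ext (congrArg (fun t => t.1.1) z.2).symm rfl))

/-- order of the symplectic group -/
def ordSp (q m : ℕ) : ℕ := q ^ (m ^ 2) * ∏ i : Fin m, (q ^ (2 * ((i : ℕ) + 1)) - 1)

theorem ordSp_succ (q m : ℕ) :
    ordSp q (m + 1) = ordSp q m * ((q ^ (2 * m + 2) - 1) * q ^ (2 * m + 1)) := by
  rw [ordSp, ordSp, Fin.prod_univ_castSucc]
  simp only [Fin.val_castSucc, Fin.val_last]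
  rw [show 2 * (m + 1) = 2 * m + 2 by ring]
  ring

theorem ordSp_pos {q : ℕ} (hq : 1 < q) (m : ℕ) : 0 < ordSp q m :=
  Nat.mul_pos (pow_pos (by omega) _) (Finset.prod_pos fun _ _ =>
    Nat.sub_pos_of_lt (Nat.one_lt_pow (by omega) hq))

theorem card_sympFam [Fintype F] (halt : B.IsAlt) (hnd : ∀ x, (∀ y, B x y = 0) → x = 0)
    {k j : ℕ} (hn : finrank F V = 2 * (k + j)) :
    Nat.card {f : Fin k → V × V // SympFam B (fun i => (f i).1) (fun i => (f i).2)} *
      ordSp (Fintype.card F) j = ordSp (Fintype.card F) (k + j) := by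
  haveI : Finite V := Module.finite_of_finite F
  induction k generalizing j with
  | zero =>
    haveI : Unique {f : Fin 0 → V × V // SympFam B (fun i => (f i).1) (fun i => (f i).2)} :=
      ⟨⟨⟨Fin.elim0, fun i => i.elim0, fun i => i.elim0, fun i => i.elim0⟩⟩,
        fun _ => Subsingleton.elim _ _⟩
    simp
  | succ k ih =>
    rw [card_cons_family (fun f : Fin k → V × V => SympFam B (fun i => (f i).1) (fun i => (f i).2))
      _ (fun f x => (∀ i, B x.1 (f i).1 = 0) ∧ (∀ i, B x.1 (f i).2 = 0) ∧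
      (∀ i, B x.2 (f i).1 = 0) ∧ (∀ i, B x.2 (f i).2 = 0) ∧ B x.1 x.2 = 1) ?_
      (fun f hf => card_hyp_pairs halt hnd hf (n := 2 * j + 1) (by omega)),
      show k + 1 + j = k + (j + 1) by ring, ← ih (by omega), ordSp_succ]
    · ring
    intro x f
    constructor
    · rintro ⟨h1, h2, h3⟩
      refine ⟨⟨fun i j => h1 i.succ j.succ, fun i j => h2 i.succ j.succ,
        fun i j => by simpa using h3 i.succ j.succ⟩, fun i => h1 0 i.succ,
        fun i => by simpa [(Fin.succ_ne_zero _).symm] using h3 0 i.succ,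
        fun i => halt.isRefl _ _ (by simpa using h3 i.succ 0), fun i => h2 0 i.succ,
        by simpa using h3 0 0⟩
    · rintro ⟨h, h1, h2, h3, h4, h5⟩
      convert h.cons halt h1 h2 h3 h4 h5 using 1 <;> ext i <;> refine Fin.cases rfl (fun _ => rfl) i

theorem card_isotropic_families [Fintype F] (halt : B.IsAlt)
    (hnd : ∀ x, (∀ y, B x y = 0) → x = 0) (s : ℕ) :
    Nat.card {w : Fin s → V // LinearIndependent F w ∧ ∀ i j, B (w i) (w j) = 0} =
      ∏ i ∈ Finset.range s, (Fintype.card F ^ (finrank F V - i) - Fintype.card F ^ i) := by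
  classical
  haveI : Finite V := Module.finite_of_finite F
  induction s with
  | zero =>
    haveI : Unique {w : Fin 0 → V // LinearIndependent F w ∧ ∀ i j, B (w i) (w j) = 0} :=
      ⟨⟨⟨Fin.elim0, linearIndependent_empty_type, fun i => i.elim0⟩⟩,
        fun _ => Subsingleton.elim _ _⟩
    simp
  | succ s ih =>
    rw [Finset.prod_range_succ, ← ih]
    refine card_cons_family _ _ (fun w x => x ∈ B.orthogonal (Submodule.span F (Set.range w)) ∧
      x ∉ Submodule.span F (Set.range w)) ?_ ?_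
    · intro x w
      rw [linearIndependent_finCons, mem_perp_family halt]
      constructor
      · rintro ⟨⟨h1, h2⟩, h3⟩
        exact ⟨⟨h1, fun i j => h3 i.succ j.succ⟩, fun i => h3 0 i.succ, h2⟩
      · rintro ⟨⟨h1, h2⟩, h3, h4⟩
        refine ⟨⟨h1, h4⟩, fun i j => ?_⟩
        refine Fin.cases ?_ (fun i => ?_) i <;> refine Fin.cases ?_ (fun j => ?_) j
        · exact halt.self_eq_zero x
        · exact h3 j
        · exact halt.isRefl _ _ (h3 i)
        · exact h2 i j
    · rintro w ⟨h1, h2⟩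
      have hle : Submodule.span F (Set.range w) ≤ B.orthogonal (Submodule.span F (Set.range w)) :=
        Submodule.span_le.2 (by rintro _ ⟨i, rfl⟩; exact (mem_perp_family halt).2 (h2 i))
      have e1 : Nat.card (B.orthogonal (Submodule.span F (Set.range w))) =
          Fintype.card F ^ (finrank F V - s) := by
        rw [Module.natCard_eq_pow_finrank (K := F), finrank_perp_family halt hnd h1,
          Nat.card_eq_fintype_card, Fintype.card_fin]
      have e2 : Nat.card (Submodule.span F (Set.range w)) = Fintype.card F ^ s := by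
        rw [Module.natCard_eq_pow_finrank (K := F), finrank_span_eq_card h1,
          Nat.card_eq_fintype_card, Fintype.card_fin]
      rw [← e1, ← e2]
      exact (Set.ncard_diff hle (Set.toFinite _))

end Abstract

end CfsgH1
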