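import Cfsg.Agent.H1.Sp1

set_option autoImplicit false
set_option maxHeartbeats 400000
set_option linter.unusedSectionVars false

namespace CfsgH1

open Matrix Module CfsgH7

section Abstract
variable {F V : Type*} [Field F] [AddCommGroup V] [Module F V] [FiniteDimensional F V]
  {B : LinearMap.BilinForm F V}

theorem card_isom_alt [Fintype F] (halt : B.IsAlt) (hnd : ∀ x, (∀ y, B x y = 0) → x = 0)
    {m : ℕ} (hm : finrank F V = 2 * m) :
    Nat.card {g : V →ₗ[F] V // ∀ u v, B (g u) (g v) = B u v} = ordSp (Fintype.card F) m := by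
  obtain ⟨e, he⟩ := exists_symp_equiv halt hnd hm
  have h := card_sympFam halt hnd (k := m) (j := 0) hm
  rw [show ordSp (Fintype.card F) 0 = 1 by simp [ordSp], mul_one, add_zero] at h
  rw [← h]
  refine Nat.card_eq_of_bijective (fun g => ⟨fun i => (g.1 (e (Pi.single (.inr i) 1)),
    g.1 (e (Pi.single (.inl i) 1))), fun i j => ?_, fun i j => ?_, fun i j => ?_⟩) ⟨?_, ?_⟩
  · simp [g.2, he, J]
  · simp [g.2, he, J]
  · simp [g.2, he, J, one_apply]
  · intro a b h
    have h' := congrArg Subtype.val h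
    apply Subtype.ext
    apply ((Pi.basisFun F (Fin m ⊕ Fin m)).map e).ext
    rintro (i | i)
    · simpa using congrArg Prod.snd (congrFun h' i)
    · simpa using congrArg Prod.fst (congrFun h' i)
  · rintro ⟨f, h⟩
    let T := Fintype.linearCombination F (Sum.elim (fun i => (f i).2) (fun i => (f i).1))
    have : B.compl₁₂ T T = Matrix.toBilin' (J (Fin m) F) := by
      apply LinearMap.BilinForm.ext_basis (Pi.basisFun F _)
      rintro (i | i) (j | j) <;>
        simp [T, h.1, h.2.1, h.2.2, ← halt.neg_eq (f _).1 (f _).2, J, one_apply, eq_comm]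
    refine ⟨⟨T ∘ₗ e.symm.toLinearMap, fun u v => ?_⟩, Subtype.ext (funext fun i => ?_)⟩
    · have := LinearMap.congr_fun₂ this (e.symm u) (e.symm v)
      rw [← he] at this
      simpa using this
    · simp [T]

end Abstract

variable {F : Type*} [Field F] {ι : Type*} [Fintype ι] [DecidableEq ι]

/-- the isometry group of a bilinear form given by a matrix -/
def IsomG (H : Matrix ι ι F) : Subgroup (GL ι F) where
  carrier := {g | (g : Matrix ι ι F)ᵀ * H * g = H}
  mul_mem' {a b} ha hb := by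
    change (a.1 * b.1)ᵀ * H * (a.1 * b.1) = H
    rw [transpose_mul, Matrix.mul_assoc, Matrix.mul_assoc, ← Matrix.mul_assoc H,
      ← Matrix.mul_assoc a.1ᵀ, ← Matrix.mul_assoc a.1ᵀ, ha, ← Matrix.mul_assoc, hb]
  one_mem' := by simp
  inv_mem' {a} ha := by
    change (a⁻¹).1ᵀ * H * (a⁻¹).1 = H
    conv_lhs => rw [← ha]
    rw [← Matrix.mul_assoc, ← Matrix.mul_assoc, ← transpose_mul, Matrix.mul_assoc,
      Units.mul_inv]
    simp

theorem mem_IsomG {H : Matrix ι ι F} {g : GL ι F} :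
    g ∈ IsomG H ↔ (g : Matrix ι ι F)ᵀ * H * g = H := Iff.rfl

/-- alternating matrices -/
def AltM (H : Matrix ι ι F) : Prop := ∀ v, v ⬝ᵥ H *ᵥ v = 0

theorem AltM.isAlt {H : Matrix ι ι F} (h : AltM H) : (Matrix.toBilin' H).IsAlt := fun v => by
  rw [Matrix.toBilin'_apply', h]

theorem AltM.transpose_eq {H : Matrix ι ι F} (h : AltM H) : Hᵀ = -H := by
  ext i j
  have := h.isAlt.neg_eq (Pi.single i 1) (Pi.single j 1)
  simp only [toBilin'_single] at this
  simp [this]

theorem altM_of_skew {H : Matrix ι ι F} (h : Hᵀ = -H) (hd : ∀ i, H i i = 0) : AltM H := by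
  classical
  intro v
  simp only [dotProduct, mulVec, Finset.mul_sum]
  rw [← Finset.sum_product']
  refine Finset.sum_involution (fun p _ => p.swap) ?_ ?_ (by simp) (by simp)
  · rintro ⟨i, j⟩ _
    have : H j i = - H i j := congrFun (congrFun h i) j
    simp [this]; ring
  · rintro ⟨i, j⟩ _ h1 h2
    obtain rfl : j = i := congrArg Prod.fst h2
    simp [hd] at h1

theorem altM_of_skew_two (h2 : (2 : F) ≠ 0) {H : Matrix ι ι F} (h : Hᵀ = -H) : AltM H :=
  altM_of_skew h fun i => by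
    have : H i i = - H i i := congrFun (congrFun h i) i
    apply mul_left_cancel₀ h2
    linear_combination this

theorem AltM.diag {H : Matrix ι ι F} (h : AltM H) (i : ι) : H i i = 0 := by
  simpa using h.isAlt (Pi.single i 1)

theorem altM_J (l : Type*) [Fintype l] [DecidableEq l] : AltM (J l F) :=
  altM_of_skew (J_transpose _ _) (by rintro (i | i) <;> simp [J])

theorem dot_mul_mul {κ μ : Type*} [Fintype κ] [Fintype μ] (A : Matrix ι κ F) (C : Matrix ι μ F)
    (H : Matrix ι ι F) (u : κ → F) (v : μ → F) :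
    (A *ᵥ u) ⬝ᵥ H *ᵥ (C *ᵥ v) = u ⬝ᵥ (Aᵀ * H * C) *ᵥ v := by
  rw [Matrix.mul_assoc, ← mulVec_mulVec, dotProduct_mulVec u, vecMul_transpose, mulVec_mulVec]

theorem AltM.congr {κ : Type*} [Fintype κ] [DecidableEq κ] {H : Matrix ι ι F} (h : AltM H)
    (P : Matrix ι κ F) : AltM (Pᵀ * H * P) := fun v => by rw [← dot_mul_mul, h]

theorem isUnit_of_isom {H g : Matrix ι ι F} (hH : IsUnit H) (hg : gᵀ * H * g = H) : IsUnit g :=
  isUnit_of_mul_isUnit_right (hg.symm ▸ hH)

theorem card_IsomG_eq {H : Matrix ι ι F} (hH : IsUnit H) :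
    Nat.card (IsomG H) = Nat.card {g : Matrix ι ι F // gᵀ * H * g = H} := by
  refine Nat.card_eq_of_bijective (fun g => ⟨g.1.1, g.2⟩) ⟨fun a b h => ?_, ?_⟩
  · exact Subtype.ext (Units.ext (congrArg Subtype.val h))
  · rintro ⟨g, hg⟩
    exact ⟨⟨(isUnit_of_isom hH hg).unit, hg⟩, rfl⟩

theorem isom_toLin'_iff {H g : Matrix ι ι F} :
    (∀ u v, Matrix.toBilin' H (toLin' g u) (toLin' g v) = Matrix.toBilin' H u v) ↔
      gᵀ * H * g = H := by
  simp only [Matrix.toBilin'_apply', toLin'_apply, dot_mul_mul, form_eq_iff]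

theorem card_IsomG_alt [Fintype F] {H : Matrix ι ι F} (hH : IsUnit H) (halt : AltM H) {m : ℕ}
    (hm : Fintype.card ι = 2 * m) : Nat.card (IsomG H) = ordSp (Fintype.card F) m := by
  rw [card_IsomG_eq hH, ← card_isom_alt halt.isAlt (toBilin'_nondeg hH) (by simpa using hm)]
  exact Nat.card_congr (Equiv.subtypeEquiv toLin'.toEquiv fun g => isom_toLin'_iff.symm)

theorem even_card_of_altM {H : Matrix ι ι F} (hH : IsUnit H) (halt : AltM H) :
    Even (Fintype.card ι) := by
  simpa using even_finrank_of_alt halt.isAlt (toBilin'_nondeg hH)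

theorem witt_matrix {H : Matrix ι ι F} (hH : IsUnit H) (halt : AltM H) {κ : Type*} [Fintype κ]
    [DecidableEq κ] {W W' : Matrix ι κ F} (hW : Function.Injective W.mulVec)
    (hW' : Function.Injective W'.mulVec) (h : Wᵀ * H * W = W'ᵀ * H * W') :
    ∃ g : IsomG H, g.1.1 * W = W' := by
  obtain ⟨g, hg, hg'⟩ := alt_witt halt.isAlt (toBilin'_nondeg hH) (toLin' W) (toLin' W') hW hW'
    (fun w w' => by simp only [Matrix.toBilin'_apply', toLin'_apply, dot_mul_mul, h])
  have h1 : (LinearMap.toMatrix' g)ᵀ * H * LinearMap.toMatrix' g = H :=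
    isom_toLin'_iff.1 (by simpa using hg)
  refine ⟨⟨(isUnit_of_isom hH h1).unit, h1⟩, toLin'.injective (LinearMap.ext fun w => ?_)⟩
  change toLin' (LinearMap.toMatrix' g * W) w = _
  rw [toLin'_mul, toLin'_toMatrix']
  exact hg' w

theorem alt_congr {κ : Type*} [Fintype κ] [DecidableEq κ] {H : Matrix ι ι F} (hH : IsUnit H)
    (halt : AltM H) {H' : Matrix κ κ F} (hH' : IsUnit H') (halt' : AltM H')
    (hc : Fintype.card κ = Fintype.card ι) :
    ∃ (P : Matrix ι κ F) (Q : Matrix κ ι F), P * Q = 1 ∧ Q * P = 1 ∧ Pᵀ * H * P = H' := by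
  obtain ⟨e, he⟩ := exists_alt_equiv halt'.isAlt (toBilin'_nondeg hH') halt.isAlt
    (toBilin'_nondeg hH) (by simpa using hc)
  refine ⟨LinearMap.toMatrix' e.toLinearMap, LinearMap.toMatrix' e.symm.toLinearMap, ?_, ?_, ?_⟩
  · rw [← LinearMap.toMatrix'_comp]; simp
  · rw [← LinearMap.toMatrix'_comp]; simp
  · rw [← form_eq_iff]
    intro u v
    rw [← dot_mul_mul, ← toLin'_apply (LinearMap.toMatrix' _), ← toLin'_apply (LinearMap.toMatrix' _),
      toLin'_toMatrix', ← Matrix.toBilin'_apply', ← Matrix.toBilin'_apply']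
    exact he u v

theorem alt_congr_GL {H H' : Matrix ι ι F} (hH : IsUnit H) (halt : AltM H) (hH' : IsUnit H')
    (halt' : AltM H') : ∃ P : GL ι F, P.1ᵀ * H * P.1 = H' := by
  obtain ⟨P, Q, h1, h2, h3⟩ := alt_congr hH halt hH' halt' rfl
  exact ⟨⟨P, Q, h1, h2⟩, h3⟩

/-- the symplectic group inside `GL` -/
def spToGL (m : ℕ) (F : Type*) [Field F] :
    Matrix.symplecticGroup (Fin m) F →* GL (Fin m ⊕ Fin m) F :=
  (Matrix.symplecticGroup (Fin m) F).subtype.toHomUnits

theorem spToGL_coe {m : ℕ} (g : Matrix.symplecticGroup (Fin m) F) :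
    (spToGL m F g : Matrix (Fin m ⊕ Fin m) (Fin m ⊕ Fin m) F) = g.1 := rfl

theorem spToGL_injective {m : ℕ} : Function.Injective (spToGL m F) := fun _ _ h =>
  Subtype.ext (congrArg Units.val h)

theorem card_Sp [Fintype F] (m : ℕ) :
    Nat.card (Matrix.symplecticGroup (Fin m) F) = ordSp (Fintype.card F) m := by
  rw [← card_IsomG_alt (m := m) isUnit_J (altM_J (Fin m)) (by simp [two_mul]), card_IsomG_eq isUnit_J]
  exact Nat.card_congr (Equiv.subtypeEquivRight fun g => SymplecticGroup.mem_iff')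

theorem witt_Sp {m : ℕ} {κ : Type*} [Fintype κ] [DecidableEq κ]
    {W W' : Matrix (Fin m ⊕ Fin m) κ F} (hW : Function.Injective W.mulVec)
    (hW' : Function.Injective W'.mulVec) (h : Wᵀ * J (Fin m) F * W = W'ᵀ * J (Fin m) F * W') :
    ∃ g : Matrix.symplecticGroup (Fin m) F, g.1 * W = W' := by
  obtain ⟨g, hg⟩ := witt_matrix isUnit_J (altM_J _) hW hW' h
  exact ⟨⟨g.1.1, SymplecticGroup.mem_iff'.2 g.2⟩, hg⟩

theorem card_isotropic_matrices [Fintype F] {H : Matrix ι ι F} (hH : IsUnit H) (halt : AltM H)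
    (s : ℕ) : Nat.card {W : Matrix ι (Fin s) F // Function.Injective W.mulVec ∧ Wᵀ * H * W = 0} =
      ∏ i ∈ Finset.range s, (Fintype.card F ^ (Fintype.card ι - i) - Fintype.card F ^ i) := by
  have := card_isotropic_families halt.isAlt (toBilin'_nondeg hH) s
  rw [finrank_fintype_fun_eq_card] at this
  rw [← this]
  refine Nat.card_congr (Equiv.subtypeEquiv ⟨fun W => W.col, fun w => (Matrix.of w)ᵀ,
    fun _ => rfl, fun _ => rfl⟩ fun W => ?_)
  rw [Matrix.mulVec_injective_iff, ← Matrix.ext_iff]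
  simp only [transpose_mul_mul_apply, Matrix.toBilin'_apply', Matrix.zero_apply]
  rfl

theorem prod_isotropic_mul (q : ℕ) {s j : ℕ} :
    (∏ i ∈ Finset.range s, (q ^ (2 * (s + j) - i) - q ^ i)) *
      (q ^ (2 * (s + j) * s - (3 * s ^ 2 - s) / 2) * ordSp q j) = ordSp q (s + j) := by
  have key : ∀ s j, (∏ i ∈ Finset.range s, (q ^ (2 * (s + j) - i) - q ^ i)) *
      (q ^ (s * (s + 1) / 2 + 2 * j * s) * ordSp q j) = ordSp q (s + j) := by
    intro s
    induction s with
    | zero => simp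
    | succ s ih =>
      intro j
      rw [Finset.prod_range_succ, show s + 1 + j = s + (j + 1) by ring, ← ih (j + 1), ordSp_succ,
        show 2 * (s + (j + 1)) - s = s + (2 * j + 2) by omega, pow_add q s, ← Nat.mul_sub_one,
        show (s + 1) * (s + 1 + 1) / 2 = s * (s + 1) / 2 + (s + 1) by
          rw [show (s + 1) * (s + 1 + 1) = s * (s + 1) + (s + 1) * 2 by ring,
            Nat.add_mul_div_right _ _ two_pos]]
      ring
  rw [← key s j]
  congr 3
  obtain ⟨t, ht⟩ : 2 ∣ s * (s + 1) := (Nat.even_mul_succ_self s).two_dvd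
  have h1 : s ≤ s ^ 2 := Nat.le_self_pow (by norm_num) s
  have h2 : 3 * s ^ 2 - s = 2 * (3 * t - 2 * s) := by
    have : s ^ 2 + s = 2 * t := by rw [← ht]; ring
    omega
  have h3 : 2 * (s + j) * s = 2 * s ^ 2 + 2 * j * s := by ring
  have : s ^ 2 + s = 2 * t := by rw [← ht]; ring
  rw [h2, ht, h3]
  omega

theorem card_stab_isotropic [Fintype F] {m s : ℕ} (W : Matrix (Fin m ⊕ Fin m) (Fin s) F)
    (hW : Function.Injective W.mulVec) (h0 : Wᵀ * J (Fin m) F * W = 0) :
    s ≤ m ∧ Nat.card {g : Matrix.symplecticGroup (Fin m) F // g.1 * W = W} =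
      Fintype.card F ^ (2 * m * s - (3 * s ^ 2 - s) / 2) * ordSp (Fintype.card F) (m - s) := by
  have h1 := card_group_eq_orbit (G := Matrix.symplecticGroup (Fin m) F) (fun g W => g.1 * W)
    (fun _ => Matrix.one_mul _) (fun _ _ _ => Matrix.mul_assoc _ _ _) W
    (fun W => Function.Injective W.mulVec ∧ Wᵀ * J (Fin m) F * W = 0) (fun W' =>
      ⟨fun h => witt_Sp hW h.1 (h0.trans h.2.symm), by
        rintro ⟨g, rfl⟩
        refine ⟨fun x y h => hW (Matrix.mulVec_injective_iff_isUnit.2 (spToGL m F g).isUnit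
          (by simpa [spToGL_coe] using h)), ?_⟩
        rw [← h0]
        conv_rhs => rw [← SymplecticGroup.mem_iff'.1 g.2]
        simp only [transpose_mul, Matrix.mul_assoc]⟩)
  rw [card_Sp, card_isotropic_matrices isUnit_J (altM_J _)] at h1
  have hq := Fintype.one_lt_card (α := F)
  have hs : s ≤ m := by
    by_contra h
    rw [Finset.prod_eq_zero (i := m) (by simpa using h) (by simp), zero_mul] at h1
    exact (ordSp_pos hq m).ne' h1
  obtain ⟨j, rfl⟩ := Nat.exists_eq_add_of_le hs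
  refine ⟨hs, ?_⟩
  have h2 := prod_isotropic_mul (Fintype.card F) (s := s) (j := j)
  rw [show Fintype.card (Fin (s + j) ⊕ Fin (s + j)) = 2 * (s + j) by simp; ring] at h1
  rw [Nat.add_sub_cancel_left]
  apply Nat.eq_of_mul_eq_mul_left _ (h1.symm.trans h2.symm)
  apply Nat.pos_of_mul_pos_right (h2 ▸ ordSp_pos hq _)

end CfsgH1
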