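import Cfsg.Agent.H1.Sp2
import Cfsg.Agent.H1.Cls
import Cfsg.Agent.S2622

set_option autoImplicit false
set_option maxHeartbeats 400000
set_option linter.unusedSectionVars false

namespace CfsgH1

open Matrix Module CfsgH7

variable {F : Type*} [Field F] {ι κ : Type*} [Fintype ι] [DecidableEq ι] [Fintype κ] [DecidableEq κ]

theorem exists_left_inv {W : Matrix ι κ F} (hW : Function.Injective W.mulVec) :
    ∃ L : Matrix κ ι F, L * W = 1 := by
  obtain ⟨g, hg⟩ := (toLin' W).exists_leftInverse_of_injective (LinearMap.ker_eq_bot.2 hW)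
  refine ⟨LinearMap.toMatrix' g, toLin'.injective ?_⟩
  rw [toLin'_mul, toLin'_toMatrix', hg, toLin'_one]

theorem inj_of_left_inv {W : Matrix ι κ F} {L : Matrix κ ι F} (h : L * W = 1) :
    Function.Injective W.mulVec := fun x y hxy => by
  have := congrArg L.mulVec hxy
  simpa [h] using this

theorem exists_rank_factor {μ : Type*} [Fintype μ] [DecidableEq μ] (S : Matrix ι μ F) {s : ℕ}
    (hs : S.rank = s) : ∃ (W : Matrix ι (Fin s) F) (L : Matrix (Fin s) ι F),
      L * W = 1 ∧ W * L * S = S := by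
  let b := Module.finBasisOfFinrankEq F (LinearMap.range S.mulVecLin) hs
  let W : Matrix ι (Fin s) F := Matrix.of fun i j => (b j).1 i
  have hW : ∀ c, W *ᵥ c = (b.equivFun.symm c).1 := fun c => by
    ext i
    simp [W, mulVec, dotProduct, mul_comm, Finset.sum_apply]
  obtain ⟨L, hL⟩ := exists_left_inv (W := W) fun x y h => by
    rw [hW, hW] at h
    exact b.equivFun.symm.injective (Subtype.ext h)
  refine ⟨W, L, hL, toLin'.injective (LinearMap.ext fun v => ?_)⟩
  have : S *ᵥ v = W *ᵥ (b.equivFun ⟨S *ᵥ v, v, rfl⟩) := by rw [hW]; simp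
  simp only [toLin'_apply]
  rw [← mulVec_mulVec, this, mulVec_mulVec, Matrix.mul_assoc, hL, Matrix.mul_one]

theorem isUnit_of_rank {A : Matrix κ κ F} (h : Fintype.card κ ≤ A.rank) : IsUnit A := by
  rw [← Matrix.mulVec_surjective_iff_isUnit]
  have : LinearMap.range A.mulVecLin = ⊤ :=
    Submodule.eq_top_of_finrank_eq (le_antisymm (Submodule.finrank_le _) (by rw [finrank_fintype_fun_eq_card]; exact h))
  exact LinearMap.range_eq_top.1 this

theorem exists_symm_factor (S : Matrix ι ι F) (hS : Sᵀ = S) {s : ℕ} (hs : S.rank = s) :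
    ∃ (W : Matrix ι (Fin s) F) (L : Matrix (Fin s) ι F) (β : Matrix (Fin s) (Fin s) F),
      L * W = 1 ∧ βᵀ = β ∧ IsUnit β ∧ S = W * β * Wᵀ := by
  obtain ⟨W, L, h1, h2⟩ := exists_rank_factor S hs
  have h3 : S = W * (L * S * Lᵀ) * Wᵀ := by
    have := congrArg transpose h2
    rw [transpose_mul, transpose_mul, hS] at this
    simp only [← Matrix.mul_assoc] at this ⊢
    rw [h2, this]
  refine ⟨W, L, L * S * Lᵀ, h1, by simp [transpose_mul, hS, Matrix.mul_assoc], isUnit_of_rank ?_, h3⟩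
  rw [Fintype.card_fin]
  conv_lhs => rw [← hs, h3]
  exact (rank_mul_le_left _ _).trans (rank_mul_le_right _ _)

theorem rank_symm_factor {W : Matrix ι κ F} {L : Matrix κ ι F} {β : Matrix κ κ F}
    (hL : L * W = 1) (hβ : IsUnit β) : (W * β * Wᵀ).rank = Fintype.card κ := by
  apply le_antisymm ((rank_mul_le_left _ _).trans (rank_le_card_width _))
  have : L * (W * β * Wᵀ) * Lᵀ = β := by
    rw [← Matrix.mul_assoc, ← Matrix.mul_assoc, hL, Matrix.one_mul, Matrix.mul_assoc,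
      ← transpose_mul, hL, transpose_one, Matrix.mul_one]
  rw [← rank_of_isUnit β hβ]
  conv_lhs => rw [← this]
  exact (rank_mul_le_left _ _).trans (rank_mul_le_right _ _)

variable {m : ℕ}

theorem sp_conj_iff (g : symplecticGroup (Fin m) F) (S S' : Matrix (Fin m ⊕ Fin m) (Fin m ⊕ Fin m) F) :
    g.1 * (1 + S * J (Fin m) F) = (1 + S' * J (Fin m) F) * g.1 ↔ g.1 * S * g.1ᵀ = S' := by
  have h1 := SymplecticGroup.mem_iff.1 g.2
  have h2 := SymplecticGroup.mem_iff'.1 g.2
  rw [Matrix.mul_add, Matrix.add_mul, Matrix.mul_one, Matrix.one_mul, add_right_inj]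
  constructor
  · intro h
    have := congrArg (· * (J (Fin m) F * g.1ᵀ)) h
    simp only [Matrix.mul_assoc] at this h1 ⊢
    rw [h1, ← Matrix.mul_assoc (J _ _) (J _ _), J_squared] at this
    simpa using this
  · rintro rfl
    simp only [Matrix.mul_assoc] at h2 ⊢
    rw [h2]

theorem one_add_mem_sp {S : Matrix (Fin m ⊕ Fin m) (Fin m ⊕ Fin m) F} (hS : Sᵀ = S)
    (h0 : S * J (Fin m) F * S = 0) : 1 + S * J (Fin m) F ∈ symplecticGroup (Fin m) F := by
  rw [SymplecticGroup.mem_iff, transpose_add, transpose_mul, hS, J_transpose, transpose_one,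
    Matrix.add_mul, Matrix.mul_assoc S, J_squared]
  simp only [Matrix.mul_add, Matrix.add_mul, Matrix.mul_neg, Matrix.neg_mul, Matrix.one_mul,
    Matrix.mul_one, neg_neg, ← Matrix.mul_assoc, J_squared, h0]
  abel

/-- the data of a "square-zero unipotent" symplectic element -/
structure TvData (t : symplecticGroup (Fin m) F) (β : Matrix κ κ F) where
  W : Matrix (Fin m ⊕ Fin m) κ F
  L : Matrix κ (Fin m ⊕ Fin m) F
  hL : L * W = 1
  symm : βᵀ = β
  unit : IsUnit β
  iso : Wᵀ * J (Fin m) F * W = 0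
  eq : t.1 = 1 + W * β * Wᵀ * J (Fin m) F

theorem exists_tvData (t : symplecticGroup (Fin m) F) (ht : (t.1 - 1) * (t.1 - 1) = 0) {s : ℕ}
    (hs : (t.1 - 1).rank = s) : ∃ β : Matrix (Fin s) (Fin s) F, Nonempty (TvData t β) := by
  obtain ⟨N, h1⟩ : ∃ N, t.1 = 1 + N := ⟨t.1 - 1, by simp⟩
  rw [h1, add_sub_cancel_left] at ht hs
  have h2 := SymplecticGroup.mem_iff.1 t.2
  have h3 : N * J (Fin m) F = -(J (Fin m) F * Nᵀ) := by
    have h4 := congrArg ((1 - N) * ·) h2
    have h5 : (1 - N) * t.1 = 1 := by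
      rw [h1, Matrix.mul_add, Matrix.sub_mul, Matrix.sub_mul, ht]; simp
    simp only [← Matrix.mul_assoc] at h4
    rw [h5, h1, transpose_add, transpose_one, Matrix.one_mul, Matrix.mul_add, Matrix.sub_mul,
      Matrix.mul_one, Matrix.one_mul] at h4
    rw [eq_neg_iff_add_eq_zero]
    have := sub_eq_zero.2 h4
    rw [← this]; abel
  have hSJ : -(N * J (Fin m) F) * J (Fin m) F = N := by
    rw [Matrix.neg_mul, Matrix.mul_assoc, J_squared]; simp
  obtain ⟨W, L, β, hL, hβ, hu, hS⟩ := exists_symm_factor (-(N * J (Fin m) F))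
    (by rw [transpose_neg, transpose_mul, J_transpose, h3]; simp) (s := s) (by
      rw [← Matrix.mul_neg, rank_mul_eq_left_of_isUnit_det _ _
        ((isUnit_iff_isUnit_det _).1 (isUnit_J (m := m) (F := F)).neg), hs])
  refine ⟨β, ⟨⟨W, L, hL, hβ, hu, ?_, by rw [← hS, hSJ, h1]⟩⟩⟩
  have h6 : W * β * Wᵀ * J (Fin m) F * (W * β * Wᵀ) = 0 := by
    rw [← hS, hSJ, Matrix.mul_neg, ← Matrix.mul_assoc, ht]; simp
  have h7 := congrArg (fun X => L * X * Lᵀ) h6
  have h8 : Wᵀ * Lᵀ = 1 := by rw [← transpose_mul, hL, transpose_one]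
  simp only [Matrix.mul_assoc, h8, Matrix.mul_one, Matrix.mul_zero, Matrix.zero_mul] at h7
  rw [← Matrix.mul_assoc, hL, Matrix.one_mul, hu.mul_right_eq_zero] at h7
  simp only [← Matrix.mul_assoc] at h7
  exact hu.mul_left_eq_zero.1 h7

theorem TvData.rank {t : symplecticGroup (Fin m) F} {β : Matrix κ κ F} (D : TvData t β) :
    (t.1 - 1).rank = Fintype.card κ := by
  rw [D.eq, add_sub_cancel_left, rank_mul_eq_left_of_isUnit_det _ _
    ((isUnit_iff_isUnit_det _).1 isUnit_J), rank_symm_factor D.hL D.unit]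

theorem TvData.sq {t : symplecticGroup (Fin m) F} {β : Matrix κ κ F} (D : TvData t β) :
    (t.1 - 1) * (t.1 - 1) = 0 := by
  rw [D.eq, add_sub_cancel_left]
  calc _ = D.W * β * (D.Wᵀ * J (Fin m) F * D.W) * (β * D.Wᵀ * J (Fin m) F) := by
        simp only [Matrix.mul_assoc]
    _ = 0 := by rw [D.iso]; simp

theorem TvData.alt_iff {t : symplecticGroup (Fin m) F} {β : Matrix κ κ F} (D : TvData t β) :
    AltM (J (Fin m) F * t.1) ↔ AltM β := by
  have key : ∀ v, v ⬝ᵥ (J (Fin m) F * t.1) *ᵥ v =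
      -(((D.Wᵀ * J (Fin m) F) *ᵥ v) ⬝ᵥ β *ᵥ ((D.Wᵀ * J (Fin m) F) *ᵥ v)) := fun v => by
    rw [dot_mul_mul, D.eq, Matrix.mul_add, add_mulVec, dotProduct_add, Matrix.mul_one,
      altM_J _ v, transpose_mul, J_transpose]
    simp [Matrix.mul_assoc, neg_mulVec]
  refine ⟨fun h u => ?_, fun h v => by rw [key, h, neg_zero]⟩
  have := h ((J (Fin m) F * D.Lᵀ) *ᵥ u)
  rw [key, mulVec_mulVec, Matrix.mul_assoc, ← Matrix.mul_assoc (J _ _), J_squared,
    Matrix.neg_mul, Matrix.one_mul, Matrix.mul_neg, ← transpose_mul, D.hL] at this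
  simpa [neg_mulVec, mulVec_neg] using this

theorem TvData.isConj {t t' : symplecticGroup (Fin m) F} {β β' : Matrix κ κ F} (D : TvData t β)
    (D' : TvData t' β') (P : GL κ F) (hP : P.1 * β * P.1ᵀ = β') : IsConj t t' := by
  obtain ⟨g, hg⟩ := witt_Sp (W := D.W) (W' := D'.W * P.1) (inj_of_left_inv D.hL)
    (inj_of_left_inv (L := P⁻¹.1 * D'.L) (by
      rw [Matrix.mul_assoc, ← Matrix.mul_assoc D'.L, D'.hL, Matrix.one_mul, Units.inv_mul]))
    (by
      have := D'.iso
      rw [D.iso, transpose_mul]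
      simp only [Matrix.mul_assoc] at this ⊢
      rw [← Matrix.mul_assoc (J _ _), ← Matrix.mul_assoc D'.Wᵀ, this]; simp)
  refine isConj_iff.2 ⟨g, ?_⟩
  rw [mul_inv_eq_iff_eq_mul]
  apply Subtype.ext
  change g.1 * t.1 = t'.1 * g.1
  rw [D.eq, D'.eq, sp_conj_iff]
  calc _ = (g.1 * D.W) * β * (g.1 * D.W)ᵀ := by simp only [transpose_mul, Matrix.mul_assoc]
    _ = D'.W * (P.1 * β * P.1ᵀ) * D'.Wᵀ := by simp only [hg, transpose_mul, Matrix.mul_assoc]
    _ = _ := by rw [hP]

theorem card_isom_transpose {β : Matrix κ κ F} (hβ : IsUnit β) :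
    Nat.card {A : Matrix κ κ F // A * β * Aᵀ = β} = Nat.card (IsomG β) := by
  rw [card_IsomG_eq hβ]
  exact Nat.card_congr (Equiv.subtypeEquiv ⟨transpose, transpose, fun _ => rfl, fun _ => rfl⟩
    fun _ => Iff.rfl)

theorem TvData.card_centralizer [Fintype F] {s : ℕ} {t : symplecticGroup (Fin m) F}
    {β : Matrix (Fin s) (Fin s) F} (D : TvData t β) :
    s ≤ m ∧ Nat.card (Subgroup.centralizer ({t} : Set (symplecticGroup (Fin m) F))) =
      Nat.card (IsomG β) * (Fintype.card F ^ (2 * m * s - (3 * s ^ 2 - s) / 2) *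
        ordSp (Fintype.card F) (m - s)) := by
  obtain ⟨h1, h2⟩ := card_stab_isotropic D.W (inj_of_left_inv D.hL) D.iso
  refine ⟨h1, ?_⟩
  have hmem : ∀ g : symplecticGroup (Fin m) F, g ∈ Subgroup.centralizer {t} ↔
      (g.1 * D.W) * β * (g.1 * D.W)ᵀ = D.W * β * D.Wᵀ := fun g => by
    rw [Subgroup.mem_centralizer_singleton_iff, Subtype.ext_iff]
    change g.1 * t.1 = t.1 * g.1 ↔ _
    rw [D.eq, sp_conj_iff, transpose_mul]
    simp only [Matrix.mul_assoc]
  have h8 : D.Wᵀ * D.Lᵀ = 1 := by rw [← transpose_mul, D.hL, transpose_one]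
  rw [card_subgroup_eq_orbit (G := symplecticGroup (Fin m) F) (fun g W => g.1 * W)
    (fun _ => Matrix.one_mul _) (fun _ _ _ => Matrix.mul_assoc _ _ _) D.W _
    (fun g hg => by rw [hmem]; simp only [hg]) (fun W' => ∃ A, A * β * Aᵀ = β ∧ W' = D.W * A) ?_,
    h2, ← card_isom_transpose D.unit]
  · congr 1
    symm
    refine Nat.card_eq_of_bijective (fun A => ⟨D.W * A.1, A.1, A.2, rfl⟩) ⟨fun A B h => ?_, ?_⟩
    · have := congrArg (D.L * ·) (congrArg Subtype.val h)
      simp only [← Matrix.mul_assoc, D.hL, Matrix.one_mul] at this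
      exact Subtype.ext this
    · rintro ⟨_, A, hA, rfl⟩
      exact ⟨⟨A, hA⟩, rfl⟩
  · intro W'
    constructor
    · rintro ⟨A, hA, rfl⟩
      have hAu : IsUnit A := isUnit_of_mul_isUnit_left (isUnit_of_mul_isUnit_left (hA.symm ▸ D.unit))
      obtain ⟨g, hg⟩ := witt_Sp (W := D.W) (W' := D.W * A) (inj_of_left_inv D.hL)
        (inj_of_left_inv (L := hAu.unit⁻¹.1 * D.L) (by
          rw [Matrix.mul_assoc, ← Matrix.mul_assoc D.L, D.hL, Matrix.one_mul, hAu.val_inv_mul]))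
        (by
          have := D.iso
          rw [D.iso, transpose_mul]
          simp only [Matrix.mul_assoc] at this ⊢
          rw [← Matrix.mul_assoc (J _ _), ← Matrix.mul_assoc D.Wᵀ, this]; simp)
      refine ⟨g, (hmem g).2 ?_, hg⟩
      calc _ = D.W * (A * β * Aᵀ) * D.Wᵀ := by simp only [hg, transpose_mul, Matrix.mul_assoc]
        _ = _ := by rw [hA]
    · rintro ⟨g, hg, rfl⟩
      rw [hmem] at hg
      have h9 : D.W * D.L * (g.1 * D.W) = g.1 * D.W := by
        have hi : ∃ L' : Matrix (Fin s) (Fin m ⊕ Fin m) F, L' * (g.1 * D.W) = 1 := ⟨D.L * (g⁻¹).1, by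
          rw [Matrix.mul_assoc, ← Matrix.mul_assoc (g⁻¹).1, ← Submonoid.coe_mul, inv_mul_cancel]
          simp [D.hL]⟩
        obtain ⟨L', hL'⟩ := hi
        have h10 : g.1 * D.W = D.W * (β * D.Wᵀ * L'ᵀ * D.unit.unit⁻¹.1) := by
          simp only [← Matrix.mul_assoc]
          rw [← hg, Matrix.mul_assoc _ _ L'ᵀ, ← transpose_mul, hL', transpose_one, Matrix.mul_one,
            Matrix.mul_assoc, D.unit.mul_val_inv, Matrix.mul_one]
        rw [h10, Matrix.mul_assoc, ← Matrix.mul_assoc D.L, D.hL, Matrix.one_mul]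
      refine ⟨D.L * (g.1 * D.W), ?_, by rw [← Matrix.mul_assoc, h9]⟩
      have := congrArg (fun X => D.L * X * D.Lᵀ) hg
      simp only [transpose_mul, Matrix.mul_assoc, h8, Matrix.mul_one] at this ⊢
      rw [this, ← Matrix.mul_assoc, D.hL, Matrix.one_mul]

theorem exists_tvData_of {s : ℕ} (hs : s ≤ m) {β : Matrix (Fin s) (Fin s) F} (hβ : βᵀ = β)
    (hu : IsUnit β) : ∃ t : symplecticGroup (Fin m) F, Nonempty (TvData t β) := by
  let W : Matrix (Fin m ⊕ Fin m) (Fin s) F := Matrix.of fun i j =>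
    if i = .inl (j.castLE hs) then 1 else 0
  have h0 : Wᵀ * J (Fin m) F * W = 0 := by
    ext a b
    rw [transpose_mul_mul_apply]
    change Cfsg.sympForm m F _ _ = 0
    simp [sympForm_eq, W]
  have hL : Wᵀ * W = 1 := by
    ext a b
    simp [W, mul_apply, one_apply, eq_comm]
  refine ⟨⟨1 + W * β * Wᵀ * J (Fin m) F, one_add_mem_sp (by simp [transpose_mul, hβ, Matrix.mul_assoc])
    ?_⟩, ⟨⟨W, Wᵀ, hL, hβ, hu, h0, rfl⟩⟩⟩
  simp only [Matrix.mul_assoc] at h0 ⊢
  rw [← Matrix.mul_assoc (J _ _), ← Matrix.mul_assoc Wᵀ, h0]; simp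

theorem altM_conj_iff {t t' : symplecticGroup (Fin m) F} (h : IsConj t t') :
    AltM (J (Fin m) F * t.1) ↔ AltM (J (Fin m) F * t'.1) := by
  have key : ∀ {t t' : symplecticGroup (Fin m) F}, IsConj t t' →
      AltM (J (Fin m) F * t'.1) → AltM (J (Fin m) F * t.1) := by
    intro t t' h h'
    obtain ⟨g, rfl⟩ := isConj_iff.1 h
    have := h'.congr g.1
    rwa [Matrix.mul_assoc, Matrix.mul_assoc, ← Submonoid.coe_mul, inv_mul_cancel_right,
      Submonoid.coe_mul, ← Matrix.mul_assoc, ← Matrix.mul_assoc,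
      SymplecticGroup.mem_iff'.1 g.2] at this
  exact ⟨key h.symm, key h⟩

theorem card_IsomG_congr {H : Matrix ι ι F} {H' : Matrix κ κ F} (hH : IsUnit H) (hH' : IsUnit H')
    {P : Matrix ι κ F} {Q : Matrix κ ι F} (h1 : P * Q = 1) (h2 : Q * P = 1)
    (h : Pᵀ * H * P = H') : Nat.card (IsomG H) = Nat.card (IsomG H') := by
  rw [card_IsomG_eq hH, card_IsomG_eq hH']
  have h3 : Pᵀ * Qᵀ = 1 := by rw [← transpose_mul, h2, transpose_one]
  have h4 : Qᵀ * Pᵀ = 1 := by rw [← transpose_mul, h1, transpose_one]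
  have e1 : ∀ (X : Matrix ι ι F), P * (Q * X) = X := fun X => by
    rw [← Matrix.mul_assoc, h1, Matrix.one_mul]
  have e2 : ∀ (X : Matrix ι κ F), P * (Q * X) = X := fun X => by
    rw [← Matrix.mul_assoc, h1, Matrix.one_mul]
  refine Nat.card_congr (Equiv.subtypeEquiv ⟨fun g => Q * g * P, fun g => P * g * Q,
    fun g => ?_, fun g => ?_⟩ fun g => ?_)
  · simp only [Matrix.mul_assoc, h1, Matrix.mul_one, e1]
  · simp only [Matrix.mul_assoc, h2, Matrix.mul_one]
    rw [← Matrix.mul_assoc, h2, Matrix.one_mul]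
  · subst h
    simp only [Equiv.coe_fn_mk, transpose_mul, Matrix.mul_assoc, e2]
    rw [← Matrix.mul_assoc Qᵀ, h4, Matrix.one_mul]
    constructor
    · intro h
      conv_rhs => rw [← h]
      simp only [Matrix.mul_assoc]
    · intro h
      have := congrArg (fun X => Qᵀ * X * Q) h
      simp only [Matrix.mul_assoc, h1, Matrix.mul_one] at this
      rwa [← Matrix.mul_assoc, h4, Matrix.one_mul, ← Matrix.mul_assoc Qᵀ, h4,
        Matrix.one_mul] at this

section Char2
variable [CharP F 2]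

theorem exists_congr_one [Finite F] {s : ℕ} {β : Matrix (Fin s) (Fin s) F} (hβ : βᵀ = β)
    (hu : IsUnit β) (hna : ¬ AltM β) : ∃ P : GL (Fin s) F, P.1ᵀ * β * P.1 = 1 := by
  obtain ⟨b, hb⟩ := Cfsg.Agent.S2622.result (n := s) (by simp) (Matrix.toBilin' β)
    ⟨fun x y => by
      rw [Matrix.toBilin'_apply', Matrix.toBilin'_apply', dotProduct_mulVec, ← mulVec_transpose, hβ,
        dotProduct_comm]⟩
    (Matrix.Nondegenerate.toBilin' (Matrix.nondegenerate_of_det_ne_zero
      ((isUnit_iff_isUnit_det _).1 hu).ne_zero))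
    (by
      by_contra h
      exact hna fun v => by rw [← Matrix.toBilin'_apply']; simpa using not_exists.1 h v)
  have h : (Matrix.of fun i j => b j i)ᵀ * β * (Matrix.of fun i j => b j i) = 1 := by
    ext i j
    rw [transpose_mul_mul_apply, one_apply, ← hb, Matrix.toBilin'_apply']
    rfl
  exact ⟨(isUnit_of_mul_isUnit_right (h ▸ isUnit_one)).unit, h⟩

theorem two_eq_zero_mat {μ : Type*} (X : Matrix ι μ F) : X + X = 0 := by
  ext; simp [CharTwo.add_self_eq_zero]

theorem sq_eq_one_iff_sub {t : Matrix ι ι F} : t * t = 1 ↔ (t - 1) * (t - 1) = 0 := by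
  have : (t - 1) * (t - 1) = t * t - 1 := by
    rw [Matrix.mul_sub, Matrix.sub_mul, Matrix.mul_one, Matrix.one_mul, sub_sub,
      add_sub, two_eq_zero_mat, zero_sub, sub_neg_eq_add, eq_sub_iff_add_eq, add_assoc,
      two_eq_zero_mat, add_zero]
  rw [this, sub_eq_zero]

/-- the alternating matrix `1 + 𝟙 𝟙ᵀ` -/
def onesM (ι : Type*) [DecidableEq ι] (F : Type*) [Field F] : Matrix ι ι F :=
  1 + vecMulVec 1 1

theorem onesM_transpose : (onesM ι F)ᵀ = onesM ι F := by
  rw [onesM, transpose_add, transpose_one, transpose_vecMulVec]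

theorem altM_onesM : AltM (onesM ι F) :=
  altM_of_skew (by rw [eq_neg_iff_add_eq_zero, onesM_transpose, two_eq_zero_mat])
    fun i => by simp [onesM, vecMulVec_apply, CharTwo.add_self_eq_zero]

theorem onesM_mulVec_one (h : Even (Fintype.card ι)) : onesM ι F *ᵥ 1 = 1 := by
  have : (Fintype.card ι : F) = 0 := (CharP.cast_eq_zero_iff F 2 _).2 h.two_dvd
  rw [onesM, add_mulVec, vecMulVec_mulVec]
  simp [dotProduct, this]

theorem isUnit_onesM (h : Even (Fintype.card ι)) : IsUnit (onesM ι F) := by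
  have : (Fintype.card ι : F) = 0 := (CharP.cast_eq_zero_iff F 2 _).2 h.two_dvd
  refine IsUnit.of_mul_eq_one (onesM ι F) ?_
  rw [onesM, Matrix.add_mul, Matrix.mul_add, Matrix.mul_add, vecMulVec_mul_vecMulVec]
  simp [dotProduct, this, add_assoc, two_eq_zero_mat]

theorem orth_mulVec_one {A : Matrix ι ι F} (h : A * Aᵀ = 1) : A *ᵥ 1 = 1 := by
  ext i
  have := congrFun (congrFun h i) i
  simp only [mul_apply, transpose_apply, one_apply_eq, ← sq] at this
  rw [← CharTwo.sum_sq] at this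
  have h2 : (∑ j, A i j - 1) ^ 2 = 0 := by
    rw [CharTwo.sub_eq_add, CharTwo.add_sq, this]; simp [CharTwo.add_self_eq_zero]
  simpa [mulVec, dotProduct, sub_eq_zero] using h2

theorem orth_iff_onesM (hι : Even (Fintype.card ι)) {A : Matrix ι ι F} :
    Aᵀ * A = 1 ↔ Aᵀ * onesM ι F * A = onesM ι F ∧ A *ᵥ 1 = 1 := by
  have key : Aᵀ *ᵥ 1 = 1 → Aᵀ * onesM ι F * A = Aᵀ * A + vecMulVec 1 1 := fun h => by
    rw [onesM, Matrix.mul_add, Matrix.add_mul, Matrix.mul_one, mul_vecMulVec, vecMulVec_mul, h,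
      ← mulVec_transpose, h]
  constructor
  · intro h
    refine ⟨?_, orth_mulVec_one (mul_eq_one_comm.1 h)⟩
    rw [key (orth_mulVec_one (by simpa using h)), h, onesM]
  · rintro ⟨h1, h2⟩
    have h3 := congrArg (· *ᵥ 1) h1
    simp only [← mulVec_mulVec, h2, onesM_mulVec_one hι] at h3
    rw [key h3, onesM] at h1
    exact add_right_cancel h1

theorem card_orth_even [Fintype F] {k : ℕ} (hι : Fintype.card ι = 2 * (k + 1)) :
    Nat.card (IsomG (1 : Matrix ι ι F)) = Fintype.card F ^ (2 * k + 1) * ordSp (Fintype.card F) k := by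
  have he : Even (Fintype.card ι) := hι ▸ even_two_mul _
  haveI : Nonempty ι := Fintype.card_pos_iff.1 (by omega)
  have h1 := card_group_eq_orbit (G := IsomG (onesM ι F)) (fun g (v : ι → F) => g.1.1 *ᵥ v)
    (fun _ => by simp) (fun _ _ _ => by simp) 1 (fun v => v ≠ 0) (fun v => ⟨fun hv => by
      have inj : ∀ v : ι → F, v ≠ 0 → Function.Injective (replicateCol Unit v).mulVec :=
        fun v hv => Matrix.mulVec_injective_iff.2 (linearIndependent_unique_iff.2 hv)
      obtain ⟨g, hg⟩ := witt_matrix (isUnit_onesM he) altM_onesM (inj 1 one_ne_zero) (inj v hv) (by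
        ext a b
        rw [transpose_mul_mul_apply, transpose_mul_mul_apply]
        exact (altM_onesM _).trans (altM_onesM _).symm)
      exact ⟨g, funext fun i => congrFun (congrFun hg i) ()⟩, by
        rintro ⟨g, rfl⟩ h
        exact one_ne_zero (Matrix.mulVec_injective_iff_isUnit.2 g.1.isUnit
          (h.trans (mulVec_zero _).symm))⟩)
  rw [card_IsomG_alt (isUnit_onesM he) altM_onesM hι, ordSp_succ] at h1
  have h2 : Nat.card {v : ι → F // v ≠ 0} = Fintype.card F ^ (2 * k + 2) - 1 := by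
    classical
    rw [Nat.card_eq_fintype_card, Fintype.card_subtype_compl, Fintype.card_fun, hι]
    simp [mul_add]
  have h3 : Nat.card (IsomG (1 : Matrix ι ι F)) =
      Nat.card {g : IsomG (onesM ι F) // g.1.1 *ᵥ 1 = 1} := by
    refine Nat.card_congr ⟨fun g => ⟨⟨g.1, ((orth_iff_onesM he).1 (by simpa using mem_IsomG.1 g.2)).1⟩,
      ((orth_iff_onesM he).1 (by simpa using mem_IsomG.1 g.2)).2⟩,
      fun g => ⟨g.1.1, mem_IsomG.2 (by simpa using (orth_iff_onesM he).2 ⟨g.1.2, g.2⟩)⟩,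
      fun _ => rfl, fun _ => rfl⟩
  rw [h2, ← h3] at h1
  have hq := Fintype.one_lt_card (α := F)
  have : 0 < Fintype.card F ^ (2 * k + 2) - 1 :=
    Nat.sub_pos_of_lt (Nat.one_lt_pow (by omega) hq)
  apply Nat.eq_of_mul_eq_mul_left this
  rw [← h1]; ring

theorem card_orth_odd [Fintype F] {k : ℕ} (hι : Fintype.card ι = 2 * k + 1) :
    Nat.card (IsomG (1 : Matrix ι ι F)) = ordSp (Fintype.card F) k := by
  have hc : Fintype.card (ι ⊕ Unit) = 2 * (k + 1) := by simp [hι]; ring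
  have he : Even (Fintype.card (ι ⊕ Unit)) := hc ▸ even_two_mul _
  let e₀ : ι ⊕ Unit → F := Pi.single (.inr ()) 1
  have h01 : e₀ ⬝ᵥ onesM (ι ⊕ Unit) F *ᵥ 1 = 1 := by rw [onesM_mulVec_one he]; simp [e₀]
  have h1 := card_group_eq_orbit (G := IsomG (onesM (ι ⊕ Unit) F))
    (fun g (v : (ι ⊕ Unit → F) × (ι ⊕ Unit → F)) => (g.1.1 *ᵥ v.1, g.1.1 *ᵥ v.2))
    (fun _ => by simp) (fun _ _ _ => by simp) (e₀, 1)
    (fun v => v.1 ⬝ᵥ onesM (ι ⊕ Unit) F *ᵥ v.2 = 1) (fun v => ⟨fun hv => by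
      have gram : ∀ v : (ι ⊕ Unit → F) × (ι ⊕ Unit → F), v.1 ⬝ᵥ onesM (ι ⊕ Unit) F *ᵥ v.2 = 1 →
          (Matrix.of fun i => ![v.1 i, v.2 i])ᵀ * onesM (ι ⊕ Unit) F *
            (Matrix.of fun i => ![v.1 i, v.2 i]) = !![0, 1; 1, 0] := fun v hv => by
        have h21 : v.2 ⬝ᵥ onesM (ι ⊕ Unit) F *ᵥ v.1 = 1 := by
          rw [dotProduct_mulVec, ← mulVec_transpose, dotProduct_comm, ← hv, onesM_transpose]
        ext a b
        rw [transpose_mul_mul_apply]
        fin_cases a <;> fin_cases b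
        · exact altM_onesM _
        · exact hv
        · exact h21
        · exact altM_onesM _
      have inj : ∀ v : (ι ⊕ Unit → F) × (ι ⊕ Unit → F), v.1 ⬝ᵥ onesM (ι ⊕ Unit) F *ᵥ v.2 = 1 →
          Function.Injective (Matrix.of fun i => ![v.1 i, v.2 i]).mulVec := fun v hv =>
        inj_of_left_inv (L := (!![0, 1; 1, 0] : Matrix (Fin 2) (Fin 2) F) * ((Matrix.of fun i => ![v.1 i, v.2 i])ᵀ *
          onesM (ι ⊕ Unit) F)) (by
            rw [Matrix.mul_assoc, gram v hv]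
            ext a b; fin_cases a <;> fin_cases b <;> simp)
      obtain ⟨g, hg⟩ := witt_matrix (isUnit_onesM he) altM_onesM (inj (e₀, 1) h01) (inj v hv)
        ((gram _ h01).trans (gram _ hv).symm)
      exact ⟨g, Prod.ext (funext fun i => congrFun (congrFun hg i) 0)
        (funext fun i => congrFun (congrFun hg i) 1)⟩, by
        rintro ⟨g, rfl⟩
        rw [dot_mul_mul, g.2, h01]⟩)
  rw [card_IsomG_alt (isUnit_onesM he) altM_onesM hc, ordSp_succ] at h1
  have h2 := card_hyp_pairs (altM_onesM (ι := ι ⊕ Unit) (F := F)).isAlt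
    (toBilin'_nondeg (isUnit_onesM he)) (k := 0) (u := Fin.elim0) (v := Fin.elim0)
    ⟨by simp, by simp, by simp⟩ (n := 2 * k + 1) (by rw [finrank_fintype_fun_eq_card, hc]; ring)
  simp only [IsEmpty.forall_iff, true_and, Matrix.toBilin'_apply'] at h2
  have h3 : Nat.card (IsomG (1 : Matrix ι ι F)) = Nat.card {g : IsomG (onesM (ι ⊕ Unit) F) //
      (g.1.1 *ᵥ e₀, g.1.1 *ᵥ 1) = (e₀, 1)} := by
    rw [card_IsomG_eq isUnit_one]
    have hb : ∀ A : {g : Matrix ι ι F // gᵀ * 1 * g = 1},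
        (fromBlocks A.1 0 0 (1 : Matrix Unit Unit F))ᵀ * fromBlocks A.1 0 0 1 = 1 := fun A => by
      have := A.2
      rw [Matrix.mul_one] at this
      simp [fromBlocks_transpose, fromBlocks_multiply, this]
    refine Nat.card_eq_of_bijective (fun A => ⟨⟨(isUnit_of_mul_isUnit_right
      ((hb A).symm ▸ isUnit_one)).unit, ((orth_iff_onesM he).1 (hb A)).1⟩,
        Prod.ext ?_ ((orth_iff_onesM he).1 (hb A)).2⟩) ⟨fun A B h => ?_, ?_⟩
    · ext (i | i) <;> simp [e₀]
    · have := congrArg (fun g => g.1.1.1) h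
      exact Subtype.ext (fromBlocks_inj.1 this).1
    · rintro ⟨g, hg⟩
      have h4 : g.1.1 *ᵥ e₀ = e₀ := congrArg Prod.fst hg
      have h5 := (orth_iff_onesM he).2 ⟨g.2, congrArg Prod.snd hg⟩
      have h6 : g.1.1ᵀ *ᵥ e₀ = e₀ := by
        conv_lhs => rw [← h4, mulVec_mulVec, h5, one_mulVec]
      have h7 : g.1.1 = fromBlocks g.1.1.toBlocks₁₁ 0 0 1 := by
        ext (i | i) (j | j)
        · rfl
        · simpa [e₀] using congrFun h4 (.inl i)
        · simpa [e₀] using congrFun h6 (.inl j)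
        · simpa [e₀] using congrFun h4 (.inr i)
      refine ⟨⟨g.1.1.toBlocks₁₁, ?_⟩, Subtype.ext (Subtype.ext (Units.ext h7.symm))⟩
      rw [h7, fromBlocks_transpose, fromBlocks_multiply, ← fromBlocks_one] at h5
      simpa using (fromBlocks_inj.1 h5).1
  rw [h2, ← h3] at h1
  have hq := Fintype.one_lt_card (α := F)
  have : 0 < (Fintype.card F ^ (2 * k + 1 + 1) - 1) * Fintype.card F ^ (2 * k + 1) :=
    Nat.mul_pos (Nat.sub_pos_of_lt (Nat.one_lt_pow (by omega) hq)) (by positivity)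
  apply Nat.eq_of_mul_eq_mul_left this
  rw [← h1]; ring

theorem card_IsomG_nonalt [Finite F] {s : ℕ} {β : Matrix (Fin s) (Fin s) F} (hβ : βᵀ = β)
    (hu : IsUnit β) (hna : ¬ AltM β) :
    Nat.card (IsomG β) = Nat.card (IsomG (1 : Matrix (Fin s) (Fin s) F)) := by
  obtain ⟨P, hP⟩ := exists_congr_one hβ hu hna
  exact card_IsomG_congr hu isUnit_one P.mul_inv P.inv_mul hP

theorem sp_sq_iff {t : symplecticGroup (Fin m) F} : t ^ 2 = 1 ↔ (t.1 - 1) * (t.1 - 1) = 0 := by
  rw [← sq_eq_one_iff_sub, sq, Subtype.ext_iff]; rfl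

end Char2

end CfsgH1
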